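import Cfsg.Agent.Mrg.Omega.Half.Basic
import Cfsg.Agent.Mrg.Omega.NO3S.Basic
import Cfsg.Agent.Mrg.Omega.VP
import Cfsg.Agent.Mrg.Omega.NO3L.LemP

-- merged: Cfsg.Agent.Mrg.Omega.OM.KTwo.Pt
section

section


/-!
# NO-3S, sums of natural `SL₂(2)`-modules: the points of a block (project OMEGA, helper790 #14826 (1))

`M : NatK F S P V ⊥ k` with `|F| = 2`, `B` a block of `S` (`Half.NatA.Blk`), `V_B = fac M B`, `T = So M B = N_S(V_B)`.

* `pt M B` : the vector with all coordinates `(1, 0)` in `B` and `0` outside; `z = pt M univ`, `v_B = pt M B`;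
* `conj_pt`, `fix` : `S` permutes them as it permutes the blocks; `T` centralises `v_B`;
* `fix_cases` : `C_V(T) = ⟨v_B, v_B'⟩`; `fix_fac` : `C_{V_B}(T) = ⟨v_B⟩`;
* `mem_zc_iff` : `Ω₁Z(S) = ⟨z⟩`;
* `mem_zc_So_iff` : `Ω₁Z(T) = ⟨v_B, v_B'⟩ = Y`; `card_zc_So` : `|Y| = 4`.
-/

set_option autoImplicit false
set_option linter.unusedSectionVars false

namespace Cfsg.Agent.Omega.OM.KTwo

open Subgroup Cfsg Cfsg.Agent.ZN Cfsg.Agent.Omega.FFThm Cfsg.Agent.Omega.MinPar
open Cfsg.Agent.Omega.Half Cfsg.Agent.Omega.Half.NatA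
open Cfsg.Agent.Omega.NatPair (ap ap_one ext2 ap_zero' ap_one')
open Cfsg.Agent.Lib.SL2Mat (up up_00 up_01)
open Cfsg.Agent.MinSimple.VModule (mem_zc zc_le normalizer_le_normalizer_zc)

universe u

/-! ### The field with two elements -/

section field

variable {F : Type} [Field F]

theorem elt_cases (hq : Nat.card F = 2) (a : F) : a = 0 ∨ a = 1 := by
  obtain ⟨b, -, hb⟩ := (Nat.card_eq_two_iff' (0 : F)).1 hq
  by_cases h : a = 0
  · exact Or.inl h
  · right
    rw [hb a h, hb 1 one_ne_zero]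

theorem vec_cases (hq : Nat.card F = 2) {x : Fin 2 → F} (h : x 1 = 0) : x = 0 ∨ x = ![1, 0] := by
  rcases elt_cases hq (x 0) with h0 | h0
  · left
    exact ext2 h0 h
  · right
    exact ext2 h0 h

theorem e11_ne : (![1, 0] : Fin 2 → F) ≠ 0 := fun h => one_ne_zero (congrFun h 0)

end field

variable {G : Type u} [Group G] {F : Type} [Field F] {T H V : Subgroup G} {k : ℕ}

section pt

variable (M : NatK F T H V ⊥ k)

open Classical in
/-- the vector with all coordinates `(1, 0)` in `B` and `0` outside -/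
noncomputable def pt (B : Set (Fin k)) : G := (M.surj fun i => if i ∈ B then ![1, 0] else 0).choose

theorem pt_V (B : Set (Fin k)) : pt M B ∈ V := by
  classical
  exact (M.surj fun i => if i ∈ B then ![1, 0] else 0).choose_spec.1

theorem e_pt_mem {B : Set (Fin k)} {i : Fin k} (hi : i ∈ B) : M.e (pt M B) i = ![1, 0] := by
  classical
  have h := (M.surj fun i => if i ∈ B then ![1, 0] else 0).choose_spec.2
  exact (congrFun h i).trans (if_pos hi)

theorem e_pt_not {B : Set (Fin k)} {i : Fin k} (hi : i ∉ B) : M.e (pt M B) i = 0 := by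
  classical
  have h := (M.surj fun i => if i ∈ B then ![1, 0] else 0).choose_spec.2
  exact (congrFun h i).trans (if_neg hi)

theorem pt_mem (B : Set (Fin k)) : pt M B ∈ fac M B := ⟨pt_V M B, fun _ hi => e_pt_not M hi⟩

theorem e_pt_one (B : Set (Fin k)) (i : Fin k) : M.e (pt M B) i 1 = 0 := by
  by_cases hi : i ∈ B
  · rw [e_pt_mem M hi]; rfl
  · rw [e_pt_not M hi]; rfl

theorem pt_ne {B : Set (Fin k)} (hB : B.Nonempty) : pt M B ≠ 1 := by
  intro h
  obtain ⟨i, hi⟩ := hB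
  have h1 := e_pt_mem M hi
  rw [h, e_one] at h1
  exact e11_ne h1.symm

theorem e_pt_ne_iff {B : Set (Fin k)} {i : Fin k} : M.e (pt M B) i = 0 ↔ i ∉ B := by
  constructor
  · intro h hi
    rw [e_pt_mem M hi] at h
    exact e11_ne h
  · exact e_pt_not M

theorem pt_mul (B : Set (Fin k)) : pt M B * pt M Bᶜ = pt M Set.univ := by
  apply inj M (mul_mem (pt_V M B) (pt_V M _)) (pt_V M _)
  rw [M.mul _ (pt_V M B) _ (pt_V M _)]
  funext i
  rw [Pi.add_apply, e_pt_mem M (Set.mem_univ i)]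
  by_cases hi : i ∈ B
  · rw [e_pt_mem M hi, e_pt_not M fun h : i ∈ Bᶜ => h hi, add_zero]
  · rw [e_pt_not M hi, e_pt_mem M hi, zero_add]

theorem pt_ne_of_ne {B C : Set (Fin k)} (h : B ≠ C) : pt M B ≠ pt M C := by
  intro h1
  apply h
  ext i
  have h2 := e_pt_ne_iff M (B := B) (i := i)
  rw [h1, e_pt_ne_iff] at h2
  exact (not_iff_not.1 h2).symm

end pt

section fix

variable {M : NatK F T H V ⊥ k} {B : Set (Fin k)} (hq : Nat.card F = 2) (hA : Amb T H V)

include hA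

theorem sq_one {x : G} (hx : x ∈ V) : x * x = 1 := by
  have := hA.sq x hx
  rwa [pow_two] at this

include hq

/-- `T` permutes the vectors `pt M B`. -/
theorem conj_pt {t : G} (ht : t ∈ T) {σ : Equiv.Perm (Fin k)} (hσ : Mv M t σ) (B : Set (Fin k)) :
    t * pt M B * t⁻¹ = pt M (σ '' B) := by
  apply inj M (hA.conj_mem (hA.TH ht) (pt_V M B)) (pt_V M _)
  funext j
  obtain ⟨ρ, hρ⟩ := M.line t ht
  have h1 : M.e (t * pt M B * t⁻¹) j 1 = 0 := by
    have h2 := (hρ _ (pt_V M B) (ρ.symm j)).2 (e_pt_one M B _)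
    rwa [ρ.apply_symm_apply] at h2
  have h2 : M.e (t * pt M B * t⁻¹) j = 0 ↔ j ∉ σ '' B := by
    have h3 := hσ _ (pt_V M B) (σ.symm j)
    rw [σ.apply_symm_apply, e_pt_ne_iff] at h3
    rw [h3, Equiv.image_eq_preimage_symm]
    rfl
  by_cases hj : j ∈ σ '' B
  · rw [e_pt_mem M hj]
    exact (vec_cases hq h1).resolve_left fun h => (h2.1 h) hj
  · rw [e_pt_not M hj]
    exact h2.2 hj

theorem fix_univ {t : G} (ht : t ∈ T) : t * pt M Set.univ * t⁻¹ = pt M Set.univ := by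
  obtain ⟨σ, hσ⟩ := M.perm t (hA.TH ht)
  rw [conj_pt hq hA ht hσ, Set.image_univ, σ.surjective.range_eq]

/-- `T = N_S(V_B)` centralises `v_B`. -/
theorem fix (hB : Blk M B) {t : G} (ht : t ∈ So M B) : t * pt M B * t⁻¹ = pt M B := by
  obtain ⟨σ, hσ⟩ := M.perm t (hA.TH ht.1)
  rw [conj_pt hq hA ht.1 hσ, (mem_So hA hB ht.1 hσ).1 ht]

omit hq in
/-- the upper unitriangular elements are in `So` -/
theorem exists_unip : ∃ t ∈ T, (Mv M t 1) ∧ ∀ v ∈ V, ∀ i, M.e (t * v * t⁻¹) i = ap (up 1) (M.e v i) := by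
  obtain ⟨t, ht, h1, -⟩ := M.unip fun _ => 1
  refine ⟨t, ht, fun v hv i => ?_, h1⟩
  rw [Equiv.Perm.one_apply, h1 v hv i]
  constructor
  · intro h2
    have h3 : ap (up (1 : F))⁻¹ (ap (up 1) (M.e v i)) = M.e v i := Cfsg.Agent.Omega.NatPair.ap_inv_ap _ _
    rw [h2, ap_zero] at h3
    exact h3.symm
  · intro h2
    rw [h2, ap_zero]

omit hq in
theorem line_of_fix (hB : Blk M B) {v : G} (hv : v ∈ V) (hfix : ∀ t ∈ So M B, t * v * t⁻¹ = v) (i : Fin k) :
    M.e v i 1 = 0 := by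
  obtain ⟨t, ht, h1, h2⟩ := exists_unip (M := M) hA
  have h3 : t ∈ So M B := by
    rw [mem_So hA hB ht h1]
    simp
  have h4 := h2 v hv i
  rw [hfix t h3] at h4
  have h5 := congrFun h4 0
  rw [ap_zero', up_00, up_01, one_mul, one_mul] at h5
  exact left_eq_add.1 h5

omit hq in
theorem zero_iff (hB : Blk M B) {v : G} (hv : v ∈ V) (hfix : ∀ t ∈ So M B, t * v * t⁻¹ = v) {i j : Fin k}
    (hi : i ∈ B) (hj : j ∈ B) : M.e v i = 0 ↔ M.e v j = 0 := by
  obtain ⟨t, ht, σ, hσ, h1⟩ := exists_move hA hB hi hj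
  have h2 := hσ v hv i
  rw [hfix t ht, h1] at h2
  exact h2.symm

/-- `C_V(T) = ⟨v_B, v_B'⟩`. -/
theorem fix_cases (hB : Blk M B) {v : G} (hv : v ∈ V) (hfix : ∀ t ∈ So M B, t * v * t⁻¹ = v) :
    v = 1 ∨ v = pt M B ∨ v = pt M Bᶜ ∨ v = pt M Set.univ := by
  have hl := line_of_fix hA hB hv hfix
  have hfix' : ∀ t ∈ So M Bᶜ, t * v * t⁻¹ = v := by
    rw [So_compl hA hB]
    exact hfix
  obtain ⟨i, hi⟩ := hB.ne
  obtain ⟨j, hj⟩ := hB.ne'
  have key : ∀ x, M.e v x = 0 ∨ M.e v x = ![1, 0] := fun x => vec_cases hq (hl x)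
  have hbi : ∀ x ∈ B, M.e v x = M.e v i := by
    intro x hx
    have h1 := zero_iff hA hB hv hfix hx hi
    rcases key x with h2 | h2 <;> rcases key i with h3 | h3
    · rw [h2, h3]
    · rw [h1.1 h2] at h3
      exact absurd h3.symm e11_ne
    · rw [h1.2 h3] at h2
      exact absurd h2.symm e11_ne
    · rw [h2, h3]
  have hbj : ∀ x ∉ B, M.e v x = M.e v j := by
    intro x hx
    have h1 := zero_iff hA hB.compl hv hfix' (i := x) (j := j) hx hj
    rcases key x with h2 | h2 <;> rcases key j with h3 | h3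
    · rw [h2, h3]
    · rw [h1.1 h2] at h3
      exact absurd h3.symm e11_ne
    · rw [h1.2 h3] at h2
      exact absurd h2.symm e11_ne
    · rw [h2, h3]
  have eqv : ∀ C : Set (Fin k), (∀ x, M.e v x = M.e (pt M C) x) → v = pt M C :=
    fun C h => inj M hv (pt_V M C) (funext h)
  rcases key i with h2 | h2 <;> rcases key j with h3 | h3
  · left
    apply eq_one M hv
    funext x
    by_cases hx : x ∈ B
    · rw [hbi x hx, h2]; rfl
    · rw [hbj x hx, h3]; rfl
  · right; right; left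
    refine eqv _ fun x => ?_
    by_cases hx : x ∈ B
    · rw [hbi x hx, h2, e_pt_not M fun h : x ∈ Bᶜ => h hx]
    · rw [hbj x hx, h3, e_pt_mem M hx]
  · right; left
    refine eqv _ fun x => ?_
    by_cases hx : x ∈ B
    · rw [hbi x hx, h2, e_pt_mem M hx]
    · rw [hbj x hx, h3, e_pt_not M hx]
  · right; right; right
    refine eqv _ fun x => ?_
    rw [e_pt_mem M (Set.mem_univ x)]
    by_cases hx : x ∈ B
    · rw [hbi x hx, h2]
    · rw [hbj x hx, h3]

omit hq hA in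
theorem compl_ne (hB : Blk M B) : B ≠ Bᶜ := by
  obtain ⟨i, hi⟩ := hB.ne
  intro h
  have h1 : i ∈ Bᶜ := h ▸ hi
  exact h1 hi

omit hq hA in
theorem ne_univ (hB : Blk M B) : B ≠ Set.univ := by
  obtain ⟨i, hi⟩ := hB.ne'
  intro h
  exact hi (h ▸ Set.mem_univ i)

/-- `C_{V_B}(T) = ⟨v_B⟩`. -/
theorem fix_fac (hB : Blk M B) {v : G} (hv : v ∈ fac M B) (hfix : ∀ t ∈ So M B, t * v * t⁻¹ = v) :
    v = 1 ∨ v = pt M B := by
  obtain ⟨j, hj⟩ := hB.ne'
  have h0 := hv.2 j hj
  rcases fix_cases hq hA hB hv.1 hfix with h | h | h | h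
  · exact Or.inl h
  · exact Or.inr h
  · rw [h, e_pt_mem M hj] at h0
    exact absurd h0 e11_ne
  · rw [h, e_pt_mem M (Set.mem_univ j)] at h0
    exact absurd h0 e11_ne

/-- `Ω₁Z(S) = ⟨z⟩`. -/
theorem mem_zc_iff (hB : Blk M B) {x : G} : x ∈ zc T ↔ x = 1 ∨ x = pt M Set.univ := by
  constructor
  · intro hx
    have hV := hA.zc hx
    have hc : ∀ t ∈ T, t * x * t⁻¹ = x := fun t ht => by
      rw [(mem_zc.1 hx).2.1 t ht]
      group
    rcases fix_cases hq hA hB hV (fun t ht => hc t ht.1) with h | h | h | h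
    · exact Or.inl h
    · exfalso
      obtain ⟨s, hs, hns⟩ := exists_swap hA hB
      obtain ⟨σ, hσ⟩ := exists_mv (M := M) hA hs
      have h1 := hB.blk s hs σ hσ
      have h2 : σ '' B = Bᶜ := h1.resolve_left fun h3 => hns ((mem_So hA hB hs hσ).2 h3)
      have h3 := conj_pt hq hA hs hσ B
      rw [← h, hc s hs, h, h2] at h3
      exact pt_ne_of_ne M (compl_ne hB) h3
    · exfalso
      obtain ⟨s, hs, hns⟩ := exists_swap hA hB.compl
      obtain ⟨σ, hσ⟩ := exists_mv (M := M) hA hs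
      have h1 := hB.compl.blk s hs σ hσ
      have h2 : σ '' Bᶜ = Bᶜᶜ := h1.resolve_left fun h3 => hns ((mem_So hA hB.compl hs hσ).2 h3)
      have h3 := conj_pt hq hA hs hσ Bᶜ
      rw [← h, hc s hs, h, h2] at h3
      exact pt_ne_of_ne M (compl_ne hB.compl) h3
    · exact Or.inr h
  · rintro (rfl | rfl)
    · exact one_mem _
    · refine mem_zc.2 ⟨hA.VT (pt_V M _), fun t ht => ?_, hA.sq _ (pt_V M _)⟩
      have h1 := fix_univ (M := M) hq hA ht
      calc t * pt M Set.univ = t * pt M Set.univ * t⁻¹ * t := by group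
        _ = pt M Set.univ * t := by rw [h1]

end fix

/-! ### `Ω₁Z(T)`, `T = N_S(V_B)` -/

section zcSo

variable {M : NatK F T H V ⊥ k} {B : Set (Fin k)} (hq : Nat.card F = 2) (hA : Amb T H V) (hB : Blk M B)

include hA hB

theorem So_mul {a b : G} (ha : a ∈ T) (hb : b ∈ T) (ha' : a ∉ So M B) (hb' : b ∉ So M B) : a * b ∈ So M B := by
  obtain ⟨σ, hσ⟩ := exists_mv (M := M) hA ha
  obtain ⟨ρ, hρ⟩ := exists_mv (M := M) hA hb
  have h1 : Mv M (a * b) (σ * ρ) := by
    intro v hv i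
    have e1 : a * b * v * (a * b)⁻¹ = a * (b * v * b⁻¹) * a⁻¹ := by group
    rw [e1, Equiv.Perm.mul_apply, hσ _ (hA.conj_mem (hA.TH hb) hv), hρ v hv]
  rw [mem_So hA hB ha hσ] at ha'
  rw [mem_So hA hB hb hρ] at hb'
  rw [mem_So hA hB (mul_mem ha hb) h1]
  have h2 := (hB.blk a ha σ hσ).resolve_left ha'
  have h3 := (hB.blk b hb ρ hρ).resolve_left hb'
  rw [Equiv.Perm.coe_mul, Set.image_comp, h3, image_compl, h2, compl_compl]

theorem le_normalizer_So : T ≤ normalizer (So M B : Set G) := by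
  have key : ∀ s ∈ T, ∀ t ∈ So M B, s * t * s⁻¹ ∈ So M B := by
    intro s hs t ht
    by_cases hsS : s ∈ So M B
    · exact mul_mem (mul_mem hsS ht) (inv_mem hsS)
    · by_contra h1
      have h2 := So_mul hA hB (mul_mem (mul_mem hs ht.1) (inv_mem hs)) hs h1 hsS
      have h3 : s * t * s⁻¹ * s = s * t := by group
      rw [h3] at h2
      exact hsS ((Subgroup.mul_mem_cancel_right _ ht).1 h2)
  intro s hs
  rw [mem_normalizer_iff]
  intro t
  refine ⟨key s hs t, fun h => ?_⟩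
  have := key s⁻¹ (inv_mem hs) _ h
  simpa [mul_assoc] using this

theorem V_le_So : V ≤ So M B := by
  refine le_inf hA.VT fun v hv => ?_
  rw [mem_normalizer_iff]
  intro x
  constructor
  · intro hx
    have : v * x * v⁻¹ = x := by rw [hA.comm v hv x hx.1]; group
    rwa [this]
  · intro hx
    have h1 := hA.comm v hv _ hx.1
    have h2 : x = v * x * v⁻¹ := by
      have h3 : v * (v * x * v⁻¹) = v * x := by rw [h1]; group
      exact (mul_left_cancel h3).symm
    rwa [h2]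

include hq

/-- an element of `S` outside `T` exchanges `v_B` and `v_B'` -/
theorem conj_swap {s : G} (hs : s ∈ T) (hns : s ∉ So M B) : s * pt M B * s⁻¹ = pt M Bᶜ := by
  obtain ⟨σ, hσ⟩ := exists_mv (M := M) hA hs
  have h1 := hB.blk s hs σ hσ
  have h2 : σ '' B = Bᶜ := h1.resolve_left fun h3 => hns ((mem_So hA hB hs hσ).2 h3)
  rw [conj_pt hq hA hs hσ, h2]

theorem conj_swap' {s : G} (hs : s ∈ T) (hns : s ∉ So M B) : s * pt M Bᶜ * s⁻¹ = pt M B := by
  have hns' : s ∉ So M Bᶜ := by rwa [So_compl hA hB]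
  rw [conj_swap hq hA hB.compl hs hns', compl_compl]

theorem pt_mem_zc_So : pt M B ∈ zc (So M B) := by
  refine mem_zc.2 ⟨V_le_So hA hB (pt_V M B), fun t ht => ?_, hA.sq _ (pt_V M _)⟩
  have h1 := fix hq hA hB ht
  calc t * pt M B = t * pt M B * t⁻¹ * t := by group
    _ = pt M B * t := by rw [h1]

theorem pt_compl_mem_zc_So : pt M Bᶜ ∈ zc (So M B) := by
  have h := pt_mem_zc_So hq hA hB.compl
  rwa [So_compl hA hB] at h

theorem fixT {s x : G} (hs : s ∈ T) (hns : s ∉ So M B) (hx : x ∈ zc (So M B)) (h1 : s * x * s⁻¹ = x) :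
    x ∈ zc T := by
  refine mem_zc.2 ⟨(mem_zc.1 hx).1.1, fun t ht => ?_, (mem_zc.1 hx).2.2⟩
  by_cases htS : t ∈ So M B
  · exact (mem_zc.1 hx).2.1 t htS
  · have h2 : t * s ∈ So M B := So_mul hA hB ht hs htS hns
    have h3 := (mem_zc.1 hx).2.1 _ h2
    have h4 : s * x = x * s := by
      calc s * x = s * x * s⁻¹ * s := by group
        _ = x * s := by rw [h1]
    have h5 : t * x * s = x * t * s := by
      rw [mul_assoc t x s, ← h4, ← mul_assoc, h3, mul_assoc]
    exact mul_right_cancel h5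

/-- **`Ω₁Z(T) = ⟨v_B, v_B'⟩`.** -/
theorem mem_zc_So_iff {x : G} : x ∈ zc (So M B) ↔ x = 1 ∨ x = pt M B ∨ x = pt M Bᶜ ∨ x = pt M Set.univ := by
  constructor
  · intro hx
    obtain ⟨s, hs, hns⟩ := exists_swap hA hB
    have hss : s * s ∈ So M B := So_mul hA hB hs hs hns hns
    have hsx : s * x * s⁻¹ ∈ zc (So M B) :=
      (mem_normalizer_iff.1 (normalizer_le_normalizer_zc _ (le_normalizer_So hA hB hs)) x).1 hx
    have hcomm : x * (s * x * s⁻¹) = (s * x * s⁻¹) * x := (mem_zc.1 hsx).2.1 _ (mem_zc.1 hx).1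
    have hxx : ∀ y ∈ zc (So M B), y * y = 1 := fun y hy => by
      have := (mem_zc.1 hy).2.2
      rwa [pow_two] at this
    have hyT : x * (s * x * s⁻¹) ∈ zc T := by
      refine fixT hq hA hB hs hns (mul_mem hx hsx) ?_
      have h1 : s * s * x = x * (s * s) := (mem_zc.1 hx).2.1 _ hss
      calc s * (x * (s * x * s⁻¹)) * s⁻¹ = (s * x * s⁻¹) * (s * s * x * (s * s)⁻¹) := by group
        _ = (s * x * s⁻¹) * x := by rw [h1]; group
        _ = x * (s * x * s⁻¹) := hcomm.symm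
    rcases (mem_zc_iff hq hA hB).1 hyT with h1 | h1
    · have h2 : s * x * s⁻¹ = x := by
        have h3 : x * (s * x * s⁻¹) = x * x := by rw [h1, hxx x hx]
        exact mul_left_cancel h3
      rcases (mem_zc_iff hq hA hB).1 (fixT hq hA hB hs hns hx h2) with h4 | h4
      · exact Or.inl h4
      · exact Or.inr (Or.inr (Or.inr h4))
    · have hb := pt_mem_zc_So hq hA hB
      have hx' : x * pt M B ∈ zc (So M B) := mul_mem hx hb
      have h2 : s * (x * pt M B) * s⁻¹ = x * pt M B := by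
        have e1 : s * (x * pt M B) * s⁻¹ = (s * x * s⁻¹) * (s * pt M B * s⁻¹) := by group
        have e2 : s * x * s⁻¹ = x * pt M Set.univ := by
          rw [← h1, ← mul_assoc, hxx x hx, one_mul]
        rw [e1, e2, conj_swap hq hA hB hs hns, ← pt_mul M B, ← mul_assoc, mul_assoc _ (pt M Bᶜ) (pt M Bᶜ),
          sq_one hA (pt_V M _), mul_one]
      rcases (mem_zc_iff hq hA hB).1 (fixT hq hA hB hs hns hx' h2) with h4 | h4
      · right; left
        calc x = x * (pt M B * pt M B) := by rw [sq_one hA (pt_V M _), mul_one]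
          _ = x * pt M B * pt M B := by group
          _ = pt M B := by rw [h4, one_mul]
      · right; right; left
        calc x = x * (pt M B * pt M B) := by rw [sq_one hA (pt_V M _), mul_one]
          _ = x * pt M B * pt M B := by group
          _ = pt M B * pt M Bᶜ * pt M B := by rw [h4, pt_mul]
          _ = pt M B * (pt M Bᶜ * pt M B) := by group
          _ = pt M B * (pt M B * pt M Bᶜ) := by rw [hA.comm _ (pt_V M Bᶜ) _ (pt_V M B)]
          _ = pt M Bᶜ := by rw [← mul_assoc, sq_one hA (pt_V M _), one_mul]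
  · rintro (rfl | rfl | rfl | rfl)
    · exact one_mem _
    · exact pt_mem_zc_So hq hA hB
    · exact pt_compl_mem_zc_So hq hA hB
    · rw [← pt_mul M B]
      exact mul_mem (pt_mem_zc_So hq hA hB) (pt_compl_mem_zc_So hq hA hB)

theorem card_zc_So : Nat.card (zc (So M B)) = 4 := by
  have h1 : ((zc (So M B) : Subgroup G) : Set G) = {1, pt M B, pt M Bᶜ, pt M Set.univ} := by
    ext x
    rw [SetLike.mem_coe, mem_zc_So_iff hq hA hB]
    simp
  have h2 : Nat.card (zc (So M B)) = ((zc (So M B) : Subgroup G) : Set G).ncard := rfl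
  have n1 : pt M B ≠ 1 := pt_ne M hB.ne
  have n2 : pt M Bᶜ ≠ 1 := pt_ne M hB.ne'
  have n3 : pt M Set.univ ≠ 1 := pt_ne M (hB.ne.mono (Set.subset_univ _))
  have n4 : pt M B ≠ pt M Bᶜ := pt_ne_of_ne M (compl_ne hB)
  have n5 : pt M B ≠ pt M Set.univ := pt_ne_of_ne M (ne_univ hB)
  have n6 : pt M Bᶜ ≠ pt M Set.univ := pt_ne_of_ne M (ne_univ hB.compl)
  rw [h2, h1, Set.ncard_insert_of_notMem, Set.ncard_insert_of_notMem, Set.ncard_pair n6]
  · simp [n4, n5]
  · simp [n1.symm, n2.symm, n3.symm]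

end zcSo

end Cfsg.Agent.Omega.OM.KTwo

end

section


/-!
# NO-3S, sums of natural `SL₂(2)`-modules: `T` is a Sylow subgroup of `C_G(v_B)` (helper790 #14826 (1))

`h : Hyp S P`, `M : NatK F S P V_P ⊥ k`, `|F| = 2`, `B` a block of `S`, `T = So M B = N_S(V_B)`, `v_B = pt M B`,
`z = pt M univ`, `Ω₁Z(S) = ⟨z⟩`, `Y = Ω₁Z(T) = ⟨v_B, v_B'⟩`.

* `gen_fac` : `P = ⟨S, C_P(V_B), C_P(V_B')⟩`;
* `nonLoc_of_par` : `P' ∈ P*(S)`, `P' ≤ N_G(T)` implies `|V_P'| = 4` and `⟨P', C_G(z)⟩` nonlocal;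
* `syl_centralizer`, `syl_normalizer` : if no `P' ∈ P*(S)` with `|V_P'| = 4` and `⟨P', C_G(z)⟩` nonlocal exists, then
  `T` is a Sylow 2-subgroup of `C_G(v_B)` and of `N_G(V_B)`.
-/

set_option autoImplicit false
set_option linter.unusedSectionVars false

namespace Cfsg.Agent.Omega.OM.KTwo

open Subgroup Cfsg Cfsg.Agent.ZN Cfsg.Agent.Omega.FFThm Cfsg.Agent.Omega.MinPar
open Cfsg.Agent.Omega.Half Cfsg.Agent.Omega.Half.NatA
open Cfsg.Agent.Omega.NatPair (ap ap_one)
open Cfsg.Agent.Omega.NO3S Cfsg.Agent.Omega.FrameNOFF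
open Cfsg.Agent.ZN.ChoiceSit (Syl)
open Cfsg.Agent.MinSimple.VModule (mem_zc zc_le normalizer_le_normalizer_zc zc_le_zl le_normalizer_zl zl_le)

universe u

variable {G : Type u} [Group G] {F : Type} [Field F] {k : ℕ}

section gen

variable {T H V : Subgroup G} {M : NatK F T H V ⊥ k} {B : Set (Fin k)} (hA : Amb T H V)

include hA

theorem mem_centralizer_of_e {x y : G} (hx : x ∈ H) (hy : y ∈ H)
    (hxy : ∀ v ∈ V, M.e (x * v * x⁻¹) = M.e (y * v * y⁻¹)) : x⁻¹ * y ∈ centralizer (V : Set G) := by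
  rw [mem_centralizer_iff]
  intro v hv
  have h1 : x * v * x⁻¹ = y * v * y⁻¹ := inj M (hA.conj_mem hx hv) (hA.conj_mem hy hv) (hxy v hv)
  calc v * (x⁻¹ * y) = x⁻¹ * (x * v * x⁻¹) * y := by group
    _ = x⁻¹ * (y * v * y⁻¹) * y := by rw [h1]
    _ = x⁻¹ * y * v := by group

theorem mem_centralizer_fac {x : G} (hx : x ∈ H) {C : Set (Fin k)}
    (hxC : ∀ v ∈ V, ∀ i ∉ C, M.e v i = 0 → M.e (x * v * x⁻¹) i = 0)
    (hxC' : ∀ v ∈ V, ∀ i ∈ C, M.e (x * v * x⁻¹) i = M.e v i) : x ∈ centralizer (fac M C : Set G) := by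
  rw [mem_centralizer_iff]
  intro v hv
  have hv' : v ∈ fac M C := hv
  have h1 : x * v * x⁻¹ = v := by
    apply inj M (hA.conj_mem hx hv'.1) hv'.1
    funext i
    by_cases hi : i ∈ C
    · exact hxC' v hv'.1 i hi
    · rw [hv'.2 i hi]
      exact hxC v hv'.1 i hi (hv'.2 i hi)
  calc v * x = x * v * x⁻¹ * x := by rw [h1]
    _ = x * v := by group

/-- `P = ⟨S, C_P(V_B), C_P(V_B')⟩`. -/
theorem gen_fac {K : Subgroup G} (hS : T ≤ K) (h1 : H ⊓ centralizer (fac M B : Set G) ≤ K)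
    (h2 : H ⊓ centralizer (fac M Bᶜ : Set G) ≤ K) : H ≤ K := by
  classical
  refine M.gen K hS fun x hx A hxA => ?_
  obtain ⟨g, hg, hgA, -⟩ := M.lift fun i => if i ∈ B then 1 else A i
  obtain ⟨g', hg', hgA', -⟩ := M.lift fun i => if i ∈ B then A i else 1
  replace hgA : ∀ v ∈ V, ∀ i, M.e (g * v * g⁻¹) i = ap (if i ∈ B then 1 else A i) (M.e v i) := hgA
  replace hgA' : ∀ v ∈ V, ∀ i, M.e (g' * v * g'⁻¹) i = ap (if i ∈ B then A i else 1) (M.e v i) := hgA'
  have hgc : g ∈ centralizer (fac M B : Set G) := by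
    refine mem_centralizer_fac hA hg (fun v hv i hi h0 => ?_) fun v hv i hi => ?_
    · rw [hgA v hv i, h0, ap_zero]
    · rw [hgA v hv i, if_pos hi, ap_one]
  have hgc' : g' ∈ centralizer (fac M Bᶜ : Set G) := by
    refine mem_centralizer_fac hA hg' (fun v hv i hi h0 => ?_) fun v hv i hi => ?_
    · rw [hgA' v hv i, h0, ap_zero]
    · rw [hgA' v hv i, if_neg (show i ∉ B from hi), ap_one]
  have hc : (g' * g)⁻¹ * x ∈ centralizer (V : Set G) := by
    refine mem_centralizer_of_e hA (M := M) (mul_mem hg' hg) hx fun v hv => ?_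
    have e1 : g' * g * v * (g' * g)⁻¹ = g' * (g * v * g⁻¹) * g'⁻¹ := by group
    funext i
    rw [e1, hgA' _ (hA.conj_mem hg hv) i, hgA v hv i, hxA.1 v hv i]
    by_cases hi : i ∈ B
    · rw [if_pos hi, if_pos hi, ap_one]
    · rw [if_neg hi, if_neg hi, ap_one]
  have e2 : x = g' * g * ((g' * g)⁻¹ * x) := by group
  rw [e2]
  exact mul_mem (mul_mem (h2 ⟨hg', hgc'⟩) (h1 ⟨hg, hgc⟩))
    (h1 ⟨H.mul_mem (H.inv_mem (H.mul_mem hg' hg)) hx, centralizer_le (fac_le M B) hc⟩)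

end gen

section frame

variable [Finite G] {S : Sylow 2 G} {P : Subgroup G} (h : Hyp S P) (hq : Nat.card F = 2)
  {M : NatK F (S : Subgroup G) P (zl (S : Subgroup G) P) ⊥ k} {B : Set (Fin k)} (hB : Blk M B)

theorem amb (h : Hyp S P) : Amb (S : Subgroup G) P (zl (S : Subgroup G) P) :=
  amb_of_loc h.ctx.char2 S h.star.isLoc

include h hq hB

theorem z_mem : pt M Set.univ ∈ zc (S : Subgroup G) := (mem_zc_iff hq (amb h) hB).2 (Or.inr rfl)

theorem z_ne : pt M Set.univ ≠ 1 := pt_ne M (hB.ne.mono (Set.subset_univ _))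

theorem mem_CZ_iff {g : G} : g ∈ CZ (S : Subgroup G) ↔ g * pt M Set.univ * g⁻¹ = pt M Set.univ := by
  constructor
  · intro hg
    have h1 := mem_centralizer_iff.1 hg _ (z_mem h hq hB)
    rw [← h1]
    group
  · intro hg
    rw [mem_centralizer_iff]
    intro x hx
    rcases (mem_zc_iff hq (amb h) hB).1 hx with rfl | rfl
    · rw [one_mul, mul_one]
    · calc pt M Set.univ * g = g * pt M Set.univ * g⁻¹ * g := by rw [hg]
        _ = g * pt M Set.univ := by group

theorem CZ_eq : CZ (S : Subgroup G) = centralizer ({pt M Set.univ} : Set G) := by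
  ext g
  rw [mem_CZ_iff h hq hB, mem_centralizer_singleton_iff]
  exact mul_inv_eq_iff_eq_mul

theorem normalizer_zc_le : normalizer (zc (S : Subgroup G) : Set G) ≤ CZ (S : Subgroup G) := by
  intro g hg
  rw [mem_CZ_iff h hq hB]
  have h1 := (mem_normalizer_iff.1 hg _).1 (z_mem h hq hB)
  rcases (mem_zc_iff hq (amb h) hB).1 h1 with h2 | h2
  · exact absurd (conj_eq_one_iff.1 h2) (z_ne h hq hB)
  · exact h2

theorem card_zc : Nat.card (zc (S : Subgroup G)) = 2 := by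
  have h1 : ((zc (S : Subgroup G) : Subgroup G) : Set G) = {1, pt M Set.univ} := by
    ext x
    rw [SetLike.mem_coe, mem_zc_iff hq (amb h) hB]
    simp
  have h2 : Nat.card (zc (S : Subgroup G)) = ((zc (S : Subgroup G) : Subgroup G) : Set G).ncard := rfl
  rw [h2, h1, Set.ncard_pair (z_ne h hq hB).symm]

/-- If a 2-group `R > T` centralises `v_B`, then `N_G(T)` moves `z`. -/
theorem exists_move_z {R : Subgroup G} (hR : IsPGroup 2 R) (hTR : So M B ≤ R) (hne : R ≠ So M B)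
    (hRc : ∀ r ∈ R, r * pt M B * r⁻¹ = pt M B) :
    R ≤ normalizer (So M B : Set G) ∧
      ∃ n ∈ normalizer (So M B : Set G), n * pt M Set.univ * n⁻¹ ≠ pt M Set.univ := by
  have hA := amb h
  -- orders
  have hcard := card_So hA hB
  have hrel : Nat.card (So M B) * (So M B).relIndex R = Nat.card R := Half.card_mul_relIndex hTR
  have hle : Nat.card R ≤ Nat.card (S : Subgroup G) := card_le_sylow S hR
  have hne1 : (So M B).relIndex R ≠ 1 := fun h1 => hne (le_antisymm (relIndex_eq_one.1 h1) hTR)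
  have hne0 : (So M B).relIndex R ≠ 0 := fun h1 => by
    rw [h1, mul_zero] at hrel
    exact Nat.card_pos.ne hrel
  have hT0 : 0 < Nat.card (So M B) := Nat.card_pos
  have hrel2 : (So M B).relIndex R = 2 := by
    have h1 : (So M B).relIndex R ≤ 2 := by
      by_contra h2
      push Not at h2
      have h3 : Nat.card (So M B) * 2 < Nat.card (So M B) * (So M B).relIndex R :=
        Nat.mul_lt_mul_of_pos_left h2 hT0
      omega
    omega
  have hRS : Nat.card R = Nat.card (S : Subgroup G) := by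
    rw [← hrel, hrel2, hcard, mul_comm]
  have hRn : R ≤ normalizer (So M B : Set G) := by
    have h1 : ((So M B).subgroupOf R).Normal := normal_of_index_eq_two hrel2
    exact (normal_subgroupOf_iff_le_normalizer hTR).1 h1
  refine ⟨hRn, ?_⟩
  -- `Ω₁Z(R)` has order 2
  have hzR : Nat.card (zc R) = 2 := by
    rw [card_zc_of_card_eq S hR hRS, card_zc h hq hB]
  have hbR : pt M B ∈ zc R := by
    refine mem_zc.2 ⟨hTR (V_le_So hA hB (pt_V M B)), fun r hr => ?_, hA.sq _ (pt_V M B)⟩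
    calc r * pt M B = r * pt M B * r⁻¹ * r := by group
      _ = pt M B * r := by rw [hRc r hr]
  obtain ⟨r, hr, hrc⟩ : ∃ r ∈ R, r * pt M Bᶜ * r⁻¹ ≠ pt M Bᶜ := by
    by_contra hcon
    push Not at hcon
    have hcR : pt M Bᶜ ∈ zc R := by
      refine mem_zc.2 ⟨hTR (V_le_So hA hB (pt_V M _)), fun r hr => ?_, hA.sq _ (pt_V M _)⟩
      calc r * pt M Bᶜ = r * pt M Bᶜ * r⁻¹ * r := by group
        _ = pt M Bᶜ * r := by rw [hcon r hr]
    obtain ⟨y, -, hy⟩ := (Nat.card_eq_two_iff' (1 : zc R)).1 hzR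
    have h1 := hy ⟨_, hbR⟩ fun h2 => pt_ne M hB.ne (congrArg Subtype.val h2)
    have h2 := hy ⟨_, hcR⟩ fun h2 => pt_ne M hB.ne' (congrArg Subtype.val h2)
    exact pt_ne_of_ne M (compl_ne hB) (congrArg Subtype.val (h1.trans h2.symm))
  have h1 : r * pt M Bᶜ * r⁻¹ ∈ zc (So M B) :=
    (mem_normalizer_iff.1 (normalizer_le_normalizer_zc _ (hRn hr)) _).1 (pt_compl_mem_zc_So hq hA hB)
  refine ⟨r⁻¹, inv_mem (hRn hr), ?_⟩
  rcases (mem_zc_So_iff hq hA hB).1 h1 with h2 | h2 | h2 | h2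
  · exact absurd (conj_eq_one_iff.1 h2) (pt_ne M hB.ne')
  · exfalso
    apply pt_ne_of_ne M (compl_ne hB)
    have h3 : r * pt M Bᶜ * r⁻¹ = r * pt M B * r⁻¹ := by rw [h2, hRc r hr]
    exact (mul_left_cancel (mul_right_cancel h3)).symm
  · exact absurd h2 hrc
  · rw [← h2]
    intro h3
    apply pt_ne_of_ne M (ne_univ hB.compl)
    rw [← h2, ← h3]
    group

/-- If `N_G(T)` moves `z` then it contains a member of `P*(S)`. -/
theorem exists_par {n : G} (hn : n ∈ normalizer (So M B : Set G)) (hnz : n * pt M Set.univ * n⁻¹ ≠ pt M Set.univ) :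
    ∃ P' : Subgroup G, IsParS (S : Subgroup G) P' ∧ P' ≤ normalizer (So M B : Set G) := by
  have hA := amb h
  have hT2 : IsPGroup 2 (So M B) := S.isPGroup'.to_le inf_le_left
  have hT1 : So M B ≠ ⊥ := fun h1 => pt_ne M hB.ne (by
    have := V_le_So hA hB (pt_V M B)
    rwa [h1, mem_bot] at this)
  have hL := isLoc_normalizer S hT2 hT1 (le_normalizer_So hA hB)
  obtain ⟨P', h1, h2, h3⟩ := hL.exists_not_le (M := CZ (S : Subgroup G)) S
    (inf_le_right.trans ((normalizer_le_normalizer_zc _).trans (normalizer_zc_le h hq hB)))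
    fun h1 => hnz ((mem_CZ_iff h hq hB).1 (h1 hn))
  exact ⟨P', ⟨h1, fun h4 => h3 (h4.trans (normalizer_zc_le h hq hB))⟩, h2⟩

/-- For `P' ∈ P*(S)`, `P' ≤ N_G(T)`: all points of `Y` are conjugate to `z` in `P'`. -/
theorem exists_conj_z {P' : Subgroup G} (hP' : IsParS (S : Subgroup G) P')
    (hn : P' ≤ normalizer (So M B : Set G)) :
    (∃ p ∈ P', p * pt M Set.univ * p⁻¹ = pt M B) ∧ ∃ p ∈ P', p * pt M Set.univ * p⁻¹ = pt M Bᶜ := by
  have hA := amb h
  obtain ⟨s, hs, hns⟩ := exists_swap hA hB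
  have hsP : s ∈ P' := hP'.isLoc.le hs
  obtain ⟨p, hp, hpz⟩ : ∃ p ∈ P', p * pt M Set.univ * p⁻¹ ≠ pt M Set.univ := by
    by_contra hcon
    push Not at hcon
    refine hP'.not_zc fun p hp => ?_
    exact centralizer_le_normalizer _ ((mem_CZ_iff h hq hB).2 (hcon p hp))
  have h1 : p * pt M Set.univ * p⁻¹ ∈ zc (So M B) :=
    (mem_normalizer_iff.1 (normalizer_le_normalizer_zc _ (hn hp)) _).1
      ((mem_zc_So_iff hq hA hB).2 (Or.inr (Or.inr (Or.inr rfl))))
  rcases (mem_zc_So_iff hq hA hB).1 h1 with h2 | h2 | h2 | h2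
  · exact absurd (conj_eq_one_iff.1 h2) (z_ne h hq hB)
  · refine ⟨⟨p, hp, h2⟩, s * p, mul_mem hsP hp, ?_⟩
    calc s * p * pt M Set.univ * (s * p)⁻¹ = s * (p * pt M Set.univ * p⁻¹) * s⁻¹ := by group
      _ = pt M Bᶜ := by rw [h2, conj_swap hq hA hB hs hns]
  · refine ⟨⟨s * p, mul_mem hsP hp, ?_⟩, p, hp, h2⟩
    calc s * p * pt M Set.univ * (s * p)⁻¹ = s * (p * pt M Set.univ * p⁻¹) * s⁻¹ := by group
      _ = pt M B := by rw [h2, conj_swap' hq hA hB hs hns]
  · exact absurd h2 hpz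

theorem zl_eq {P' : Subgroup G} (hP' : IsParS (S : Subgroup G) P') (hn : P' ≤ normalizer (So M B : Set G)) :
    zl (S : Subgroup G) P' = zc (So M B) := by
  have hA := amb h
  obtain ⟨⟨p, hp, h1⟩, p', hp', h2⟩ := exists_conj_z h hq hB hP' hn
  have hz := z_mem h hq hB
  have hzl : pt M Set.univ ∈ zl (S : Subgroup G) P' := zc_le_zl _ _ hz
  have hconj : ∀ p ∈ P', p * pt M Set.univ * p⁻¹ ∈ zl (S : Subgroup G) P' := fun p hp =>
    (mem_normalizer_iff.1 (le_normalizer_zl _ _ hp) _).1 hzl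
  apply le_antisymm
  · refine zl_le ?_ (hn.trans (normalizer_le_normalizer_zc _))
    intro x hx
    rw [mem_zc_So_iff hq hA hB]
    rcases (mem_zc_iff hq hA hB).1 hx with h3 | h3
    · exact Or.inl h3
    · exact Or.inr (Or.inr (Or.inr h3))
  · intro x hx
    rcases (mem_zc_So_iff hq hA hB).1 hx with rfl | rfl | rfl | rfl
    · exact one_mem _
    · rw [← h1]; exact hconj p hp
    · rw [← h2]; exact hconj p' hp'
    · exact hzl

/-- `P' ∈ P*(S)`, `P' ≤ N_G(T)`: `|V_P'| = 4` and `⟨P', C_G(z)⟩` is nonlocal. -/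
theorem nonLoc_of_par {P' : Subgroup G} (hP' : IsParS (S : Subgroup G) P')
    (hn : P' ≤ normalizer (So M B : Set G)) :
    Nat.card (zl (S : Subgroup G) P') = 4 ∧ NonLoc P' (CZ (S : Subgroup G)) := by
  have hA := amb h
  refine ⟨by rw [zl_eq h hq hB hP' hn, card_zc_So hq hA hB], fun U hU h1 h2 => ?_⟩
  obtain ⟨⟨p, hp, h3⟩, p', hp', h4⟩ := exists_conj_z h hq hB hP' hn
  -- centralisers of conjugates of `z`
  have key : ∀ p ∈ P', ∀ v, p * pt M Set.univ * p⁻¹ = v → centralizer ({v} : Set G) ≤ normalizer (U : Set G) := by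
    intro p hp v hv x hx
    rw [mem_centralizer_singleton_iff] at hx
    have h5 : p⁻¹ * x * p ∈ CZ (S : Subgroup G) := by
      rw [mem_CZ_iff h hq hB]
      have h6 : x * v * x⁻¹ = v := by rw [hx]; group
      calc p⁻¹ * x * p * pt M Set.univ * (p⁻¹ * x * p)⁻¹ = p⁻¹ * (x * (p * pt M Set.univ * p⁻¹) * x⁻¹) * p := by
            group
        _ = p⁻¹ * (p * pt M Set.univ * p⁻¹) * p := by rw [hv, h6]
        _ = pt M Set.univ := by group
    have h6 := mul_mem (mul_mem (h1 hp) (h2 h5)) (inv_mem (h1 hp))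
    have e : p * (p⁻¹ * x * p) * p⁻¹ = x := by group
    rwa [e] at h6
  refine h.nonLoc U hU (gen_fac hA (M := M) (B := B) (hP'.isLoc.le.trans h1) ?_ ?_) h2
  · refine le_trans ?_ (key p hp _ h3)
    refine inf_le_right.trans (centralizer_le ?_)
    exact Set.singleton_subset_iff.2 (pt_mem M B)
  · refine le_trans ?_ (key p' hp' _ h4)
    refine inf_le_right.trans (centralizer_le ?_)
    exact Set.singleton_subset_iff.2 (pt_mem M Bᶜ)

/-- **(1)** `T` is a Sylow 2-subgroup of `C_G(v_B)`. -/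
theorem syl_centralizer (hno : ∀ P' : Subgroup G, IsParS (S : Subgroup G) P' → NonLoc P' (CZ (S : Subgroup G)) →
      Nat.card (zl (S : Subgroup G) P') ≠ 4) :
    Syl (So M B) (centralizer ({pt M B} : Set G)) := by
  have hA := amb h
  refine ⟨fun t ht => ?_, S.isPGroup'.to_le inf_le_left, fun R hR hR2 hTR => ?_⟩
  · rw [mem_centralizer_singleton_iff]
    have h1 := fix hq hA hB ht
    calc t * pt M B = t * pt M B * t⁻¹ * t := by group
      _ = pt M B * t := by rw [h1]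
  · by_contra hne
    obtain ⟨-, n, hn, hnz⟩ := exists_move_z h hq hB hR2 hTR hne fun r hr => by
      have h1 := mem_centralizer_singleton_iff.1 (hR hr)
      rw [h1]
      group
    obtain ⟨P', hP', hP'n⟩ := exists_par h hq hB hn hnz
    obtain ⟨h1, h2⟩ := nonLoc_of_par h hq hB hP' hP'n
    exact hno P' hP' h2 h1

/-- **(1)** `T` is a Sylow 2-subgroup of `N_G(V_B)`. -/
theorem syl_normalizer (hno : ∀ P' : Subgroup G, IsParS (S : Subgroup G) P' → NonLoc P' (CZ (S : Subgroup G)) →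
      Nat.card (zl (S : Subgroup G) P') ≠ 4) :
    Syl (So M B) (normalizer (fac M B : Set G)) := by
  have hA := amb h
  have hS := syl_centralizer h hq hB hno
  refine ⟨inf_le_right, S.isPGroup'.to_le inf_le_left, fun R hR hR2 hTR => ?_⟩
  by_contra hne
  -- a subgroup `R₁` of `R` with `|R₁ : T| = 2`... `N_R(T) > T`
  have hlt : So M B < R := lt_of_le_of_ne hTR (Ne.symm hne)
  obtain ⟨r, hr, hrT, hrn⟩ : ∃ r ∈ R, r ∉ So M B ∧ r ∈ normalizer (So M B : Set G) := by
    have : Fact (Nat.Prime 2) := ⟨Nat.prime_two⟩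
    have hnil : Group.IsNilpotent R := hR2.isNilpotent
    have h1 : (So M B).subgroupOf R < ⊤ := by
      rw [lt_top_iff_ne_top, Ne, subgroupOf_eq_top]
      exact fun h2 => hlt.not_ge h2
    have h2 := Group.normalizerCondition_of_isNilpotent _ h1
    obtain ⟨r, hr1, hr2⟩ := SetLike.exists_of_lt h2
    refine ⟨r, r.2, fun h3 => hr2 (mem_subgroupOf.2 h3), ?_⟩
    rw [mem_normalizer_iff] at hr1 ⊢
    intro x
    constructor
    · intro hx
      have := (hr1 ⟨x, hTR hx⟩).1 (mem_subgroupOf.2 hx)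
      exact mem_subgroupOf.1 this
    · intro hx
      have hxR : x ∈ R := by
        have h4 := mul_mem (mul_mem (inv_mem r.2) (hTR hx)) r.2
        have e : (r : G)⁻¹ * ((r : G) * x * (r : G)⁻¹) * r = x := by group
        rwa [e] at h4
      exact mem_subgroupOf.1 ((hr1 ⟨x, hxR⟩).2 (mem_subgroupOf.2 hx))
  -- `r` centralises `v_B`
  have hrc : r * pt M B * r⁻¹ = pt M B := by
    have h1 : r * pt M B * r⁻¹ ∈ fac M B := (mem_normalizer_iff.1 (hR hr) _).1 (pt_mem M B)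
    rcases fix_fac hq hA hB h1 (fun t ht => by
      have h2 : r⁻¹ * t * r ∈ So M B := by
        have := (mem_normalizer_iff.1 (inv_mem hrn) t).1 ht
        rwa [inv_inv] at this
      have h3 := fix hq hA hB h2
      calc t * (r * pt M B * r⁻¹) * t⁻¹ = r * ((r⁻¹ * t * r) * pt M B * (r⁻¹ * t * r)⁻¹) * r⁻¹ := by group
        _ = r * pt M B * r⁻¹ := by rw [h3]) with h2 | h2
    · exact absurd (conj_eq_one_iff.1 h2) (pt_ne M hB.ne)
    · exact h2
  -- `⟨T, r⟩` contradicts `syl_centralizer`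
  have hsup : So M B ⊔ zpowers r ≤ centralizer ({pt M B} : Set G) := by
    refine sup_le hS.1 ((zpowers_le).2 ?_)
    rw [mem_centralizer_singleton_iff]
    calc r * pt M B = r * pt M B * r⁻¹ * r := by group
      _ = pt M B * r := by rw [hrc]
  have hsupR : So M B ⊔ zpowers r ≤ R := sup_le hTR ((zpowers_le).2 hr)
  have h1 := hS.2.2 _ hsup (hR2.to_le hsupR) le_sup_left
  apply hrT
  rw [← h1]
  exact le_sup_right (a := So M B) (mem_zpowers r)

end frame

end Cfsg.Agent.Omega.OM.KTwo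

end

section


/-!
# NO-3S, `V_P` the sum of two natural `SL₂(2)`-modules: the situation (helper790 #14826)

`Sit S P T U v` : `V_P = U 0 × U 1` (four-groups), `T = N_S(U i)`, `v i ∈ U i` centralised by `T`,
`Ω₁Z(T) = ⟨v 0, v 1⟩`, `Ω₁Z(S) = ⟨v 0 v 1⟩`; `T` is a Sylow 2-subgroup of `C_G(v i)` and `N_G(U i)` ((1));
`U j ≤ Z(O₂(C_G(v i)))` for `i ≠ j` (HALF LEMMA, (2)).

* `exists_sit` : `Hyp S P`, `NatK` with `k = 2`, `|F| = 2` and no `P' ∈ P*(S)` with `|V_P'| = 4`, `⟨P', C_G(z)⟩` nonlocal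
  give `Sit`.
-/

set_option autoImplicit false
set_option linter.unusedSectionVars false

namespace Cfsg.Agent.Omega.OM.KTwo

open Subgroup Cfsg Cfsg.Agent.ZN Cfsg.Agent.Omega.FFThm Cfsg.Agent.Omega.MinPar
open Cfsg.Agent.Omega.Half Cfsg.Agent.Omega.Half.NatA
open Cfsg.Agent.Omega.NatPair (ap ap_one exists_ap)
open Cfsg.Agent.Omega.NO3S Cfsg.Agent.Omega.FrameNOFF
open Cfsg.Agent.ZN.ChoiceSit (Syl)
open Cfsg.Agent.MinSimple.VModule (mem_zc zc_le normalizer_le_normalizer_zc zc_le_zl le_normalizer_zl zl_le)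
open scoped Pointwise

universe u

variable {G : Type u} [Group G]

/-- **The situation of NO-3S, `k = 2`, `q = 2`.** -/
structure Sit [Finite G] (S : Sylow 2 G) (P T : Subgroup G) (U : Fin 2 → Subgroup G) (v : Fin 2 → G) : Prop where
  hyp : Hyp S P
  T_eq : ∀ i, T = (S : Subgroup G) ⊓ normalizer (U i : Set G)
  card_T : Nat.card (S : Subgroup G) = 2 * Nat.card T
  le : ∀ i, U i ≤ zl (S : Subgroup G) P
  four : ∀ i, Nat.card (U i) = 4
  inf : ∀ i j, i ≠ j → U i ⊓ U j = ⊥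
  sup : ∀ i j, i ≠ j → zl (S : Subgroup G) P ≤ U i ⊔ U j
  mem : ∀ i, v i ∈ U i
  ne : ∀ i, v i ≠ 1
  cen : ∀ i, ∀ t ∈ T, t * v i * t⁻¹ = v i
  zT : ∀ x, x ∈ zc T ↔ x = 1 ∨ x = v 0 ∨ x = v 1 ∨ x = v 0 * v 1
  zS : ∀ x, x ∈ zc (S : Subgroup G) ↔ x = 1 ∨ x = v 0 * v 1
  /-- `S` exchanges `U 0` and `U 1` -/
  swap : ∃ s ∈ (S : Subgroup G), s * s ∈ T ∧ ∀ i j, i ≠ j → MulAut.conj s • U i = U j ∧ s * v i * s⁻¹ = v j
  perm : ∀ p ∈ P, ∃ σ : Equiv.Perm (Fin 2), ∀ i, MulAut.conj p • U i = U (σ i)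
  /-- `C_P(U j)` is transitive on the involutions of `U i` -/
  tr : ∀ i j, i ≠ j → ∀ x ∈ U i, x ≠ 1 → ∃ l ∈ P, l ∈ centralizer (U j : Set G) ∧ MulAut.conj l • U i = U i ∧
    l * v i * l⁻¹ = x
  gen : ∀ K : Subgroup G, (S : Subgroup G) ≤ K → (∀ i, P ⊓ centralizer (U i : Set G) ≤ K) → P ≤ K
  syl : ∀ i, Syl T (centralizer ({v i} : Set G))
  sylN : ∀ i, Syl T (normalizer (U i : Set G))
  half : ∀ i j, i ≠ j → U j ≤ o2 (centralizer ({v i} : Set G)) ∧
    o2 (centralizer ({v i} : Set G)) ≤ centralizer (U j : Set G)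

section two

variable {F : Type} [Field F] {T H V : Subgroup G} (M : NatK F T H V ⊥ 2)

theorem compl_two {i j : Fin 2} (hij : i ≠ j) : ({i} : Set (Fin 2))ᶜ = {j} := by
  ext x
  simp only [Set.mem_compl_iff, Set.mem_singleton_iff]
  revert i j x
  decide

theorem card_fac (hq : Nat.card F = 2) (i : Fin 2) : Nat.card (fac M {i}) = 4 := by
  have hF : Finite F := Nat.finite_of_card_ne_zero (by rw [hq]; norm_num)
  have h1 : Nat.card (Fin 2 → F) = Nat.card (fac M {i}) := by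
    refine (Nat.card_congr (Equiv.ofBijective (fun v : fac M {i} => M.e (v : G) i) ⟨?_, ?_⟩)).symm
    · intro v w hvw
      apply Subtype.ext
      apply inj M v.2.1 w.2.1
      funext x
      by_cases hx : x = i
      · rw [hx]; exact hvw
      · rw [v.2.2 x hx, w.2.2 x hx]
    · intro x
      obtain ⟨v, hv, hx⟩ := exists_fac M {i} fun _ => x
      exact ⟨⟨v, hv⟩, hx i rfl⟩
  rw [← h1]
  simp [Nat.card_fun, hq]

theorem le_fac_sup {i j : Fin 2} (hij : i ≠ j) : V ≤ fac M {i} ⊔ fac M {j} := by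
  intro v hv
  obtain ⟨w, hw, hwi⟩ := exists_fac M {i} (M.e v)
  have h1 : w⁻¹ * v ∈ fac M {j} := by
    refine ⟨mul_mem (inv_mem hw.1) hv, fun x hx => ?_⟩
    have hxi : x = i := by
      have : x ∈ ({j} : Set (Fin 2))ᶜ := hx
      rwa [compl_two hij.symm] at this
    rw [M.mul _ (inv_mem hw.1) v hv, e_inv M hw.1, Pi.add_apply, Pi.neg_apply, hxi, hwi i rfl, neg_add_cancel]
  have e : v = w * (w⁻¹ * v) := by group
  rw [e]
  exact mul_mem (mem_sup_left hw) (mem_sup_right h1)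

end two

section exists_sit

variable [Finite G] {S : Sylow 2 G} {P : Subgroup G} {F : Type} [Field F]

theorem smul_fac {T H V : Subgroup G} {k : ℕ} {M : NatK F T H V ⊥ k} (hA : Amb T H V) {g : G} (hg : g ∈ H)
    {σ : Equiv.Perm (Fin k)} (hσ : Mv M g σ) (B : Set (Fin k)) :
    MulAut.conj g • fac M B = fac M (σ '' B) := by
  apply le_antisymm
  · intro x hx
    rw [NoFF.Basic.mem_conj] at hx
    have h1 := hσ.conj M hA hg hx
    have e : g * (g⁻¹ * x * g) * g⁻¹ = x := by group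
    rwa [e] at h1
  · intro x hx
    rw [NoFF.Basic.mem_conj]
    have h1 := (hσ.inv M hA hg).conj M hA (inv_mem hg) hx
    have h2 : σ.symm '' (σ '' B) = B := by
      rw [← Set.image_comp]
      simp
    rw [h2, inv_inv] at h1
    exact h1

/-- **(1), (2)**: the situation. -/
theorem exists_sit (h : Hyp S P) (hq : Nat.card F = 2)
    (M : NatK F (S : Subgroup G) P (zl (S : Subgroup G) P) ⊥ 2)
    (hno : ∀ P' : Subgroup G, IsParS (S : Subgroup G) P' → NonLoc P' (CZ (S : Subgroup G)) →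
      Nat.card (zl (S : Subgroup G) P') ≠ 4) :
    Sit S P (So M {0}) (fun i => fac M {i}) (fun i => pt M {i}) := by
  have hA := amb h
  have hB : ∀ i : Fin 2, Blk M {i} := blk_two M
  have hT : ∀ i : Fin 2, So M {0} = So M {i} := by
    intro i
    by_cases hi : i = 0
    · rw [hi]
    · rw [← compl_two (i := i) (j := 0) hi, So_compl hA (hB i)]
  have huniv : pt M {(0 : Fin 2)} * pt M {(1 : Fin 2)} = pt M Set.univ := by
    rw [← compl_two (i := 0) (j := 1) (by decide), pt_mul]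
  constructor
  · exact h
  · exact fun i => hT i
  · exact card_So hA (hB 0)
  · exact fun i => fac_le M _
  · exact fun i => card_fac M hq i
  · intro i j hij
    rw [eq_bot_iff]
    rintro x ⟨h1, h2⟩
    rw [mem_bot]
    refine fac_inf_compl M (B := {i}) h1 ?_
    rw [compl_two hij]
    exact h2
  · exact fun i j hij => le_fac_sup M hij
  · exact fun i => pt_mem M _
  · exact fun i => pt_ne M ⟨i, rfl⟩
  · intro i t ht
    exact fix hq hA (hB i) (hT i ▸ ht)
  · intro x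
    rw [mem_zc_So_iff hq hA (hB 0), compl_two (i := 0) (j := 1) (by decide), huniv]
  · intro x
    rw [mem_zc_iff hq hA (hB 0), huniv]
  · obtain ⟨s, hs, hns⟩ := exists_swap hA (hB 0)
    refine ⟨s, hs, So_mul hA (hB 0) hs hs hns hns, fun i j hij => ?_⟩
    have hnsi : s ∉ So M {i} := by rwa [← hT i]
    obtain ⟨σ, hσ⟩ := exists_mv (M := M) hA hs
    have h1 := (hB i).blk s hs σ hσ
    have h2 : σ '' {i} = {j} := by
      rw [← compl_two hij]
      exact h1.resolve_left fun h3 => hnsi ((mem_So hA (hB i) hs hσ).2 h3)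
    refine ⟨?_, ?_⟩
    · rw [smul_fac hA (hA.TH hs) hσ, h2]
    · rw [conj_pt hq hA hs hσ, h2]
  · intro p hp
    obtain ⟨σ, hσ⟩ := M.perm p hp
    refine ⟨σ, fun i => ?_⟩
    rw [smul_fac hA hp hσ, Set.image_singleton]
  · intro i j hij x hx hx1
    have hxi : M.e x i ≠ 0 := by
      intro h0
      apply hx1
      apply eq_one M hx.1
      funext y
      by_cases hy : y = i
      · rw [hy, h0]; rfl
      · exact hx.2 y hy
    have hvi : M.e (pt M {i}) i ≠ 0 := by
      rw [e_pt_mem M (B := {i}) (i := i) rfl]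
      exact e11_ne
    obtain ⟨A, hAx⟩ := exists_ap hvi hxi
    obtain ⟨l, hl, hlA, -⟩ := M.lift (Function.update 1 i A)
    have h1 : ∀ v ∈ zl (S : Subgroup G) P, M.e (l * v * l⁻¹) i = ap A (M.e v i) := fun v hv => by
      rw [hlA v hv i, Function.update_self]
    have h2 : ∀ v ∈ zl (S : Subgroup G) P, ∀ y, y ≠ i → M.e (l * v * l⁻¹) y = M.e v y := fun v hv y hy => by
      rw [hlA v hv y, Function.update_of_ne hy, Pi.one_apply, ap_one]
    have hmv : Mv M l 1 := by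
      intro v hv y
      rw [Equiv.Perm.one_apply]
      by_cases hy : y = i
      · rw [hy, h1 v hv]
        constructor
        · intro h3
          have h4 : ap A⁻¹ (ap A (M.e v i)) = M.e v i := Cfsg.Agent.Omega.NatPair.ap_inv_ap _ _
          rw [h3, ap_zero] at h4
          exact h4.symm
        · intro h3
          rw [h3, ap_zero]
      · rw [h2 v hv y hy]
    refine ⟨l, hl, ?_, ?_, ?_⟩
    · refine mem_centralizer_fac hA hl (fun v hv y hy h0 => ?_) fun v hv y hy => ?_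
      · have hyi : y = i := by
          have : y ∈ ({j} : Set (Fin 2))ᶜ := hy
          rwa [compl_two hij.symm] at this
        rw [hyi] at h0 ⊢
        rw [h1 v hv, h0, ap_zero]
      · exact h2 v hv y fun h3 => hij (h3.symm.trans hy)
    · rw [smul_fac hA hl hmv]
      simp
    · apply inj M (hA.conj_mem hl (pt_V M _)) hx.1
      funext y
      by_cases hy : y = i
      · rw [hy, h1 _ (pt_V M _), hAx]
      · rw [h2 _ (pt_V M _) y hy, hx.2 y hy]
        exact e_pt_not M (B := {i}) hy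
  · intro K hS hK
    refine gen_fac hA (M := M) (B := {0}) hS (hK 0) ?_
    rw [compl_two (i := 0) (j := 1) (by decide)]
    exact hK 1
  · intro i
    rw [hT i]
    exact syl_centralizer h hq (hB i) hno
  · intro i
    rw [hT i]
    exact syl_normalizer h hq (hB i) hno
  · intro i j hij
    exact app_two h.ctx.char2 S M hA hij (pt_mem M _) (pt_ne M ⟨i, rfl⟩)

end exists_sit

end Cfsg.Agent.Omega.OM.KTwo

end

section


/-!
# NO-3S, `k = 2`, `q = 2`: (2), (3) of helper790 #14826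

`D : Sit S P T U v`, `C i = C_G(v i)`, `Q i = O₂(C i)`.

* `le_o2_of_commutator` : a subgroup of `C` acting trivially on `O₂(C) / Z₀` and on `Z₀` lies in `O₂(C)`;
* `Sit.U_le_Q` : `U i ≤ Q i`;
* `Sit.lift` : two conjugates of the `U i` which normalise each other commute;
* `W D i = ⟨U i ^ C i⟩ ≤ Q i`, `N D i = ⟨U j ^ C i⟩ ≤ Z(Q i)`; `Sit.WN_comm`, `Sit.WN_sq` : `W i N i` is elementary
  abelian.
-/

set_option autoImplicit false
set_option linter.unusedSectionVars false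

namespace Cfsg.Agent.Omega.OM.KTwo

open Subgroup Cfsg Cfsg.Agent.ZN Cfsg.Agent.Omega.MinPar
open Cfsg.Agent.Omega.NO3S Cfsg.Agent.Omega.FrameNOFF
open Cfsg.Agent.Omega.NoFF.Basic (conj_conj mem_conj conj_le_iff conj_le_centralizer comm_symm comm_mono)
open Cfsg.Agent.Omega.NOThreeL.Pair (conj_eq_of_mem conj_le_normalizer)
open Cfsg.Agent.ZN.ChoiceSit (Syl exists_syl syl_conj o2_le_syl)
open Cfsg.Agent.MinSimple.VModule (mem_zc zc_le normalizer_le_normalizer_zc zc_le_zl le_normalizer_zl zl_le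
  le_normalizer_o2 le_o2 o2_le o2_isPGroup)
open scoped Pointwise

universe u

variable {G : Type u} [Group G]

/-! ### Stability -/

/-- `A ≤ C` acts trivially on `O₂(C) / Z₀`, `Z₀` central in `C` of exponent 2, `C_C(O₂(C)) ≤ O₂(C)`: `A ≤ O₂(C)`. -/
theorem le_o2_of_commutator {C A Z₀ : Subgroup G} (hC : C ⊓ centralizer (o2 C : Set G) ≤ o2 C)
    (hZc : ∀ c ∈ C, ∀ z ∈ Z₀, c * z = z * c) (hsq : ∀ z ∈ Z₀, z * z = 1)
    (hAC : A ≤ C) (hA : ∀ a ∈ A, ∀ q ∈ o2 C, a * q * a⁻¹ * q⁻¹ ∈ Z₀) : A ≤ o2 C := by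
  have hq : ∀ c ∈ C, ∀ q ∈ o2 C, c * q * c⁻¹ ∈ o2 C := fun c hc q hq =>
    (mem_normalizer_iff.1 (le_normalizer_o2 C hc) q).1 hq
  have hqi : ∀ c ∈ C, ∀ q ∈ o2 C, c⁻¹ * q * c ∈ o2 C := fun c hc q hq' => by
    have := hq c⁻¹ (inv_mem hc) q hq'
    rwa [inv_inv] at this
  let K : Subgroup G :=
    { carrier := {x | x ∈ C ∧ ∀ q ∈ o2 C, x * q * x⁻¹ * q⁻¹ ∈ Z₀}
      one_mem' := ⟨one_mem C, fun q _ => by simp⟩
      mul_mem' := by
        rintro x y ⟨hx, h1⟩ ⟨hy, h2⟩
        refine ⟨mul_mem hx hy, fun q hq' => ?_⟩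
        have h3 := h2 q hq'
        have h4 := h1 q hq'
        have h5 := hZc x hx _ h3
        have e : x * y * q * (x * y)⁻¹ * q⁻¹ = x * (y * q * y⁻¹ * q⁻¹) * (q * x⁻¹ * q⁻¹) := by group
        rw [e, h5]
        have e2 : y * q * y⁻¹ * q⁻¹ * x * (q * x⁻¹ * q⁻¹) = y * q * y⁻¹ * q⁻¹ * (x * q * x⁻¹ * q⁻¹) := by group
        rw [e2]
        exact mul_mem h3 h4
      inv_mem' := by
        rintro x ⟨hx, h1⟩
        refine ⟨inv_mem hx, fun q hq' => ?_⟩
        have h2 := h1 _ (hqi x hx q hq')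
        have e : x⁻¹ * q * x⁻¹⁻¹ * q⁻¹ = (x * (x⁻¹ * q * x) * x⁻¹ * (x⁻¹ * q * x)⁻¹)⁻¹ := by group
        rw [e]
        exact inv_mem h2 }
  have hKC : K ≤ C := fun x hx => hx.1
  have hAK : A ≤ K := fun a ha => ⟨hAC ha, hA a ha⟩
  have key : ∀ c ∈ C, ∀ x ∈ K, c * x * c⁻¹ ∈ K := by
    intro c hc x hx
    refine ⟨mul_mem (mul_mem hc hx.1) (inv_mem hc), fun q hq' => ?_⟩
    have h1 := hx.2 _ (hqi c hc q hq')
    have h2 := hZc c hc _ h1
    have e : c * x * c⁻¹ * q * (c * x * c⁻¹)⁻¹ * q⁻¹ =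
        c * (x * (c⁻¹ * q * c) * x⁻¹ * (c⁻¹ * q * c)⁻¹) * c⁻¹ := by group
    rw [e, h2, mul_inv_cancel_right]
    exact h1
  have hn : C ≤ normalizer (K : Set G) := by
    intro c hc
    rw [mem_normalizer_iff]
    intro x
    refine ⟨key c hc x, fun hx => ?_⟩
    have := key c⁻¹ (inv_mem hc) _ hx
    simpa [mul_assoc] using this
  have hK2 : IsPGroup 2 K := by
    rintro ⟨x, hx⟩
    have h1 : x * x ∈ o2 C := by
      apply hC
      refine ⟨mul_mem hx.1 hx.1, mem_centralizer_iff.2 fun q hq' => ?_⟩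
      have h2 := hx.2 q hq'
      have h3 := hZc x hx.1 _ h2
      have h4 := hsq _ h2
      -- `x q x⁻¹ = c q`
      have h5 : x * q = (x * q * x⁻¹ * q⁻¹) * q * x := by group
      generalize x * q * x⁻¹ * q⁻¹ = c at h3 h4 h5
      symm
      calc x * x * q = x * (x * q) := by group
        _ = x * (c * q * x) := by rw [h5]
        _ = (x * c) * q * x := by group
        _ = c * (x * q) * x := by rw [h3]; group
        _ = c * (c * q * x) * x := by rw [h5]
        _ = (c * c) * q * (x * x) := by group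
        _ = q * (x * x) := by rw [h4, one_mul]
    obtain ⟨n, hn⟩ := o2_isPGroup C ⟨_, h1⟩
    refine ⟨n + 1, Subtype.ext ?_⟩
    have h2 := congrArg Subtype.val hn
    simp only [SubgroupClass.coe_pow, OneMemClass.coe_one] at h2 ⊢
    rw [pow_succ', pow_mul, pow_two]
    exact h2
  exact hAK.trans (le_o2 hKC hK2 hn)

namespace Sit

variable [Finite G] {S : Sylow 2 G} {P T : Subgroup G} {U : Fin 2 → Subgroup G} {v : Fin 2 → G}
  (D : Sit S P T U v)

theorem exists_ne (i : Fin 2) : ∃ j, i ≠ j := ⟨1 - i, by revert i; decide⟩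

include D

/-! ### Easy facts -/

theorem comm {a b : G} (ha : a ∈ zl (S : Subgroup G) P) (hb : b ∈ zl (S : Subgroup G) P) : a * b = b * a :=
  (amb D.hyp).comm a ha b hb

theorem sq {a : G} (ha : a ∈ zl (S : Subgroup G) P) : a * a = 1 := by
  have := (amb D.hyp).sq a ha
  rwa [pow_two] at this

theorem T_le : T ≤ (S : Subgroup G) := by
  rw [D.T_eq 0]
  exact inf_le_left

theorem T_isPGroup : IsPGroup 2 T := S.isPGroup'.to_le D.T_le

theorem T_le_N (i : Fin 2) : T ≤ normalizer (U i : Set G) := by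
  rw [D.T_eq i]
  exact inf_le_right

theorem S_le_P : (S : Subgroup G) ≤ P := D.hyp.star.isLoc.le

theorem V_le_T : zl (S : Subgroup G) P ≤ T := by
  rw [D.T_eq 0]
  refine le_inf D.hyp.V_le_S fun x hx => ?_
  rw [mem_normalizer_iff]
  intro y
  constructor
  · intro hy
    have : x * y * x⁻¹ = y := by rw [D.comm hx (D.le 0 hy)]; group
    rwa [this]
  · intro hy
    have h1 := D.comm hx (D.le 0 hy)
    have h2 : y = x * y * x⁻¹ := by
      have h3 : x * (x * y * x⁻¹) = x * y := by rw [h1]; group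
      exact (mul_left_cancel h3).symm
    rwa [h2]

theorem U_le_T (i : Fin 2) : U i ≤ T := (D.le i).trans D.V_le_T

theorem T_le_C (i : Fin 2) : T ≤ centralizer ({v i} : Set G) := (D.syl i).1

theorem v_sq (i : Fin 2) : v i * v i = 1 := D.sq (D.le i (D.mem i))

theorem v_sq' (i : Fin 2) : v i ^ 2 = 1 := by rw [pow_two]; exact D.v_sq i

theorem char2 (i : Fin 2) : centralizer ({v i} : Set G) ⊓
    centralizer (o2 (centralizer ({v i} : Set G)) : Set G) ≤ o2 (centralizer ({v i} : Set G)) :=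
  MinSimple.Basic.char2_centralizer D.hyp.ctx.char2 (D.v_sq' i) (D.ne i)

theorem v_mem_Q (i : Fin 2) : v i ∈ o2 (centralizer ({v i} : Set G)) := by
  apply D.char2 i
  refine ⟨mem_centralizer_singleton_iff.2 rfl, mem_centralizer_iff.2 fun q hq => ?_⟩
  exact mem_centralizer_singleton_iff.1 (o2_le _ hq)

theorem Q_le_T (i : Fin 2) : o2 (centralizer ({v i} : Set G)) ≤ T := o2_le_syl (D.syl i)

/-- `U i ≤ X` as soon as a subgroup `X ≤ U i` contains `v i` and another involution. -/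
theorem le_or {i : Fin 2} {X : Subgroup G} (hv : v i ∈ X) :
    U i ≤ X ∨ ∀ x ∈ U i ⊓ X, x = 1 ∨ x = v i := by
  by_cases hc : ∀ x ∈ U i ⊓ X, x = 1 ∨ x = v i
  · exact Or.inr hc
  left
  push Not at hc
  obtain ⟨x, ⟨hxU, hxX⟩, hx1, hxv⟩ := hc
  intro y hy
  by_cases hy1 : y = 1
  · rw [hy1]; exact one_mem X
  rcases NO3S.eq_of_card_four (D.four i) (fun a ha => (amb D.hyp).sq a (D.le i ha)) (D.mem i) (D.ne i) hxU hx1
    (Ne.symm hxv) hy hy1 with h | h | h
  · rw [h]; exact hv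
  · rw [h]; exact hxX
  · rw [h]; exact mul_mem hv hxX

/-! ### (2) -/

/-- **(2)** `U i ≤ O₂(C_G(v i))`. -/
theorem U_le_Q (i : Fin 2) : U i ≤ o2 (centralizer ({v i} : Set G)) := by
  rcases D.le_or (D.v_mem_Q i) with h | h
  · exact h
  have hUC : U i ≤ centralizer ({v i} : Set G) := (D.U_le_T i).trans (D.T_le_C i)
  refine le_o2_of_commutator (Z₀ := zpowers (v i)) (D.char2 i) ?_ ?_ hUC ?_
  · intro c hc z hz
    obtain ⟨n, rfl⟩ := mem_zpowers_iff.1 hz
    have h1 : Commute c (v i) := mem_centralizer_singleton_iff.1 hc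
    exact (h1.zpow_right n).eq
  · intro z hz
    obtain ⟨n, rfl⟩ := mem_zpowers_iff.1 hz
    rw [← zpow_add, ← two_mul, zpow_mul]
    have : v i ^ (2 : ℤ) = 1 := by
      have := D.v_sq' i
      exact_mod_cast this
    rw [this, one_zpow]
  · intro a ha q hq
    have h1 : a * q * a⁻¹ ∈ o2 (centralizer ({v i} : Set G)) :=
      (mem_normalizer_iff.1 (le_normalizer_o2 _ (hUC ha)) q).1 hq
    have h2 : q * a⁻¹ * q⁻¹ ∈ U i :=
      (mem_normalizer_iff.1 (D.T_le_N i (D.Q_le_T i hq)) _).1 (inv_mem ha)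
    have h3 : a * q * a⁻¹ * q⁻¹ ∈ U i ⊓ o2 (centralizer ({v i} : Set G)) := by
      refine ⟨?_, (o2 (centralizer ({v i} : Set G))).mul_mem h1 (inv_mem hq)⟩
      have e : a * q * a⁻¹ * q⁻¹ = a * (q * a⁻¹ * q⁻¹) := by group
      rw [e]
      exact mul_mem ha h2
    rcases h _ h3 with h4 | h4
    · rw [h4]; exact one_mem _
    · rw [h4]; exact mem_zpowers _

theorem V_le_Q (i : Fin 2) : zl (S : Subgroup G) P ≤ o2 (centralizer ({v i} : Set G)) := by
  obtain ⟨j, hij⟩ := exists_ne i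
  exact (D.sup i j hij).trans (sup_le (D.U_le_Q i) (D.half i j hij).1)

/-! ### (3) -/

/-- a 2-subgroup of `N_{C i}(U i)` is in a conjugate of `T` under this group -/
theorem exists_le_conj_T (i : Fin 2) {E : Subgroup G} (hE : IsPGroup 2 E)
    (h1 : E ≤ centralizer ({v i} : Set G)) (h2 : E ≤ normalizer (U i : Set G)) :
    ∃ a ∈ centralizer ({v i} : Set G), a ∈ normalizer (U i : Set G) ∧ E ≤ MulAut.conj a • T := by
  have hS : Syl T (centralizer ({v i} : Set G) ⊓ normalizer (U i : Set G)) :=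
    ⟨le_inf (D.T_le_C i) (D.T_le_N i), D.T_isPGroup, fun R hR hR2 hTR => (D.syl i).2.2 R (hR.trans inf_le_left)
      hR2 hTR⟩
  obtain ⟨R, hR, hER⟩ := exists_syl hE (le_inf h1 h2)
  obtain ⟨a, ha, haR⟩ := syl_conj hS hR
  refine ⟨a, ha.1, ha.2, ?_⟩
  have : MulAut.conj a • T = R := haR
  rw [this]
  exact hER

theorem conj_Q {i : Fin 2} {c : G} (hc : c ∈ centralizer ({v i} : Set G)) :
    MulAut.conj c • o2 (centralizer ({v i} : Set G)) = o2 (centralizer ({v i} : Set G)) :=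
  conj_eq_of_mem (le_normalizer_o2 _ hc)

theorem conj_C {i : Fin 2} {c : G} (hc : c ∈ centralizer ({v i} : Set G)) :
    MulAut.conj c • centralizer ({v i} : Set G) = centralizer ({v i} : Set G) :=
  NoFF.Basic.conj_self hc

theorem Q_le_conj_T {i : Fin 2} {c : G} (hc : c ∈ centralizer ({v i} : Set G)) :
    o2 (centralizer ({v i} : Set G)) ≤ MulAut.conj c • T := by
  rw [← D.conj_Q hc]
  exact conj_le_iff.2 (D.Q_le_T i)

omit D in
theorem conj_isPGroup {g : G} {A : Subgroup G} (h : IsPGroup 2 A) : IsPGroup 2 (MulAut.conj g • A : Subgroup G) :=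
  ChoiceBase.isPGroup_cj g h

theorem T_le_P : T ≤ P := D.T_le.trans D.S_le_P

theorem U_isPGroup (i : Fin 2) : IsPGroup 2 (U i) := D.T_isPGroup.to_le (D.U_le_T i)

/-- (3), the case of a common point -/
theorem lift_point (i : Fin 2) {h : G} (hh : h ∈ centralizer ({v i} : Set G))
    (h1 : U i ≤ normalizer ((MulAut.conj h • U i : Subgroup G) : Set G))
    (h2 : MulAut.conj h • U i ≤ normalizer (U i : Set G)) :
    U i ≤ centralizer ((MulAut.conj h • U i : Subgroup G) : Set G) := by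
  obtain ⟨j, hij⟩ := exists_ne i
  have hUC : U i ≤ centralizer ({v i} : Set G) := (D.U_le_T i).trans (D.T_le_C i)
  obtain ⟨a, ha, haN, haT⟩ := D.exists_le_conj_T i (E := MulAut.conj h • U i) (conj_isPGroup (D.U_isPGroup i))
    (by
      have := conj_le_iff (g := h).2 hUC
      rwa [D.conj_C hh] at this) h2
  have hh' : h⁻¹ ∈ centralizer ({v i} : Set G) := inv_mem hh
  obtain ⟨b, hb, hbN, hbT⟩ := D.exists_le_conj_T i (E := MulAut.conj h⁻¹ • U i) (conj_isPGroup (D.U_isPGroup i))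
    (by
      have := conj_le_iff (g := h⁻¹).2 hUC
      rwa [D.conj_C hh'] at this) (by
      have := conj_le_normalizer (g := h⁻¹) h1
      rwa [conj_conj, inv_mul_cancel, map_one, one_smul] at this)
  have hbT' : U i ≤ MulAut.conj (h * b) • T := by
    have := conj_le_iff (g := h).2 hbT
    rwa [conj_conj, mul_inv_cancel, map_one, one_smul, conj_conj] at this
  have hhb : h * b ∈ centralizer ({v i} : Set G) := mul_mem hh hb
  have haU : MulAut.conj a • U i = U i := conj_eq_of_mem haN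
  have hhbU : MulAut.conj (h * b) • U i = MulAut.conj h • U i := by
    rw [← conj_conj, conj_eq_of_mem hbN]
  have hUj : ∀ c ∈ centralizer ({v i} : Set G), MulAut.conj c • U j ≤ o2 (centralizer ({v i} : Set G)) := by
    intro c hc
    rw [← D.conj_Q hc]
    exact conj_le_iff.2 (D.half i j hij).1
  have hTP : ∀ c : G, MulAut.conj c • T ≤ MulAut.conj c • P := fun c => conj_le_iff.2 D.T_le_P
  -- the lines `V^a`, `V^(hb)` normalise each other
  have hVa : MulAut.conj a • zl (S : Subgroup G) P ≤ MulAut.conj (h * b) • P := by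
    refine le_trans ?_ (hTP _)
    refine (conj_le_iff.2 (D.sup i j hij)).trans ?_
    rw [Subgroup.smul_sup]
    refine sup_le ?_ ((hUj a ha).trans (D.Q_le_conj_T hhb))
    rw [haU]
    exact hbT'
  have hVb : MulAut.conj (h * b) • zl (S : Subgroup G) P ≤ MulAut.conj a • P := by
    refine le_trans ?_ (hTP _)
    refine (conj_le_iff.2 (D.sup i j hij)).trans ?_
    rw [Subgroup.smul_sup]
    refine sup_le ?_ ((hUj _ hhb).trans (D.Q_le_conj_T ha))
    rw [hhbU]
    exact haT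
  have hfin := D.hyp.geo.toSys.noff' (Set.mem_singleton P) (Set.mem_singleton P) hVa hVb
  have hfin' := comm_mono hfin (conj_le_iff (g := a).2 (D.le i)) (conj_le_iff (g := h * b).2 (D.le i))
  rwa [haU, hhbU] at hfin'

/-- (3) for conjugates of the same `U i` -/
theorem lift_same (i : Fin 2) (g : G)
    (h1 : U i ≤ normalizer ((MulAut.conj g • U i : Subgroup G) : Set G))
    (h2 : MulAut.conj g • U i ≤ normalizer (U i : Set G)) :
    U i ≤ centralizer ((MulAut.conj g • U i : Subgroup G) : Set G) := by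
  obtain ⟨j, hij⟩ := exists_ne i
  by_contra hcon
  obtain ⟨a, ha, b, hb, hab⟩ : ∃ a ∈ U i, ∃ b ∈ MulAut.conj g • U i, b * a ≠ a * b := by
    by_contra h
    push Not at h
    exact hcon fun a ha => mem_centralizer_iff.2 fun b hb => h a ha b hb
  set c := a * b * a⁻¹ * b⁻¹ with hc
  have hc1 : c ≠ 1 := by
    intro h
    apply hab
    rw [hc, mul_inv_eq_one] at h
    rw [← mul_inv_eq_iff_eq_mul.1 h]
  have hcU : c ∈ U i := by
    have e : c = a * (b * a⁻¹ * b⁻¹) := by rw [hc]; group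
    rw [e]
    exact mul_mem ha ((mem_normalizer_iff.1 (h2 hb) _).1 (inv_mem ha))
  have hcU' : c ∈ MulAut.conj g • U i :=
    mul_mem ((mem_normalizer_iff.1 (h1 ha) _).1 hb) (inv_mem hb)
  obtain ⟨l, -, -, hlU, hlc⟩ := D.tr i j hij c hcU hc1
  have hcg : g⁻¹ * c * g ∈ U i := mem_conj.1 hcU'
  obtain ⟨l', -, -, hlU', hlc'⟩ := D.tr i j hij _ hcg (by
    intro h
    apply hc1
    have h3 := congrArg (fun t => g * t * g⁻¹) h
    simpa [mul_assoc] using h3)
  have hh : l⁻¹ * g * l' ∈ centralizer ({v i} : Set G) := by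
    rw [mem_centralizer_singleton_iff]
    have h3 : l' * v i = g⁻¹ * c * g * l' := by rw [← hlc']; group
    have h4 : c = l * v i * l⁻¹ := hlc.symm
    calc l⁻¹ * g * l' * v i = l⁻¹ * g * (l' * v i) := by group
      _ = l⁻¹ * c * g * l' := by rw [h3]; group
      _ = v i * (l⁻¹ * g * l') := by rw [h4]; group
  have e1 : MulAut.conj l • (MulAut.conj (l⁻¹ * g * l') • U i) = MulAut.conj g • U i := by
    rw [conj_conj]
    have e2 : l * (l⁻¹ * g * l') = g * l' := by group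
    rw [e2, ← conj_conj, hlU']
  apply hcon
  have hmain := D.lift_point i hh ?_ ?_
  · have h3 := conj_le_centralizer (g := l) hmain
    rwa [e1, hlU] at h3
  · rw [← conj_le_iff (g := l), hlU]
    refine h1.trans ?_
    rw [← e1, NoFF.Main.normalizer_conj]
  · rw [← conj_le_iff (g := l), e1]
    refine h2.trans ?_
    rw [← NoFF.Main.normalizer_conj, hlU]

/-- **(3) LIFT**: two conjugates of `U 0`, `U 1` which normalise each other commute. -/
theorem lift (i j : Fin 2) (g g' : G)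
    (h1 : MulAut.conj g • U i ≤ normalizer ((MulAut.conj g' • U j : Subgroup G) : Set G))
    (h2 : MulAut.conj g' • U j ≤ normalizer ((MulAut.conj g • U i : Subgroup G) : Set G)) :
    MulAut.conj g • U i ≤ centralizer ((MulAut.conj g' • U j : Subgroup G) : Set G) := by
  -- `U j` is a conjugate of `U i`
  obtain ⟨s, hs⟩ : ∃ s : G, MulAut.conj s • U i = U j := by
    by_cases hij : i = j
    · exact ⟨1, by rw [map_one, one_smul, hij]⟩
    · obtain ⟨s, -, -, h⟩ := D.swap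
      exact ⟨s, (h i j hij).1⟩
  have hx : MulAut.conj g • (MulAut.conj (g⁻¹ * g' * s) • U i) = MulAut.conj g' • U j := by
    rw [conj_conj]
    have e2 : g * (g⁻¹ * g' * s) = g' * s := by group
    rw [e2, ← conj_conj, hs]
  have hmain := D.lift_same i (g⁻¹ * g' * s) ?_ ?_
  · have h3 := conj_le_centralizer (g := g) hmain
    rwa [hx] at h3
  · rw [← conj_le_iff (g := g)]
    refine h1.trans ?_
    rw [← hx, NoFF.Main.normalizer_conj]
  · rw [← conj_le_iff (g := g), hx]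
    refine h2.trans ?_
    rw [NoFF.Main.normalizer_conj]

end Sit

end Cfsg.Agent.Omega.OM.KTwo

end

end

-- merged: Cfsg.Agent.Mrg.Omega.OM.KTwo.Cut
section

section


/-!
# NO-3S, `k = 2`, `q = 2`: (3), (4) of helper790 #14826

`D : Sit S P T U v`, `CC v i = C_G(v i)`, `QQ v i = O₂(C_G(v i))`, `Y = Ω₁Z(T) = zc T`.

* `WU U v i = ⟨U i ^ C_G(v i)⟩`, `NU U v i = ⟨U (i+1) ^ C_G(v i)⟩`, `EU T v i = ⟨Y ^ C_G(v i)⟩ = N i ⟨v i⟩`;
  `Sit.W_le_Q`, `Sit.N_le_Q`, `Sit.Q_le_cent_N`, `Sit.WN_comm`, `Sit.WN_sq` ((3): `W i N i` is elementary abelian);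
* `Sit.cut` : **(4)** either `⟨C_G(v 0), C_G(v 1)⟩` is nonlocal, or `N^ = ⟨C_G(v 0), C_G(v 1), S⟩` is local, contains
  `P` and `C_G(x)` for all `1 ≠ x ∈ U i`, and does not contain `C_G(Z)`;
* `Sit.data` : LEMMA P (#14019) applies to `(C_G(v 0), C_G(v 1); C_G(Y))`; `Sit.crit` : a critical pair of conjugates
  of `N 0`, `N 1` in the nonlocal case.
-/

set_option autoImplicit false
set_option linter.unusedSectionVars false

namespace Cfsg.Agent.Omega.OM.KTwo

open Subgroup Cfsg Cfsg.Agent.ZN Cfsg.Agent.Omega.MinPar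
open Cfsg.Agent.Omega.NO3S Cfsg.Agent.Omega.FrameNOFF
open Cfsg.Agent.Omega.NoFF.Basic (conj_conj mem_conj conj_le_iff conj_le_centralizer comm_symm comm_mono
  Z_le_V V_le conj_V_mul)
open Cfsg.Agent.Omega.NoFF.Main (normalizer_conj)
open Cfsg.Agent.Omega.NOThreeL.Pair (conj_eq_of_mem conj_le_normalizer clo le_clo le_clo' clo_le
  le_normalizer_clo clo_comm clo_isPGroup)
open Cfsg.Agent.Omega.NO3L (LemP.Data LemP.Crit LemP.Comm LemP.Near LemP.vx)
open Cfsg.Agent.ZN.ChoiceSit (Syl exists_syl syl_conj o2_le_syl)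
open Cfsg.Agent.MinSimple.VModule (mem_zc zc_le normalizer_le_normalizer_zc zc_le_zl le_normalizer_zl zl_le
  le_normalizer_o2 le_o2 o2_le o2_isPGroup zc_le_centralizer le_centralizer_zc)
open scoped Pointwise

universe u

variable {G : Type u} [Group G]

/-- `C_G(v i)` -/
abbrev CC (v : Fin 2 → G) (i : Fin 2) : Subgroup G := centralizer ({v i} : Set G)

/-- `O₂(C_G(v i))` -/
abbrev QQ (v : Fin 2 → G) (i : Fin 2) : Subgroup G := o2 (CC v i)

/-- `W i = ⟨U i ^ C_G(v i)⟩` -/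
def WU (U : Fin 2 → Subgroup G) (v : Fin 2 → G) (i : Fin 2) : Subgroup G := NoFF.Basic.V (U i) (CC v i)

/-- `N i = ⟨U (i+1) ^ C_G(v i)⟩` -/
def NU (U : Fin 2 → Subgroup G) (v : Fin 2 → G) (i : Fin 2) : Subgroup G := NoFF.Basic.V (U (i + 1)) (CC v i)

/-- `E i = ⟨Y ^ C_G(v i)⟩`, `Y = Ω₁Z(T)` -/
def EU (T : Subgroup G) (v : Fin 2 → G) (i : Fin 2) : Subgroup G := NoFF.Basic.V (zc T) (CC v i)

theorem ne_add_one (i : Fin 2) : i ≠ i + 1 := by revert i; decide

theorem eq_add_one {i j : Fin 2} (h : i ≠ j) : j = i + 1 := by revert i j; decide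

theorem add_one_add_one (i : Fin 2) : i + 1 + 1 = i := by revert i; decide

theorem le_normalizer_V (Z P : Subgroup G) : P ≤ normalizer (NoFF.Basic.V Z P : Set G) := by
  intro p hp
  have h1 : MulAut.conj p • NoFF.Basic.V Z P = NoFF.Basic.V Z P := by
    have := conj_V_mul (Z := Z) (P := P) (g := 1) hp
    rwa [one_mul, map_one, one_smul] at this
  exact ChoiceBase.mem_normalizer_iff_cj.2 h1

theorem le_V (Z P : Subgroup G) : Z ≤ NoFF.Basic.V Z P := by
  have := Z_le_V (Z := Z) (P := P) (one_mem P)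
  rwa [map_one, one_smul] at this

namespace Sit

variable [Finite G] {S : Sylow 2 G} {P T : Subgroup G} {U : Fin 2 → Subgroup G} {v : Fin 2 → G}
  (D : Sit S P T U v)

include D

/-! ### (3) -/

theorem conj_QQ {i : Fin 2} {c : G} (hc : c ∈ CC v i) : MulAut.conj c • QQ v i = QQ v i := D.conj_Q hc

theorem W_le_Q (i : Fin 2) : WU U v i ≤ QQ v i :=
  V_le fun _ hc => by
    rw [← D.conj_QQ hc]
    exact conj_le_iff.2 (D.U_le_Q i)

theorem N_le_Q (i : Fin 2) : NU U v i ≤ QQ v i :=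
  V_le fun _ hc => by
    rw [← D.conj_QQ hc]
    exact conj_le_iff.2 (D.half i _ (ne_add_one i)).1

theorem N_le_cent_Q (i : Fin 2) : NU U v i ≤ centralizer (QQ v i : Set G) :=
  V_le fun c hc => by
    have h1 := conj_le_centralizer (g := c) (comm_symm (D.half i _ (ne_add_one i)).2)
    rwa [D.conj_Q hc] at h1

/-- `N i ≤ Z(Q i)` -/
theorem Q_le_cent_N (i : Fin 2) : QQ v i ≤ centralizer (NU U v i : Set G) := comm_symm (D.N_le_cent_Q i)

theorem N_comm (i : Fin 2) : NU U v i ≤ centralizer (NU U v i : Set G) :=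
  (D.N_le_Q i).trans (D.Q_le_cent_N i)

/-- `T` and its conjugates under `C_G(v i)` normalise the lines `U i ^ c` -/
theorem conj_T_le_N (i : Fin 2) (c : G) :
    MulAut.conj c • T ≤ normalizer ((MulAut.conj c • U i : Subgroup G) : Set G) :=
  conj_le_normalizer (D.T_le_N i)

theorem W_comm (i : Fin 2) : WU U v i ≤ centralizer (WU U v i : Set G) := by
  have key : ∀ c ∈ CC v i, ∀ d ∈ CC v i, MulAut.conj c • U i ≤
      normalizer ((MulAut.conj d • U i : Subgroup G) : Set G) := by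
    intro c hc d hd
    refine le_trans ?_ ((D.Q_le_conj_T hd).trans (D.conj_T_le_N i d))
    exact (conj_le_iff.2 (D.U_le_Q i)).trans (D.conj_Q hc).le
  exact V_le fun c hc => comm_symm (V_le fun d hd => comm_symm (D.lift i i c d (key c hc d hd) (key d hd c hc)))

/-- **(3)** `W i N i` is abelian. -/
theorem WN_comm (i : Fin 2) : WU U v i ⊔ NU U v i ≤ centralizer ((WU U v i ⊔ NU U v i : Subgroup G) : Set G) := by
  have h1 : NU U v i ≤ centralizer (WU U v i : Set G) := comm_symm ((D.W_le_Q i).trans (D.Q_le_cent_N i))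
  refine sup_le (comm_symm (sup_le (D.W_comm i) h1)) (comm_symm (sup_le (comm_symm h1) (D.N_comm i)))

theorem U_sq (i : Fin 2) : ∀ x ∈ U i, x ^ 2 = 1 := fun _ hx => (amb D.hyp).sq _ (D.le i hx)

/-- **(3)** `W i N i` is elementary abelian. -/
theorem WN_sq (i : Fin 2) : ∀ x ∈ WU U v i ⊔ NU U v i, x ^ 2 = 1 := by
  refine NoFF.Lines.Geo.sq_of_comm (D.WN_comm i) (ι := Fin 2 × CC v i)
    (B := fun j => MulAut.conj (j.2 : G) • U j.1) (fun j => ?_) (sup_le ?_ ?_)
    fun j => NoFF.Lines.Geo.conj_sq (D.U_sq j.1) _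
  · rcases eq_or_ne i j.1 with h | h
    · rw [← h]
      exact le_sup_of_le_left (Z_le_V j.2.2)
    · rw [eq_add_one h]
      exact le_sup_of_le_right (Z_le_V j.2.2)
  · exact V_le fun c hc => le_iSup (fun j : Fin 2 × CC v i => MulAut.conj (j.2 : G) • U j.1) (i, ⟨c, hc⟩)
  · exact V_le fun c hc => le_iSup (fun j : Fin 2 × CC v i => MulAut.conj (j.2 : G) • U j.1) (i + 1, ⟨c, hc⟩)

theorem C_le_N_W (i : Fin 2) : CC v i ≤ normalizer (WU U v i : Set G) := le_normalizer_V _ _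

theorem C_le_N_N (i : Fin 2) : CC v i ≤ normalizer (NU U v i : Set G) := le_normalizer_V _ _

theorem C_le_N_E (i : Fin 2) : CC v i ≤ normalizer (EU T v i : Set G) := le_normalizer_V _ _

/-! ### The action of `S` -/

/-- `v j` is the only involution of `U j` centralised by `T` -/
theorem eq_v {j : Fin 2} {x : G} (hx : x ∈ U j) (hx1 : x ≠ 1) (hfix : ∀ t ∈ T, t * x * t⁻¹ = x) : x = v j := by
  have h1 : x ∈ zc T := by
    refine mem_zc.2 ⟨D.U_le_T j hx, fun t ht => ?_, D.U_sq j x hx⟩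
    calc t * x = t * x * t⁻¹ * t := by group
      _ = x * t := by rw [hfix t ht]
  have hne : ∀ i, i ≠ j → v i ∉ U j := by
    intro i hij h2
    have h3 : v i ∈ U i ⊓ U j := ⟨D.mem i, h2⟩
    rw [D.inf i j hij, mem_bot] at h3
    exact D.ne i h3
  rcases (D.zT x).1 h1 with h2 | h2 | h2 | h2
  · exact absurd h2 hx1
  · by_cases hj : (0 : Fin 2) = j
    · rw [h2, hj]
    · exact absurd (h2 ▸ hx) (hne 0 hj)
  · by_cases hj : (1 : Fin 2) = j
    · rw [h2, hj]
    · exact absurd (h2 ▸ hx) (hne 1 hj)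
  · exfalso
    rcases eq_or_ne (0 : Fin 2) j with hj | hj
    · refine hne 1 (by rw [← hj]; decide) ?_
      have h3 : (v 0)⁻¹ * x ∈ U j := mul_mem (inv_mem (hj ▸ D.mem 0)) hx
      rw [h2, inv_mul_cancel_left] at h3
      exact h3
    · have hj1 : (1 : Fin 2) = j := by
        have := eq_add_one hj
        rw [this]
        decide
      refine hne 0 hj ?_
      have h3 : x * (v 1)⁻¹ ∈ U j := mul_mem hx (inv_mem (hj1 ▸ D.mem 1))
      rw [h2, mul_inv_cancel_right] at h3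
      exact h3

theorem S_le_N_T : (S : Subgroup G) ≤ normalizer (T : Set G) := by
  intro s hs
  obtain ⟨σ, hσ⟩ := D.perm s (D.S_le_P hs)
  refine ChoiceBase.mem_normalizer_iff_cj.2 ?_
  change MulAut.conj s • T = T
  conv_lhs => rw [D.T_eq 0]
  rw [Subgroup.smul_inf, ← normalizer_conj, hσ 0, NoFF.Basic.conj_self hs, ← D.T_eq]

/-- `S` permutes the pairs `(U i, v i)` -/
theorem perm_v {s : G} (hs : s ∈ (S : Subgroup G)) :
    ∃ σ : Equiv.Perm (Fin 2), ∀ i, MulAut.conj s • U i = U (σ i) ∧ s * v i * s⁻¹ = v (σ i) := by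
  obtain ⟨σ, hσ⟩ := D.perm s (D.S_le_P hs)
  refine ⟨σ, fun i => ⟨hσ i, ?_⟩⟩
  refine D.eq_v ?_ (fun h => D.ne i (conj_eq_one_iff.1 h)) fun t ht => ?_
  · rw [← hσ i, mem_conj]
    have e : s⁻¹ * (s * v i * s⁻¹) * s = v i := by group
    rw [e]
    exact D.mem i
  · have h1 : s⁻¹ * t * s ∈ T := by
      have := (mem_normalizer_iff.1 (inv_mem (D.S_le_N_T hs)) t).1 ht
      rwa [inv_inv] at this
    have h2 := D.cen i _ h1
    calc t * (s * v i * s⁻¹) * t⁻¹ = s * ((s⁻¹ * t * s) * v i * (s⁻¹ * t * s)⁻¹) * s⁻¹ := by group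
      _ = s * v i * s⁻¹ := by rw [h2]

omit [Finite G] D in
theorem conj_centralizer_singleton {g x y : G} (h : g * x * g⁻¹ = y) :
    MulAut.conj g • centralizer ({x} : Set G) = centralizer ({y} : Set G) := by
  ext c
  rw [mem_conj, mem_centralizer_singleton_iff, mem_centralizer_singleton_iff, ← h]
  constructor
  · intro h1
    calc c * (g * x * g⁻¹) = g * (g⁻¹ * c * g * x) * g⁻¹ := by group
      _ = g * (x * (g⁻¹ * c * g)) * g⁻¹ := by rw [h1]
      _ = g * x * g⁻¹ * c := by group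
  · intro h1
    calc g⁻¹ * c * g * x = g⁻¹ * (c * (g * x * g⁻¹)) * g := by group
      _ = g⁻¹ * (g * x * g⁻¹ * c) * g := by rw [h1]
      _ = x * (g⁻¹ * c * g) := by group

theorem S_le_N_sup : (S : Subgroup G) ≤ normalizer ((CC v 0 ⊔ CC v 1 : Subgroup G) : Set G) := by
  intro s hs
  have key : ∀ s ∈ (S : Subgroup G), MulAut.conj s • (CC v 0 ⊔ CC v 1) ≤ CC v 0 ⊔ CC v 1 := by
    intro s hs
    obtain ⟨σ, hσ⟩ := D.perm_v hs
    have h1 : ∀ i, CC v i ≤ CC v 0 ⊔ CC v 1 := by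
      intro i
      rcases Fin.exists_fin_two.1 ⟨i, rfl⟩ with h | h
      · rw [h]; exact le_sup_left
      · rw [h]; exact le_sup_right
    rw [Subgroup.smul_sup]
    refine sup_le ?_ ?_
    · rw [conj_centralizer_singleton (hσ 0).2]
      exact h1 _
    · rw [conj_centralizer_singleton (hσ 1).2]
      exact h1 _
  rw [mem_normalizer_iff]
  intro x
  constructor
  · intro hx
    apply key s hs
    rw [mem_conj]
    have e : s⁻¹ * (s * x * s⁻¹) * s = x := by group
    rwa [e]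
  · intro hx
    apply key s⁻¹ (inv_mem hs)
    rw [mem_conj, inv_inv]
    exact hx

/-! ### (4) CUT -/

/-- `C_G(x)` for a nonfull involution `x` of `V` -/
theorem cent_le {K : Subgroup G} (hP : P ≤ K) (hC : ∀ i, CC v i ≤ K) (i : Fin 2) {x : G} (hx : x ∈ U i)
    (hx1 : x ≠ 1) : centralizer ({x} : Set G) ≤ K := by
  obtain ⟨l, hl, -, -, hlx⟩ := D.tr i (i + 1) (ne_add_one i) x hx hx1
  rw [← conj_centralizer_singleton hlx]
  intro c hc
  rw [mem_conj] at hc
  have h1 := mul_mem (mul_mem (hP hl) (hC i hc)) (inv_mem (hP hl))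
  have e : l * (l⁻¹ * c * l) * l⁻¹ = c := by group
  rwa [e] at h1

theorem P_le {K : Subgroup G} (hS : (S : Subgroup G) ≤ K) (hC : ∀ i, CC v i ≤ K) : P ≤ K := by
  refine D.gen K hS fun i => ?_
  refine inf_le_right.trans ((centralizer_le ?_).trans (hC i))
  exact Set.singleton_subset_iff.2 (D.mem i)

/-- **(4) CUT.** -/
theorem cut : NonLoc (CC v 0) (CC v 1) ∨
    (IsLoc (S : Subgroup G) (CC v 0 ⊔ CC v 1 ⊔ (S : Subgroup G)) ∧ P ≤ CC v 0 ⊔ CC v 1 ⊔ (S : Subgroup G) ∧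
      (∀ i, ∀ x ∈ U i, x ≠ 1 → centralizer ({x} : Set G) ≤ CC v 0 ⊔ CC v 1 ⊔ (S : Subgroup G)) ∧
      ¬ CZ (S : Subgroup G) ≤ CC v 0 ⊔ CC v 1 ⊔ (S : Subgroup G)) := by
  by_cases hloc : NonLoc (CC v 0) (CC v 1)
  · exact Or.inl hloc
  right
  have hC : ∀ i, CC v i ≤ CC v 0 ⊔ CC v 1 ⊔ (S : Subgroup G) := by
    intro i
    rcases Fin.exists_fin_two.1 ⟨i, rfl⟩ with h | h
    · rw [h]; exact le_sup_left.trans le_sup_left
    · rw [h]; exact le_sup_right.trans le_sup_left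
  have hP : P ≤ CC v 0 ⊔ CC v 1 ⊔ (S : Subgroup G) := D.P_le le_sup_right hC
  have hL : IsLoc (S : Subgroup G) (CC v 0 ⊔ CC v 1 ⊔ (S : Subgroup G)) := by
    unfold NonLoc at hloc
    push Not at hloc
    obtain ⟨R, hR2, h0, h1, hR1⟩ := hloc
    obtain ⟨r, hr, hr1, hrT⟩ := Half.exists_fixed hR2 hR1 D.T_isPGroup ((D.T_le_C 0).trans h0)
    have hH : CC v 0 ⊔ CC v 1 ≤ normalizer (R : Set G) := sup_le h0 h1
    have h2 : o2 (CC v 0 ⊔ CC v 1) ≠ ⊥ := by
      refine o2_ne_bot_of_le (U := R ⊓ (CC v 0 ⊔ CC v 1)) (hR2.to_le inf_le_left) ?_ inf_le_right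
        (NO3L.LemP.le_normalizer_inf hH le_normalizer)
      intro h3
      have h4 : r ∈ R ⊓ (CC v 0 ⊔ CC v 1) := by
        refine ⟨hr, mem_sup_left ?_⟩
        have h5 := hrT (v 0) (D.U_le_T 0 (D.mem 0))
        rw [mem_centralizer_singleton_iff]
        calc r * v 0 = v 0 * r * (v 0)⁻¹ * v 0 := by rw [h5]
          _ = v 0 * r := by group
      rw [h3, mem_bot] at h4
      exact hr1 h4
    refine isLoc_of_le_normalizer S le_sup_right (o2_isPGroup _) h2 (sup_le (le_normalizer_o2 _) ?_)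
    exact D.S_le_N_sup.trans (Cfsg.Agent.Omega.normalizer_le_normalizer_o2' _)
  refine ⟨hL, hP, fun i x hx hx1 => D.cent_le hP hC i hx hx1, fun h => hL.o2_ne ?_⟩
  exact D.hyp.nonLoc _ (o2_isPGroup _) (hP.trans (le_normalizer_o2 _)) (h.trans (le_normalizer_o2 _))

/-! ### LEMMA P -/

theorem v_mem_zc (i : Fin 2) : v i ∈ zc T := by
  rw [D.zT]
  rcases Fin.exists_fin_two.1 ⟨i, rfl⟩ with h | h
  · exact Or.inr (Or.inl (by rw [h]))
  · exact Or.inr (Or.inr (Or.inl (by rw [h])))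

theorem zc_le_Q (i : Fin 2) : zc T ≤ QQ v i := by
  have h : ∀ j, v j ∈ QQ v i := by
    intro j
    rcases eq_or_ne i j with h | h
    · rw [← h]; exact D.v_mem_Q i
    · exact (D.half i j h).1 (D.mem j)
  intro x hx
  rcases (D.zT x).1 hx with h1 | h1 | h1 | h1
  · rw [h1]; exact one_mem _
  · rw [h1]; exact h 0
  · rw [h1]; exact h 1
  · rw [h1]; exact mul_mem (h 0) (h 1)

theorem E_le_Q (i : Fin 2) : EU T v i ≤ QQ v i :=
  V_le fun _ hc => by
    rw [← D.conj_QQ hc]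
    exact conj_le_iff.2 (D.zc_le_Q i)

theorem cent_zc_le (i : Fin 2) : centralizer (zc T : Set G) ≤ CC v i :=
  centralizer_le (Set.singleton_subset_iff.2 (D.v_mem_zc i))

/-- **LEMMA P applies** to `(C_G(v 0), C_G(v 1); C_G(Y))`. -/
theorem data : NO3L.LemP.Data (zc T) (centralizer (zc T : Set G)) (o2 (centralizer (zc T : Set G))) (CC v)
    (EU T v) (QQ v) where
  cen := le_rfl
  CH := D.cent_zc_le
  ZU := fun _ => le_V _ _
  HU := D.C_le_N_E
  HR := fun _ => le_normalizer_o2 _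
  UR := D.E_le_Q
  RQ := fun i => MinSimple.Basic.o2_normal_le_o2 ((D.Q_le_T i).trans (le_centralizer_zc T)) (D.cent_zc_le i)
  QR := fun i => NO3L.LemP.o2_inf_centralizer_le ((centralizer_le (le_V _ _)).trans le_rfl) (D.cent_zc_le i)
    (D.C_le_N_E i)

/-- `U (i+1) ≤ E i` -/
theorem U_le_E (i : Fin 2) : U (i + 1) ≤ EU T v i := by
  intro x hx
  by_cases hx1 : x = 1
  · rw [hx1]; exact one_mem _
  obtain ⟨l, -, hlU, -, hlx⟩ := D.tr (i + 1) i (ne_add_one i).symm x hx hx1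
  have hl : l ∈ CC v i := (centralizer_le (Set.singleton_subset_iff.2 (D.mem i))) hlU
  apply Z_le_V hl
  rw [mem_conj, ← hlx]
  have e : l⁻¹ * (l * v (i + 1) * l⁻¹) * l = v (i + 1) := by group
  rw [e]
  exact D.v_mem_zc _

theorem N_le_E (i : Fin 2) : NU U v i ≤ EU T v i :=
  V_le fun c hc => by
    have h1 := conj_le_iff (g := c) |>.2 (D.U_le_E i)
    rwa [conj_eq_of_mem (D.C_le_N_E i hc)] at h1

/-- `E i = N i ⟨v i⟩` -/
theorem E_le (i : Fin 2) : EU T v i ≤ NU U v i ⊔ zpowers (v i) := by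
  have h0 : v (i + 1) ∈ NU U v i := le_V _ _ (D.mem _)
  have h1 : ∀ j, v j ∈ NU U v i ⊔ zpowers (v i) := by
    intro j
    rcases eq_or_ne i j with h | h
    · rw [← h]; exact mem_sup_right (mem_zpowers _)
    · rw [eq_add_one h]; exact mem_sup_left h0
  have h2 : zc T ≤ NU U v i ⊔ zpowers (v i) := by
    intro x hx
    rcases (D.zT x).1 hx with h1' | h1' | h1' | h1'
    · rw [h1']; exact one_mem _
    · rw [h1']; exact h1 0
    · rw [h1']; exact h1 1
    · rw [h1']; exact mul_mem (h1 0) (h1 1)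
  refine V_le fun c hc => ?_
  have h3 : c ∈ normalizer ((NU U v i ⊔ zpowers (v i) : Subgroup G) : Set G) := by
    refine ChoiceBase.mem_normalizer_iff_cj.2 ?_
    change MulAut.conj c • (NU U v i ⊔ zpowers (v i)) = _
    rw [Subgroup.smul_sup, conj_eq_of_mem (D.C_le_N_N i hc)]
    congr 1
    have h4 : c ∈ centralizer (zpowers (v i) : Set G) := by
      rw [mem_centralizer_iff]
      rintro _ ⟨n, rfl⟩
      have h5 : Commute c (v i) := mem_centralizer_singleton_iff.1 hc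
      exact (h5.zpow_right n).eq.symm
    exact conj_eq_of_mem (centralizer_le_normalizer _ h4)
  have h4 := conj_le_iff (g := c) |>.2 h2
  rwa [conj_eq_of_mem h3] at h4

theorem E_comm (i : Fin 2) : EU T v i ≤ centralizer (EU T v i : Set G) := by
  have h1 : EU T v i ≤ WU U v i ⊔ NU U v i := by
    refine (D.E_le i).trans (sup_le le_sup_right ?_)
    rw [zpowers_le]
    exact mem_sup_left (le_V _ _ (D.mem i))
  exact comm_mono (D.WN_comm i) h1 h1

theorem E_sq (i : Fin 2) : ∀ x ∈ EU T v i, x ^ 2 = 1 := by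
  intro x hx
  refine D.WN_sq i x ?_
  refine ((D.E_le i).trans (sup_le le_sup_right ?_)) hx
  rw [zpowers_le]
  exact mem_sup_left (le_V _ _ (D.mem i))

/-- LEMMA P for `E 0`, `E 1` -/
theorem exists_crit (hII : NonLoc (CC v 0) (CC v 1)) :
    ∃ n, NO3L.LemP.Comm (CC v) (EU T v) (n + 1) ∧
      (∀ m ≤ n, ∀ a c : Fin 2 × G, NO3L.LemP.Near (CC v) m a c →
        NO3L.LemP.vx (EU T v) a ≤ NO3L.LemP.vx (QQ v) c) ∧
      ∃ (i j k l : Fin 2) (g : G), NO3L.LemP.Crit (o2 (centralizer (zc T : Set G))) (CC v) (EU T v) (QQ v) i j k l g ∧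
        NO3L.LemP.Near (CC v) (n + 1) (i, g) (j, 1) := by
  refine D.data.exists_crit D.E_comm fun hcon => ?_
  have hle : ∀ i, CC v i ≤ (⨆ i, CC v i : Subgroup G) := fun i => le_iSup (CC v) i
  have h1 := hII (clo (⨆ i, CC v i) (EU T v)) (fun a => ⟨1, ?_⟩) ((hle 0).trans (le_normalizer_clo _ _))
    ((hle 1).trans (le_normalizer_clo _ _))
  · have h2 : v 0 ∈ clo (⨆ i, CC v i) (EU T v) := le_clo' 0 (le_V _ _ (D.v_mem_zc 0))
    rw [h1, mem_bot] at h2
    exact D.ne 0 h2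
  · exact Subtype.ext (clo_isPGroup D.E_sq (clo_comm hcon) a a.2)

/-- **LEMMA P in case (II)**: a noncommuting pair `(N_i^g, N_j)` inside `O₂` of the neighbours; the pair is at least
distance, `N_i^g ≤ O₂(C_G(v (j+1)))` lies in all conjugates of `T` under `C_G(v (j+1))` (so it normalises every line
`U a ^ c`, `c ∈ C_G(v (j+1))`), and symmetrically. -/
theorem crit (hII : NonLoc (CC v 0) (CC v 1)) :
    ∃ n, NO3L.LemP.Comm (CC v) (EU T v) (n + 1) ∧
      (∀ m ≤ n, ∀ a c : Fin 2 × G, NO3L.LemP.Near (CC v) m a c →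
        NO3L.LemP.vx (EU T v) a ≤ NO3L.LemP.vx (QQ v) c) ∧
      ∃ (i j : Fin 2) (g : G), g ∈ (⨆ i, CC v i : Subgroup G) ∧ NO3L.LemP.Near (CC v) (n + 1) (i, g) (j, 1) ∧
        MulAut.conj g • EU T v i ≤ QQ v (j + 1) ∧ EU T v j ≤ MulAut.conj g • QQ v (i + 1) ∧
        ¬ MulAut.conj g • NU U v i ≤ centralizer (NU U v j : Set G) := by
  obtain ⟨n, h1, h2, i, j, k, l, g, h3, h4⟩ := D.exists_crit hII
  have hk : k = j + 1 := eq_add_one h3.kj.symm
  have hl : l = i + 1 := eq_add_one h3.li.symm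
  subst hk hl
  refine ⟨n, h1, h2, i, j, g, h3.mem, h4, h3.le, h3.ge, fun hcomm => h3.ne ?_⟩
  have hE1 : MulAut.conj g • EU T v i ≤ CC v j := h3.le.trans ((D.Q_le_T _).trans (D.T_le_C j))
  have hE2 : EU T v j ≤ MulAut.conj g • CC v i := h3.ge.trans (conj_le_iff.2 ((D.Q_le_T _).trans (D.T_le_C i)))
  have hz : ∀ a : Fin 2, CC v a ≤ centralizer (zpowers (v a) : Set G) := by
    intro a c hc
    rw [mem_centralizer_iff]
    rintro _ ⟨n, rfl⟩
    have h5 : Commute c (v a) := mem_centralizer_singleton_iff.1 hc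
    exact (h5.zpow_right n).eq.symm
  -- `E_i^g = N_i^g ⟨v_i^g⟩`
  have hEg : MulAut.conj g • EU T v i ≤ MulAut.conj g • NU U v i ⊔ MulAut.conj g • zpowers (v i) := by
    rw [← Subgroup.smul_sup]
    exact conj_le_iff.2 (D.E_le i)
  have hNj : NU U v j ≤ EU T v j := D.N_le_E j
  have hz1 : MulAut.conj g • zpowers (v i) ≤ centralizer (EU T v j : Set G) := by
    refine comm_symm (hE2.trans ?_)
    exact conj_le_centralizer (hz i)
  have h5 : MulAut.conj g • EU T v i ≤ centralizer (NU U v j : Set G) :=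
    hEg.trans (sup_le hcomm (hz1.trans (centralizer_le hNj)))
  refine comm_symm ((D.E_le j).trans (sup_le (comm_symm h5) ?_))
  exact comm_symm (hE1.trans (hz j))

end Sit

end Cfsg.Agent.Omega.OM.KTwo

end

section


/-!
# NO-3S, `k = 2`, `q = 2`, case (II): STEP F (helper609 #16177 (1))

* `StepF.le_normalizer` (abstract): `C₁ = F N_{C₁}(L)`, `F ≤ C₂`, `C₂ = ⟨D, M⟩`, `M` transitive on `L#`: the group
  generated by the `C₂`-conjugates of `v ∈ L` is normalised by `C₁`;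
* `Sit.step_f` : `C_G(v i) = C_{C_G(v i)}(N i) N(U i)` is impossible in the nonlocal case;
* `Sit.z_not_conj` : `z = v 0 v 1` is not conjugate to `v i` ((f4)).
-/

set_option autoImplicit false
set_option linter.unusedSectionVars false

namespace Cfsg.Agent.Omega.OM.KTwo

open Subgroup Cfsg Cfsg.Agent.ZN Cfsg.Agent.Omega.MinPar
open Cfsg.Agent.Omega.NO3S Cfsg.Agent.Omega.FrameNOFF
open Cfsg.Agent.Omega.NoFF.Basic (conj_conj mem_conj conj_le_iff conj_le_centralizer comm_symm comm_mono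
  Z_le_V V_le conj_V_mul)
open Cfsg.Agent.Omega.NOThreeL.Pair (conj_eq_of_mem)
open Cfsg.Agent.ZN.ChoiceSit (Syl)
open Cfsg.Agent.MinSimple.VModule (mem_zc)
open scoped Pointwise

universe u

variable {G : Type u} [Group G]

/-- elements of `F N`, `N ≤ N(F)` -/
theorem exists_mul_of_mem_sup {F N : Subgroup G} (h : N ≤ normalizer (F : Set G)) {x : G} (hx : x ∈ F ⊔ N) :
    ∃ f ∈ F, ∃ n ∈ N, x = f * n := by
  have key : ∀ n ∈ N, ∀ f ∈ F, n * f * n⁻¹ ∈ F := fun n hn f hf => (mem_normalizer_iff.1 (h hn) f).1 hf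
  let K : Subgroup G :=
    { carrier := {x | ∃ f ∈ F, ∃ n ∈ N, x = f * n}
      one_mem' := ⟨1, one_mem F, 1, one_mem N, by simp⟩
      mul_mem' := by
        rintro _ _ ⟨f, hf, n, hn, rfl⟩ ⟨f', hf', n', hn', rfl⟩
        exact ⟨f * (n * f' * n⁻¹), mul_mem hf (key n hn f' hf'), n * n', mul_mem hn hn', by group⟩
      inv_mem' := by
        rintro _ ⟨f, hf, n, hn, rfl⟩
        refine ⟨n⁻¹ * f⁻¹ * n⁻¹⁻¹, key _ (inv_mem hn) _ (inv_mem hf), n⁻¹, inv_mem hn, by group⟩ }
  have hle : F ⊔ N ≤ K := sup_le (fun f hf => ⟨f, hf, 1, one_mem N, by simp⟩) fun n hn => ⟨1, one_mem F, n, hn, by simp⟩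
  exact hle hx

namespace StepF

/-- **STEP F, abstract form.** -/
theorem le_normalizer {C₁ C₂ D M F L : Subgroup G} {v : G} (hv : ∀ g, g ∈ C₁ ↔ g * v * g⁻¹ = v) (hvL : v ∈ L)
    (hv1 : v ≠ 1) (hFn : C₁ ≤ normalizer (F : Set G)) (hFC : F ≤ C₂) (hD1 : D ≤ C₁)
    (hM2 : M ≤ C₂) (hML : M ≤ normalizer (L : Set G)) (hC2 : C₂ ≤ D ⊔ M)
    (hC1 : C₁ ≤ F ⊔ (C₁ ⊓ normalizer (L : Set G))) (htr : ∀ w ∈ L, w ≠ 1 → ∃ l ∈ M, l * v * l⁻¹ = w) :
    C₁ ≤ normalizer (NoFF.Basic.V (zpowers v) C₂ : Set G) := by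
  -- `C₁ C₂ ≤ C₂ C₁`
  have hM : ∀ m ∈ M, ∀ c ∈ C₁, ∃ x ∈ C₂, ∃ c' ∈ C₁, c * m = x * c' := by
    intro m hm c hc
    obtain ⟨f, hf, n, hn, rfl⟩ := exists_mul_of_mem_sup (inf_le_left.trans hFn) (hC1 hc)
    have hw : n * m * v * (n * m)⁻¹ ∈ L := by
      have h1 : m * v * m⁻¹ ∈ L := (mem_normalizer_iff.1 (hML hm) v).1 hvL
      have h2 := (mem_normalizer_iff.1 hn.2 _).1 h1
      have e : n * m * v * (n * m)⁻¹ = n * (m * v * m⁻¹) * n⁻¹ := by group
      rwa [e]
    obtain ⟨l, hl, hlw⟩ := htr _ hw (fun h => hv1 (conj_eq_one_iff.1 h))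
    refine ⟨f * l, mul_mem (hFC hf) (hM2 hl), l⁻¹ * n * m, (hv _).2 ?_, by group⟩
    calc l⁻¹ * n * m * v * (l⁻¹ * n * m)⁻¹ = l⁻¹ * (n * m * v * (n * m)⁻¹) * l := by group
      _ = l⁻¹ * (l * v * l⁻¹) * l := by rw [hlw]
      _ = v := by group
  have hA : ∀ y ∈ D ⊔ M, ∀ c ∈ C₁, ∃ x ∈ C₂, ∃ c' ∈ C₁, c * y = x * c' := by
    intro y hy
    rw [← closure_eq D, ← closure_eq M, ← Subgroup.closure_union] at hy
    induction hy using closure_induction'' with
    | mem x hx =>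
      intro c hc
      rcases hx with hx | hx
      · exact ⟨1, one_mem _, c * x, mul_mem hc (hD1 hx), by group⟩
      · exact hM x hx c hc
    | inv_mem x hx =>
      intro c hc
      rcases hx with hx | hx
      · exact ⟨1, one_mem _, c * x⁻¹, mul_mem hc (inv_mem (hD1 hx)), by group⟩
      · exact hM x⁻¹ (inv_mem hx) c hc
    | one => exact fun c hc => ⟨1, one_mem _, c, hc, by group⟩
    | mul x y _ _ h1 h2 =>
      intro c hc
      obtain ⟨x₁, hx₁, c₁, hc₁, e₁⟩ := h1 c hc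
      obtain ⟨x₂, hx₂, c₂, hc₂, e₂⟩ := h2 c₁ hc₁
      refine ⟨x₁ * x₂, mul_mem hx₁ hx₂, c₂, hc₂, ?_⟩
      calc c * (x * y) = c * x * y := by group
        _ = x₁ * (c₁ * y) := by rw [e₁]; group
        _ = x₁ * x₂ * c₂ := by rw [e₂]; group
  have hz : ∀ c ∈ C₁, MulAut.conj c • zpowers v = zpowers v := by
    intro c hc
    apply NOThreeL.Pair.conj_eq_of_mem
    apply centralizer_le_normalizer
    rw [mem_centralizer_iff]
    rintro _ ⟨n, rfl⟩
    have h1 : Commute c v := by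
      have h2 := (hv c).1 hc
      calc c * v = c * v * c⁻¹ * c := by group
        _ = v * c := by rw [h2]
    exact (h1.zpow_right n).eq.symm
  have key : ∀ c ∈ C₁, MulAut.conj c • NoFF.Basic.V (zpowers v) C₂ ≤ NoFF.Basic.V (zpowers v) C₂ := by
    intro c hc
    have h0 : NoFF.Basic.V (zpowers v) C₂ ≤ MulAut.conj c⁻¹ • NoFF.Basic.V (zpowers v) C₂ := by
      refine V_le fun x hx => ?_
      obtain ⟨x', hx', c', hc', e⟩ := hA x (hC2 hx) c hc
      have h1 : MulAut.conj c • (MulAut.conj x • zpowers v) ≤ NoFF.Basic.V (zpowers v) C₂ := by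
        rw [conj_conj, e, ← conj_conj, hz c' hc']
        exact Z_le_V hx'
      have h2 := conj_le_iff (g := c⁻¹) |>.2 h1
      rwa [conj_conj, inv_mul_cancel, map_one, one_smul] at h2
    have h2 := conj_le_iff (g := c) |>.2 h0
    rwa [conj_conj, mul_inv_cancel, map_one, one_smul] at h2
  intro c hc
  rw [mem_normalizer_iff]
  intro x
  constructor
  · intro hx
    apply key c hc
    rw [mem_conj]
    have e : c⁻¹ * (c * x * c⁻¹) * c = x := by group
    rwa [e]
  · intro hx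
    have h1 := key c⁻¹ (inv_mem hc)
    apply h1
    rw [mem_conj, inv_inv]
    exact hx

end StepF

/-- `C_{C_G(v i)}(N i)` -/
abbrev FF (U : Fin 2 → Subgroup G) (v : Fin 2 → G) (i : Fin 2) : Subgroup G :=
  CC v i ⊓ centralizer (NU U v i : Set G)

namespace Sit

variable [Finite G] {S : Sylow 2 G} {P T : Subgroup G} {U : Fin 2 → Subgroup G} {v : Fin 2 → G}
  (D : Sit S P T U v)

include D

theorem mem_N (i : Fin 2) : v (i + 1) ∈ NU U v i := le_V _ _ (D.mem _)

theorem U_le_N (i : Fin 2) : U (i + 1) ≤ NU U v i := le_V _ _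

theorem FF_le (i : Fin 2) : FF U v i ≤ CC v (i + 1) :=
  inf_le_right.trans (centralizer_le (Set.singleton_subset_iff.2 (D.mem_N i)))

theorem CC_inf : CC v 0 ⊓ CC v 1 ≤ centralizer (zc T : Set G) := by
  rintro c ⟨h0', h1'⟩
  have h0 : c * v 0 = v 0 * c := mem_centralizer_singleton_iff.1 h0'
  have h1 : c * v 1 = v 1 * c := mem_centralizer_singleton_iff.1 h1'
  rw [mem_centralizer_iff]
  intro x hx
  rcases (D.zT x).1 hx with h | h | h | h
  · rw [h]; simp
  · rw [h]; exact h0.symm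
  · rw [h]; exact h1.symm
  · rw [h]
    calc v 0 * v 1 * c = v 0 * (c * v 1) := by rw [mul_assoc, h1]
      _ = (v 0 * c) * v 1 := by group
      _ = c * (v 0 * v 1) := by rw [← h0]; group

theorem FF_le_D (i : Fin 2) : FF U v i ≤ centralizer (zc T : Set G) := by
  refine le_trans (le_inf ?_ ?_) D.CC_inf
  · rcases Fin.exists_fin_two.1 ⟨i, rfl⟩ with h | h
    · rw [h]; exact inf_le_left
    · have h1 := D.FF_le i
      rw [h] at h1 ⊢
      exact h1
  · rcases Fin.exists_fin_two.1 ⟨i, rfl⟩ with h | h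
    · have h1 := D.FF_le i
      rw [h] at h1 ⊢
      exact h1
    · rw [h]; exact inf_le_left

theorem C_le_N_FF (i : Fin 2) : CC v i ≤ normalizer (FF U v i : Set G) := by
  intro c hc
  refine ChoiceBase.mem_normalizer_iff_cj.2 ?_
  change MulAut.conj c • (CC v i ⊓ centralizer (NU U v i : Set G)) = _
  rw [Subgroup.smul_inf, NoFF.Basic.conj_self hc]
  congr 1
  apply conj_eq_of_mem
  have h1 := D.C_le_N_N i hc
  rw [mem_normalizer_iff]
  have key : ∀ g, g ∈ normalizer (NU U v i : Set G) → ∀ x ∈ centralizer (NU U v i : Set G),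
      g * x * g⁻¹ ∈ centralizer (NU U v i : Set G) := by
    intro g hg x hx
    rw [mem_centralizer_iff] at hx ⊢
    intro y hy
    have h2 : g⁻¹ * y * g ∈ NU U v i := by
      have := (mem_normalizer_iff.1 (inv_mem hg) y).1 hy
      rwa [inv_inv] at this
    have h3 := hx _ h2
    calc y * (g * x * g⁻¹) = g * (g⁻¹ * y * g * x) * g⁻¹ := by group
      _ = g * (x * (g⁻¹ * y * g)) * g⁻¹ := by rw [h3]
      _ = g * x * g⁻¹ * y := by group
  intro x
  refine ⟨key c h1 x, fun hx => ?_⟩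
  have h2 := key c⁻¹ (inv_mem h1) _ hx
  have e : c⁻¹ * (c * x * c⁻¹) * c⁻¹⁻¹ = x := by group
  rwa [e] at h2

/-- every 2-subgroup of `C_G(v i)` has order at most `|T|` -/
theorem card_le_T {i : Fin 2} {R : Subgroup G} (hR : IsPGroup 2 R) (hRC : R ≤ CC v i) :
    Nat.card R ≤ Nat.card T := by
  obtain ⟨R', hR', hle⟩ := Cfsg.Agent.ZN.ChoiceSit.exists_syl hR hRC
  obtain ⟨x, -, hx⟩ := Cfsg.Agent.ZN.ChoiceSit.syl_conj hR' (D.syl i)
  have h1 : Nat.card T = Nat.card R' := by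
    rw [← hx]
    exact Nat.card_congr (Subgroup.equivSMul (MulAut.conj x) R').toEquiv.symm
  rw [h1]
  exact Subgroup.card_le_of_le hle

/-- **(f4)** -/
theorem z_not_conj (i : Fin 2) (g : G) : g * v i * g⁻¹ ≠ v 0 * v 1 := by
  intro h
  have h1 : MulAut.conj g⁻¹ • (S : Subgroup G) ≤ CC v i := by
    intro x hx
    rw [mem_conj, inv_inv] at hx
    have h2 : v 0 * v 1 ∈ zc (S : Subgroup G) := (D.zS _).2 (Or.inr rfl)
    have h3 : g * x * g⁻¹ * (v 0 * v 1) = v 0 * v 1 * (g * x * g⁻¹) := (mem_zc.1 h2).2.1 _ hx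
    rw [mem_centralizer_singleton_iff]
    rw [← h] at h3
    calc x * v i = g⁻¹ * (g * x * g⁻¹ * (g * v i * g⁻¹)) * g := by group
      _ = g⁻¹ * (g * v i * g⁻¹ * (g * x * g⁻¹)) * g := by rw [h3]
      _ = v i * x := by group
  have h2 : IsPGroup 2 (MulAut.conj g⁻¹ • (S : Subgroup G) : Subgroup G) :=
    IsPGroup.of_equiv S.isPGroup' (Subgroup.equivSMul (MulAut.conj g⁻¹) (S : Subgroup G))
  have h3 := D.card_le_T h2 h1
  have h4 : Nat.card (MulAut.conj g⁻¹ • (S : Subgroup G) : Subgroup G) = Nat.card (S : Subgroup G) :=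
    Nat.card_congr (Subgroup.equivSMul (MulAut.conj g⁻¹) (S : Subgroup G)).toEquiv.symm
  rw [h4, D.card_T] at h3
  have h5 : 0 < Nat.card T := Nat.card_pos
  omega

/-- `C_P(U j)` normalises `U i` -/
theorem cen_le_norm {i j : Fin 2} (hij : i ≠ j) : P ⊓ centralizer (U j : Set G) ≤ normalizer (U i : Set G) := by
  rintro m ⟨hmP, hmC⟩
  obtain ⟨σ, hσ⟩ := D.perm m hmP
  have h2 : MulAut.conj m • U j = U j := conj_eq_of_mem (centralizer_le_normalizer _ hmC)
  have h3 : U (σ j) = U j := (hσ j).symm.trans h2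
  have hinj : ∀ a b, U a = U b → a = b := by
    intro a b h
    by_contra hab
    have h4 := D.inf a b hab
    rw [← h, inf_idem] at h4
    have h5 := D.mem a
    rw [h4, mem_bot] at h5
    exact D.ne a h5
  have h4 : σ j = j := hinj _ _ h3
  have h5 : σ i = i := by
    have h6 : σ i ≠ j := fun h => hij (σ.injective (h.trans h4.symm))
    have h7 : ∀ a b c : Fin 2, a ≠ c → b ≠ c → b = a := by decide
    exact h7 _ _ _ hij h6
  refine ChoiceBase.mem_normalizer_iff_cj.2 ?_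
  change MulAut.conj m • U i = U i
  rw [hσ i, h5]

/-- **STEP F.** -/
theorem step_f (hII : NonLoc (CC v 0) (CC v 1)) (i : Fin 2)
    (hmax : CC v (i + 1) ≤ centralizer (zc T : Set G) ⊔ (P ⊓ centralizer (U (i + 1) : Set G))) :
    ¬ CC v i ≤ FF U v i ⊔ (CC v i ⊓ normalizer (U i : Set G)) := by
  intro hC
  have h1 : CC v i ≤ normalizer (NoFF.Basic.V (zpowers (v i)) (CC v (i + 1)) : Set G) := by
    refine StepF.le_normalizer (D := centralizer (zc T : Set G)) (M := P ⊓ centralizer (U (i + 1) : Set G))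
      (F := FF U v i) (L := U i) (fun g => ?_) (D.mem i) (D.ne i) (D.C_le_N_FF i) (D.FF_le i) (D.cent_zc_le i)
      ?_ ?_ hmax hC ?_
    · rw [mem_centralizer_singleton_iff]
      constructor
      · intro h
        rw [h]; group
      · intro h
        calc g * v i = g * v i * g⁻¹ * g := by group
          _ = v i * g := by rw [h]
    · exact inf_le_right.trans (centralizer_le (Set.singleton_subset_iff.2 (D.mem _)))
    · exact D.cen_le_norm (ne_add_one i)
    · intro w hw hw1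
      obtain ⟨l, hl, hlU, -, hlw⟩ := D.tr i (i + 1) (ne_add_one i) w hw hw1
      exact ⟨l, ⟨hl, hlU⟩, hlw⟩
  have h2 : CC v (i + 1) ≤ normalizer (NoFF.Basic.V (zpowers (v i)) (CC v (i + 1)) : Set G) :=
    le_normalizer_V _ _
  have h3 : NoFF.Basic.V (zpowers (v i)) (CC v (i + 1)) ≤ (S : Subgroup G) := by
    refine le_trans (V_le fun c hc => ?_) ((D.Q_le_T (i + 1)).trans D.T_le)
    change _ ≤ QQ v (i + 1)
    rw [← D.conj_QQ hc]
    refine conj_le_iff.2 ?_
    rw [zpowers_le]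
    exact D.zc_le_Q (i + 1) (D.v_mem_zc i)
  have h4 : NoFF.Basic.V (zpowers (v i)) (CC v (i + 1)) = ⊥ := by
    refine hII _ (S.isPGroup'.to_le h3) ?_ ?_
    · rcases Fin.exists_fin_two.1 ⟨i, rfl⟩ with h | h
      · rw [h] at h1 ⊢; exact h1
      · rw [h] at h2 ⊢; exact h2
    · rcases Fin.exists_fin_two.1 ⟨i, rfl⟩ with h | h
      · rw [h] at h2 ⊢; exact h2
      · rw [h] at h1 ⊢; exact h1
  have h5 : v i ∈ NoFF.Basic.V (zpowers (v i)) (CC v (i + 1)) := le_V _ _ (mem_zpowers _)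
  rw [h4, mem_bot] at h5
  exact D.ne i h5

end Sit

end Cfsg.Agent.Omega.OM.KTwo

end

section


/-!
# CARD #18791 "(E) = TWO CENTRES", `q = 2`: the common frame (no swap, `T` not assumed Sylow in `G`)

`Fr T V P v` : two commuting involutions `v 0, v 1`, `T` a Sylow 2-subgroup of `C_G(v i)` and of `N_G(V i)`,
`Ω₁Z(T) = ⟨v 0, v 1⟩`, `V i` a four-group containing `v i`, `P i ≤ C_G(v j)` (`j ≠ i`) a `T`-minimal subgroup which moves
`v i` and normalises `V 0`, `V 1`; conjugates of `V 0`, `V 1` which normalise each other commute (`noff`); every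
`T`-minimal `R ≤ C_G(v j)` which moves `v i` normalises `V i` (`uni`); `⟨C_G(v 0), C_G(v 1)⟩` is nonlocal.

Notation of `OM.KTwo`: `CC v i = C_G(v i)`, `QQ v i = O₂(C_G(v i))`, `NU V v i = N_i = ⟨V (i+1) ^ C_i⟩`,
`WU V v i = W_i = ⟨V i ^ C_i⟩`, `EU T v i = ⟨Ω₁Z(T) ^ C_i⟩ = N_i ⟨v i⟩`, `D = centralizer (zc T) = C_0 ∩ C_1`.

* `Fr.half` : `V j ≤ Z(Q_i)`; `Fr.U_le_Q` : `V i ≤ Q_i`; `Fr.W_le_Q`, `Fr.Q_le_cent_N`, `Fr.WN_comm`, `Fr.WN_sq`;
* `Fr.tr` : an element of `P i ∩ C(V j)` maps `v i` to `x ∈ V i#`; `Fr.gen` : `C_j = ⟨P i, D⟩`;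
* `Fr.comp` : `C_i ≠ D N_{C_i}(V i)` ("(COMP)", STEP F); `Fr.lem0` : **LEMMA 0** of #19092;
* `Fr.exists_crit`, `Fr.crit` : LEMMA P, a critical pair.
-/

set_option autoImplicit false
set_option linter.unusedSectionVars false

namespace Cfsg.Agent.Omega.TC

open Subgroup Cfsg Cfsg.Agent.ZN Cfsg.Agent.Omega.MinPar
open Cfsg.Agent.Omega.OM.KTwo (CC QQ WU NU EU FF ne_add_one eq_add_one add_one_add_one le_normalizer_V le_V
  le_o2_of_commutator)
open Cfsg.Agent.MinSimple.MinParabolic (IsMinPar)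
open Cfsg.Agent.Omega.NoFF.Basic (conj_conj mem_conj conj_le_iff conj_le_centralizer comm_symm comm_mono
  Z_le_V V_le conj_V_mul)
open Cfsg.Agent.Omega.NoFF.Main (normalizer_conj)
open Cfsg.Agent.Omega.NOThreeL.Pair (conj_eq_of_mem conj_le_normalizer clo le_clo le_clo' clo_le
  le_normalizer_clo clo_comm clo_isPGroup)
open Cfsg.Agent.Omega.NO3L (LemP.Data LemP.Crit LemP.Comm LemP.Near LemP.vx)
open Cfsg.Agent.ZN.ChoiceSit (Syl exists_syl syl_conj o2_le_syl)
open Cfsg.Agent.MinSimple.VModule (mem_zc zc_le normalizer_le_normalizer_zc le_normalizer_o2 le_o2 o2_le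
  o2_isPGroup zc_le_centralizer le_centralizer_zc)
open scoped Pointwise

universe u

variable {G : Type u} [Group G]

/-- **The frame of CARD #18791** (two centres). -/
structure Fr [Finite G] (T : Subgroup G) (V P : Fin 2 → Subgroup G) (v : Fin 2 → G) : Prop where
  char2 : IsCharacteristicTwoType G
  four : ∀ i, Nat.card (V i) = 4
  sqV : ∀ i, ∀ x ∈ V i, x ^ 2 = 1
  mem : ∀ i, v i ∈ V i
  ne : ∀ i, v i ≠ 1
  zT : ∀ x, x ∈ zc T ↔ x = 1 ∨ x = v 0 ∨ x = v 1 ∨ x = v 0 * v 1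
  syl : ∀ i, Syl T (centralizer ({v i} : Set G))
  sylN : ∀ i, Syl T (normalizer (V i : Set G))
  par : ∀ i, IsMinPar T (P i)
  PC : ∀ i j, i ≠ j → P i ≤ centralizer ({v j} : Set G)
  PN : ∀ i j, P i ≤ normalizer (V j : Set G)
  mv : ∀ i, ¬ P i ≤ centralizer ({v i} : Set G)
  noff : ∀ (i j : Fin 2) (g h : G),
    MulAut.conj g • V i ≤ normalizer ((MulAut.conj h • V j : Subgroup G) : Set G) →
    MulAut.conj h • V j ≤ normalizer ((MulAut.conj g • V i : Subgroup G) : Set G) →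
    MulAut.conj g • V i ≤ centralizer ((MulAut.conj h • V j : Subgroup G) : Set G)
  uni : ∀ i j, i ≠ j → ∀ R : Subgroup G, IsMinPar T R → R ≤ centralizer ({v j} : Set G) →
    ¬ R ≤ centralizer ({v i} : Set G) → R ≤ normalizer (V i : Set G)
  nonloc : NonLoc (centralizer ({v 0} : Set G)) (centralizer ({v 1} : Set G))

namespace Fr

variable [Finite G] {T : Subgroup G} {V P : Fin 2 → Subgroup G} {v : Fin 2 → G} (D : Fr T V P v)

include D

/-! ### Easy facts -/

theorem T_isPGroup : IsPGroup 2 T := (D.syl 0).2.1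

theorem T_le_N (i : Fin 2) : T ≤ normalizer (V i : Set G) := (D.sylN i).1

theorem T_le_C (i : Fin 2) : T ≤ CC v i := (D.syl i).1

theorem T_le_P (i : Fin 2) : T ≤ P i := (D.par i).le

theorem v_sq' (i : Fin 2) : v i ^ 2 = 1 := D.sqV i _ (D.mem i)

theorem v_sq (i : Fin 2) : v i * v i = 1 := by rw [← pow_two]; exact D.v_sq' i

theorem isChar2 (i : Fin 2) : centralizer ({v i} : Set G) ⊓
    centralizer (o2 (centralizer ({v i} : Set G)) : Set G) ≤ o2 (centralizer ({v i} : Set G)) :=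
  MinSimple.Basic.char2_centralizer D.char2 (D.v_sq' i) (D.ne i)

theorem v_mem_Q (i : Fin 2) : v i ∈ QQ v i := by
  apply D.isChar2 i
  refine ⟨mem_centralizer_singleton_iff.2 rfl, mem_centralizer_iff.2 fun q hq => ?_⟩
  exact mem_centralizer_singleton_iff.1 (o2_le _ hq)

theorem Q_le_T (i : Fin 2) : QQ v i ≤ T := o2_le_syl (D.syl i)

theorem v_mem_zc (i : Fin 2) : v i ∈ zc T := by
  rw [D.zT]
  rcases Fin.exists_fin_two.1 ⟨i, rfl⟩ with h | h
  · exact Or.inr (Or.inl (by rw [h]))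
  · exact Or.inr (Or.inr (Or.inl (by rw [h])))

theorem v_mem_T (i : Fin 2) : v i ∈ T := zc_le _ (D.v_mem_zc i)

theorem comm_v (i : Fin 2) {t : G} (ht : t ∈ T) : t * v i = v i * t :=
  mem_centralizer_singleton_iff.1 (D.T_le_C i ht)

theorem cen (i : Fin 2) {t : G} (ht : t ∈ T) : t * v i * t⁻¹ = v i := by
  rw [D.comm_v i ht]; group

theorem v_mem_Q' (i j : Fin 2) : v j ∈ QQ v i := by
  apply D.isChar2 i
  refine ⟨D.T_le_C i (D.v_mem_T j), mem_centralizer_iff.2 fun q hq => ?_⟩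
  exact D.comm_v j (D.Q_le_T i hq)

theorem zc_le_Q (i : Fin 2) : zc T ≤ QQ v i := by
  intro x hx
  rcases (D.zT x).1 hx with h1 | h1 | h1 | h1
  · rw [h1]; exact one_mem _
  · rw [h1]; exact D.v_mem_Q' i 0
  · rw [h1]; exact D.v_mem_Q' i 1
  · rw [h1]; exact mul_mem (D.v_mem_Q' i 0) (D.v_mem_Q' i 1)

theorem cent_zc_le (i : Fin 2) : centralizer (zc T : Set G) ≤ CC v i :=
  centralizer_le (Set.singleton_subset_iff.2 (D.v_mem_zc i))

theorem CC_inf : CC v 0 ⊓ CC v 1 ≤ centralizer (zc T : Set G) := by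
  rintro c ⟨h0', h1'⟩
  have h0 : c * v 0 = v 0 * c := mem_centralizer_singleton_iff.1 h0'
  have h1 : c * v 1 = v 1 * c := mem_centralizer_singleton_iff.1 h1'
  rw [mem_centralizer_iff]
  intro x hx
  rcases (D.zT x).1 hx with h | h | h | h
  · rw [h]; simp
  · rw [h]; exact h0.symm
  · rw [h]; exact h1.symm
  · rw [h]
    calc v 0 * v 1 * c = v 0 * (c * v 1) := by rw [mul_assoc, h1]
      _ = (v 0 * c) * v 1 := by group
      _ = c * (v 0 * v 1) := by rw [← h0]; group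

theorem mem_D_iff {i j : Fin 2} (hij : i ≠ j) {c : G} :
    c ∈ centralizer (zc T : Set G) ↔ c ∈ CC v i ∧ c ∈ CC v j := by
  constructor
  · exact fun h => ⟨D.cent_zc_le i h, D.cent_zc_le j h⟩
  · rintro ⟨h1, h2⟩
    apply D.CC_inf
    rw [eq_add_one hij] at h2
    rcases Fin.exists_fin_two.1 ⟨i, rfl⟩ with h | h
    · rw [h] at h1 h2; exact ⟨h1, h2⟩
    · rw [h] at h1 h2; exact ⟨h2, h1⟩

theorem T_le_D : T ≤ centralizer (zc T : Set G) := le_centralizer_zc T

/-- two subgroups of a four-group -/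
theorem eq_of_V {i : Fin 2} {a b x : G} (ha : a ∈ V i) (ha1 : a ≠ 1) (hb : b ∈ V i) (hb1 : b ≠ 1) (hab : a ≠ b)
    (hx : x ∈ V i) (hx1 : x ≠ 1) : x = a ∨ x = b ∨ x = a * b :=
  NO3S.eq_of_card_four (D.four i) (D.sqV i) ha ha1 hb hb1 hab hx hx1

theorem exists_ne_v (i : Fin 2) : ∃ x ∈ V i, x ≠ 1 ∧ x ≠ v i := by
  by_contra hcon
  push Not at hcon
  have h1 : (V i : Set G) ⊆ {1, v i} := by
    intro x hx
    by_cases hx1 : x = 1
    · exact Or.inl hx1
    · exact Or.inr (hcon x hx hx1)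
  have h2 : ((V i : Subgroup G) : Set G).ncard ≤ 2 :=
    (Set.ncard_le_ncard h1).trans (Set.ncard_insert_le _ _ |>.trans (by simp))
  have h3 : ((V i : Subgroup G) : Set G).ncard = 4 := D.four i
  omega

theorem V_isPGroup (i : Fin 2) : IsPGroup 2 (V i) := by
  rintro ⟨x, hx⟩
  exact ⟨1, Subtype.ext (by simpa using D.sqV i x hx)⟩

theorem V_comm {i : Fin 2} {a b : G} (ha : a ∈ V i) (hb : b ∈ V i) : a * b = b * a := by
  have h1 : ∀ x ∈ V i, x * x = 1 := fun x hx => by rw [← pow_two]; exact D.sqV i x hx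
  have h2 : ∀ x ∈ V i, x⁻¹ = x := fun x hx => inv_eq_of_mul_eq_one_left (h1 x hx)
  have h3 := h2 _ (mul_mem ha hb)
  rw [mul_inv_rev, h2 a ha, h2 b hb] at h3
  exact h3.symm

/-- `V i ≤ T` -/
theorem V_le_T (i : Fin 2) : V i ≤ T := by
  have h1 : V i ≤ normalizer (V i : Set G) := le_normalizer
  have h2 : IsPGroup 2 (T ⊔ V i : Subgroup G) :=
    IsPGroup.to_sup_of_normal_right' D.T_isPGroup (D.V_isPGroup i) (D.T_le_N i)
  have h3 := (D.sylN i).2.2 _ (sup_le (D.T_le_N i) h1) h2 le_sup_left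
  rw [← h3]
  exact le_sup_right

/-- `v i` is the only involution of `V i` centralised by `T` -/
theorem eq_v {i : Fin 2} {x : G} (hx : x ∈ V i) (hx1 : x ≠ 1) (hfix : ∀ t ∈ T, t * x * t⁻¹ = x) : x = v i := by
  by_contra hne
  -- `T` centralises `V i`, so `V i ≤ Ω₁Z(T)` has order 4
  have h1 : V i ≤ zc T := by
    intro y hy
    refine mem_zc.2 ⟨D.V_le_T i hy, fun t ht => ?_, D.sqV i y hy⟩
    have hxt : t * x = x * t := by
      calc t * x = t * x * t⁻¹ * t := by group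
        _ = x * t := by rw [hfix t ht]
    by_cases hy1 : y = 1
    · rw [hy1]; group
    rcases D.eq_of_V hx hx1 (D.mem i) (D.ne i) hne hy hy1 with h | h | h
    · rw [h]; exact hxt
    · rw [h]; exact D.comm_v i ht
    · rw [h]
      calc t * (x * v i) = (t * x) * v i := by group
        _ = x * (t * v i) := by rw [hxt]; group
        _ = x * v i * t := by rw [D.comm_v i ht]; group
  -- then `P i` centralises `v i`
  obtain ⟨j, hij⟩ : ∃ j : Fin 2, i ≠ j := ⟨i + 1, ne_add_one i⟩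
  have h2 : Nat.card (zc T) ≤ 4 := by
    have h3 : ((zc T : Subgroup G) : Set G) ⊆ {1, v 0, v 1, v 0 * v 1} := fun y hy => by
      rcases (D.zT y).1 hy with h | h | h | h <;> simp [h]
    have h4 : Nat.card (zc T) = ((zc T : Subgroup G) : Set G).ncard := rfl
    rw [h4]
    refine (Set.ncard_le_ncard h3).trans ?_
    refine (Set.ncard_insert_le _ _).trans ?_
    have h5 := Set.ncard_insert_le (v 0) ({v 1, v 0 * v 1} : Set G)
    have h6 := Set.ncard_insert_le (v 1) ({v 0 * v 1} : Set G)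
    rw [Set.ncard_singleton] at h6
    omega
  have h3 : V i = zc T := Subgroup.eq_of_le_of_card_ge h1 (by rw [D.four i]; exact h2)
  -- an element of `P i` acts on `V i ∋ v j`, fixes `v j`; `T` centralises `V i`
  have hvj : v j ∈ V i := by rw [h3]; exact D.v_mem_zc j
  by_cases hvv : v j = v i
  · exact D.mv i (hvv ▸ D.PC i j hij)
  apply D.mv i
  -- the stabiliser of `v i` in `P i` contains `T`; index a power of 2
  have hfix2 : ∀ p ∈ P i, p * v i * p⁻¹ = v i ∨ p * v i * p⁻¹ = v j * v i := by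
    intro p hp
    have h4 : p * v i * p⁻¹ ∈ V i := (mem_normalizer_iff.1 (D.PN i i hp) _).1 (D.mem i)
    have h5 : p * v i * p⁻¹ ≠ 1 := fun h => D.ne i (conj_eq_one_iff.1 h)
    have h6 : p * v j * p⁻¹ = v j := by
      rw [mem_centralizer_singleton_iff.1 (D.PC i j hij hp)]; group
    rcases D.eq_of_V (D.mem i) (D.ne i) hvj (D.ne j) (Ne.symm hvv) h4 h5 with h | h | h
    · exact Or.inl h
    · exfalso
      apply hvv
      rw [← h6] at h
      have h7 := congrArg (fun t => p⁻¹ * t * p) h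
      simp only [mul_assoc, inv_mul_cancel_left] at h7
      have h8 : v i = v j := by simpa using h7
      exact h8.symm
    · right; rw [h, D.V_comm (D.mem i) hvj]
  have hsyl : Syl T (P i) := ⟨D.T_le_P i, D.T_isPGroup, fun Q hQ hQ2 hTQ =>
    (D.syl j).2.2 Q (hQ.trans (D.PC i j hij)) hQ2 hTQ⟩
  have hsq : ∀ p ∈ P i, ∀ w ∈ V i, p * (p * w * p⁻¹) * p⁻¹ = w := by
    intro p hp w hw
    have h6 : p * v j * p⁻¹ = v j := by
      rw [mem_centralizer_singleton_iff.1 (D.PC i j hij hp)]; group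
    have h7 : p * (p * v i * p⁻¹) * p⁻¹ = v i := by
      rcases hfix2 p hp with h | h
      · rw [h, h]
      · rw [h]
        have e : p * (v j * v i) * p⁻¹ = (p * v j * p⁻¹) * (p * v i * p⁻¹) := by group
        rw [e, h6, h, ← mul_assoc, D.v_sq, one_mul]
    by_cases hw1 : w = 1
    · rw [hw1]; group
    rcases D.eq_of_V (D.mem i) (D.ne i) hvj (D.ne j) (Ne.symm hvv) hw hw1 with h | h | h
    · rw [h]; exact h7
    · rw [h, h6, h6]
    · rw [h]
      have e : p * (p * (v i * v j) * p⁻¹) * p⁻¹ = (p * (p * v i * p⁻¹) * p⁻¹) * (p * (p * v j * p⁻¹) * p⁻¹) := by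
        group
      rw [e, h7, h6, h6]
  -- every element of `P i` is, modulo `C(V i)`, in a 2-group
  intro p hp
  have hnor : ((centralizer (V i : Set G)).subgroupOf (P i)).Normal := by
    refine ⟨fun x hx g => ?_⟩
    rw [mem_subgroupOf] at hx ⊢
    rw [mem_centralizer_iff]
    intro y hy
    have h8 : (g : G)⁻¹ * y * g ∈ V i := by
      have := (mem_normalizer_iff.1 (inv_mem (D.PN i i g.2)) y).1 hy
      rwa [inv_inv] at this
    have h9 := mem_centralizer_iff.1 hx _ h8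
    push_cast
    calc y * ((g : G) * x * (g : G)⁻¹) = g * (((g : G)⁻¹ * y * g) * x) * (g : G)⁻¹ := by group
      _ = g * (x * ((g : G)⁻¹ * y * g)) * (g : G)⁻¹ := by rw [h9]
      _ = g * x * (g : G)⁻¹ * y := by group
  -- index of `C(V i) ∩ P i` in `P i` is a power of 2; `T ≤ C(V i)` is Sylow
  set C : Subgroup (P i) := (centralizer (V i : Set G)).subgroupOf (P i) with hC
  have hq : IsPGroup 2 (↥(P i) ⧸ C) := by
    intro x
    obtain ⟨y, rfl⟩ := QuotientGroup.mk_surjective x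
    refine ⟨1, ?_⟩
    rw [pow_one, pow_two, ← QuotientGroup.mk_mul, QuotientGroup.eq_one_iff]
    rw [hC, mem_subgroupOf, mem_centralizer_iff]
    intro w hw
    have h8 := hsq y y.2 w hw
    push_cast
    calc w * ((y : G) * y) = ((y : G) * (y * w * (y : G)⁻¹) * (y : G)⁻¹) * (y * y) := by rw [h8]
      _ = y * y * w := by group
  have hTC : T.subgroupOf (P i) ≤ C := by
    intro t ht
    rw [mem_subgroupOf] at ht
    rw [hC, mem_subgroupOf, mem_centralizer_iff]
    intro w hw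
    exact ((mem_zc.1 (h1 hw)).2.1 _ ht).symm
  have hidx : C.index = 1 := by
    obtain ⟨n, hn⟩ := IsPGroup.iff_card.1 hq
    have h8 : C.index = 2 ^ n := hn
    rcases Nat.eq_zero_or_pos n with hn0 | hn0
    · rw [h8, hn0, pow_zero]
    · exfalso
      have h9 : ¬ 2 ∣ T.relIndex (P i) := Cfsg.Agent.ZN.ChoiceSit.syl_not_dvd hsyl
      apply h9
      have h10 : C.index ∣ T.relIndex (P i) := index_dvd_of_le hTC
      exact ((dvd_pow_self 2 hn0.ne').trans (h8 ▸ dvd_rfl)).trans h10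
  have htop : C = ⊤ := index_eq_one.1 hidx
  have hpC : (⟨p, hp⟩ : P i) ∈ C := by rw [htop]; exact mem_top _
  have h8 := mem_centralizer_iff.1 ((mem_subgroupOf.1 hpC : (p : G) ∈ centralizer (V i : Set G))) _ (D.mem i)
  rw [mem_centralizer_singleton_iff]
  exact h8.symm

/-- `T` moves the other elements of `V i` -/
theorem exists_swap {i : Fin 2} {x : G} (hx : x ∈ V i) (hx1 : x ≠ 1) (hxv : x ≠ v i) :
    ∃ t ∈ T, t * x * t⁻¹ = x * v i := by
  obtain ⟨t, ht, hne⟩ : ∃ t ∈ T, t * x * t⁻¹ ≠ x := by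
    by_contra hcon
    push Not at hcon
    exact hxv (D.eq_v hx hx1 hcon)
  refine ⟨t, ht, ?_⟩
  have h1 : t * x * t⁻¹ ∈ V i := (mem_normalizer_iff.1 (D.T_le_N i ht) x).1 hx
  have h2 : t * x * t⁻¹ ≠ 1 := fun h => hx1 (conj_eq_one_iff.1 h)
  rcases D.eq_of_V hx hx1 (D.mem i) (D.ne i) hxv h1 h2 with h | h | h
  · exact absurd h hne
  · exfalso
    apply hxv
    have h3 := D.cen i (T.inv_mem ht)
    rw [← h, inv_inv] at h3
    have e : t⁻¹ * (t * x * t⁻¹) * t = x := by group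
    rw [e] at h3
    rw [h3, h]
  · exact h

/-- the subgroups of `V i` containing `v i` -/
theorem le_or {i : Fin 2} {X : Subgroup G} (hv : v i ∈ X) : V i ≤ X ∨ ∀ x ∈ V i ⊓ X, x = 1 ∨ x = v i := by
  by_cases hc : ∀ x ∈ V i ⊓ X, x = 1 ∨ x = v i
  · exact Or.inr hc
  left
  push Not at hc
  obtain ⟨x, ⟨hxU, hxX⟩, hx1, hxv⟩ := hc
  intro y hy
  by_cases hy1 : y = 1
  · rw [hy1]; exact one_mem X
  rcases D.eq_of_V (D.mem i) (D.ne i) hxU hx1 (Ne.symm hxv) hy hy1 with h | h | h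
  · rw [h]; exact hv
  · rw [h]; exact hxX
  · rw [h]; exact mul_mem hv hxX

/-- a subgroup `R ≥ T` normalising `V i` and moving `v i` is transitive on `V i#` -/
theorem trans_of {i : Fin 2} {R : Subgroup G} (hT : T ≤ R) (hN : R ≤ normalizer (V i : Set G))
    (hm : ¬ R ≤ CC v i) {x : G} (hx : x ∈ V i) (hx1 : x ≠ 1) : ∃ r ∈ R, r * v i * r⁻¹ = x := by
  by_cases hxv : x = v i
  · exact ⟨1, one_mem _, by rw [hxv]; group⟩
  obtain ⟨r, hr, hrv⟩ : ∃ r ∈ R, r * v i * r⁻¹ ≠ v i := by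
    by_contra hcon
    push Not at hcon
    apply hm
    intro r hr
    rw [mem_centralizer_singleton_iff]
    calc r * v i = r * v i * r⁻¹ * r := by group
      _ = v i * r := by rw [hcon r hr]
  have h1 : r * v i * r⁻¹ ∈ V i := (mem_normalizer_iff.1 (hN hr) _).1 (D.mem i)
  have h2 : r * v i * r⁻¹ ≠ 1 := fun h => D.ne i (conj_eq_one_iff.1 h)
  by_cases hrx : r * v i * r⁻¹ = x
  · exact ⟨r, hr, hrx⟩
  obtain ⟨t, ht, hty⟩ := D.exists_swap h1 h2 hrv
  refine ⟨t * r, mul_mem (hT ht) hr, ?_⟩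
  have e : t * r * v i * (t * r)⁻¹ = t * (r * v i * r⁻¹) * t⁻¹ := by group
  rw [e, hty]
  rcases D.eq_of_V h1 h2 (D.mem i) (D.ne i) hrv hx hx1 with h | h | h
  · exact absurd h.symm hrx
  · exact absurd h hxv
  · exact h.symm

/-- an element of `P i` centralising `V j` maps `v i` to `x` -/
theorem tr {i j : Fin 2} (hij : i ≠ j) {x : G} (hx : x ∈ V i) (hx1 : x ≠ 1) :
    ∃ l ∈ P i, l ∈ centralizer (V j : Set G) ∧ l * v i * l⁻¹ = x := by
  obtain ⟨p, hp, hpx⟩ := D.trans_of (D.T_le_P i) (D.PN i i) (D.mv i) hx hx1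
  have hpj : p * v j * p⁻¹ = v j := by
    rw [mem_centralizer_singleton_iff.1 (D.PC i j hij hp)]; group
  obtain ⟨y, hy, hy1, hyv⟩ := D.exists_ne_v j
  have key : ∀ q ∈ P i, q * v j * q⁻¹ = v j → q * y * q⁻¹ = y → q ∈ centralizer (V j : Set G) := by
    intro q _ h1 h2
    rw [mem_centralizer_iff]
    intro w hw
    have h1' : q * v j = v j * q := by
      calc q * v j = q * v j * q⁻¹ * q := by group
        _ = v j * q := by rw [h1]
    have h2' : q * y = y * q := by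
      calc q * y = q * y * q⁻¹ * q := by group
        _ = y * q := by rw [h2]
    by_cases hw1 : w = 1
    · rw [hw1]; group
    rcases D.eq_of_V (D.mem j) (D.ne j) hy hy1 (Ne.symm hyv) hw hw1 with h | h | h
    · rw [h]; exact h1'.symm
    · rw [h]; exact h2'.symm
    · rw [h]
      calc v j * y * q = v j * (q * y) := by rw [h2']; group
        _ = q * (v j * y) := by rw [← mul_assoc, ← h1']; group
  have h1 : p * y * p⁻¹ ∈ V j := (mem_normalizer_iff.1 (D.PN i j hp) y).1 hy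
  have h2 : p * y * p⁻¹ ≠ 1 := fun h => hy1 (conj_eq_one_iff.1 h)
  rcases D.eq_of_V (D.mem j) (D.ne j) hy hy1 (Ne.symm hyv) h1 h2 with h | h | h
  · exfalso
    apply hyv
    rw [← hpj] at h
    have h3 := congrArg (fun t => p⁻¹ * t * p) h
    simpa [mul_assoc] using h3
  · exact ⟨p, hp, key p hp hpj h, hpx⟩
  · obtain ⟨t, ht, hty⟩ := D.exists_swap hy hy1 hyv
    have htj := D.cen j ht
    refine ⟨p * t, mul_mem hp (D.T_le_P i ht), key _ (mul_mem hp (D.T_le_P i ht)) ?_ ?_, ?_⟩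
    · have e : p * t * v j * (p * t)⁻¹ = p * (t * v j * t⁻¹) * p⁻¹ := by group
      rw [e, htj, hpj]
    · have e : p * t * y * (p * t)⁻¹ = p * (t * y * t⁻¹) * p⁻¹ := by group
      rw [e, hty]
      have e2 : p * (y * v j) * p⁻¹ = (p * y * p⁻¹) * (p * v j * p⁻¹) := by group
      rw [e2, h, hpj, D.V_comm (D.mem j) hy, mul_assoc, D.v_sq, mul_one]
    · have e : p * t * v i * (p * t)⁻¹ = p * (t * v i * t⁻¹) * p⁻¹ := by group
      rw [e, D.cen i ht, hpx]

/-- `T`-minimal `R ≤ C_j` moving `v i`: `P i ≤ R D` -/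
theorem P_le_of {i j : Fin 2} (hij : i ≠ j) {R : Subgroup G} (hT : T ≤ R) (hRC : R ≤ CC v j)
    (hN : R ≤ normalizer (V i : Set G)) (hm : ¬ R ≤ CC v i) {Q : Subgroup G} (hQ : Q ≤ CC v j)
    (hQN : Q ≤ normalizer (V i : Set G)) {q : G} (hq : q ∈ Q) :
    ∃ r ∈ R, ∃ d ∈ centralizer (zc T : Set G), q = r * d := by
  have h1 : q * v i * q⁻¹ ∈ V i := (mem_normalizer_iff.1 (hQN hq) _).1 (D.mem i)
  have h2 : q * v i * q⁻¹ ≠ 1 := fun h => D.ne i (conj_eq_one_iff.1 h)
  obtain ⟨r, hr, hrq⟩ := D.trans_of hT hN hm h1 h2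
  refine ⟨r, hr, r⁻¹ * q, (D.mem_D_iff hij).2 ⟨?_, mul_mem (inv_mem (hRC hr)) (hQ hq)⟩, by group⟩
  rw [mem_centralizer_singleton_iff]
  have h3 : q * v i = r * v i * r⁻¹ * q := by rw [hrq]; group
  calc r⁻¹ * q * v i = r⁻¹ * (q * v i) := by group
    _ = v i * (r⁻¹ * q) := by rw [h3]; group

/-- `N_{C_j}(T) ≤ D` -/
theorem norm_T_le (j : Fin 2) : CC v j ⊓ normalizer (T : Set G) ≤ centralizer (zc T : Set G) := by
  rintro n ⟨hn, hnT⟩
  obtain ⟨i, hij⟩ : ∃ i : Fin 2, i ≠ j := ⟨j + 1, (ne_add_one j).symm⟩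
  refine (D.mem_D_iff hij).2 ⟨?_, hn⟩
  -- `n` permutes `v i`, `v i v j`; `n²` fixes `v i`
  have hj : n * v j * n⁻¹ = v j := by
    rw [mem_centralizer_singleton_iff.1 hn]; group
  have hnz : n ∈ normalizer (zc T : Set G) := normalizer_le_normalizer_zc _ hnT
  have hcases : ∀ x ∈ zc T, x ≠ 1 → x ≠ v j → x = v i ∨ x = v i * v j := by
    intro x hx h1 h2
    rcases (D.zT x).1 hx with h | h | h | h
    · exact absurd h h1
    · rcases Fin.exists_fin_two.1 ⟨j, rfl⟩ with h' | h'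
      · exact absurd (h.trans (by rw [h'])) h2
      · have hi : i = 0 := by
          rw [h'] at hij
          revert hij; revert i; decide
        left; rw [h, hi]
    · rcases Fin.exists_fin_two.1 ⟨j, rfl⟩ with h' | h'
      · have hi : i = 1 := by
          rw [h'] at hij
          revert hij; revert i; decide
        left; rw [h, hi]
      · exact absurd (h.trans (by rw [h'])) h2
    · right
      rcases Fin.exists_fin_two.1 ⟨j, rfl⟩ with h' | h'
      · have hi : i = 1 := by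
          rw [h'] at hij
          revert hij; revert i; decide
        rw [h, hi, h']
        exact (D.comm_v 1 (D.v_mem_T 0))
      · have hi : i = 0 := by
          rw [h'] at hij
          revert hij; revert i; decide
        rw [h, hi, h']
  have h1 : n * v i * n⁻¹ ∈ zc T := (mem_normalizer_iff.1 hnz _).1 (D.v_mem_zc i)
  by_contra hcon
  have hni : n * v i * n⁻¹ ≠ v i := by
    intro h
    apply hcon
    rw [mem_centralizer_singleton_iff]
    calc n * v i = n * v i * n⁻¹ * n := by group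
      _ = v i * n := by rw [h]
  have hvij : v i ≠ v j := by
    intro h
    exact hni (by rw [h]; exact hj)
  have h2 : n * v i * n⁻¹ = v i * v j := by
    refine (hcases _ h1 (fun h => D.ne i (conj_eq_one_iff.1 h)) fun h => hvij ?_).resolve_left hni
    rw [← hj] at h
    have h3 := congrArg (fun t => n⁻¹ * t * n) h
    simpa [mul_assoc] using h3
  -- a 2-element of `⟨n⟩` does the same
  have hodd : ∃ k : ℕ, Odd k ∧ IsPGroup 2 (zpowers (n ^ k)) := by
    obtain ⟨a, k, hk, hak⟩ := Nat.exists_eq_two_pow_mul_odd (orderOf_pos n).ne'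
    refine ⟨k, hk, ?_⟩
    refine IsPGroup.of_card (n := a) ?_
    rw [Nat.card_zpowers, orderOf_pow_of_dvd hk.pos.ne' ⟨2 ^ a, by rw [hak, mul_comm]⟩, hak]
    exact Nat.mul_div_cancel _ hk.pos
  obtain ⟨k, hk, hk2⟩ := hodd
  have hsq : n * (n * v i * n⁻¹) * n⁻¹ = v i := by
    rw [h2]
    have e : n * (v i * v j) * n⁻¹ = (n * v i * n⁻¹) * (n * v j * n⁻¹) := by group
    rw [e, hj, h2, mul_assoc, D.v_sq, mul_one]
  have hpow : ∀ m : ℕ, n ^ (2 * m) * v i * (n ^ (2 * m))⁻¹ = v i := by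
    intro m
    induction m with
    | zero => simp
    | succ m ih =>
      have e : n ^ (2 * (m + 1)) * v i * (n ^ (2 * (m + 1)))⁻¹ =
          n * (n * (n ^ (2 * m) * v i * (n ^ (2 * m))⁻¹) * n⁻¹) * n⁻¹ := by
        have : n ^ (2 * (m + 1)) = n * n * n ^ (2 * m) := by
          rw [mul_add, mul_one, add_comm, pow_add, pow_two]
        rw [this]; group
      rw [e, ih, hsq]
  obtain ⟨m, hm⟩ := hk
  have h4 : n ^ k * v i * (n ^ k)⁻¹ = v i * v j := by
    have e : n ^ k * v i * (n ^ k)⁻¹ = n * (n ^ (2 * m) * v i * (n ^ (2 * m))⁻¹) * n⁻¹ := by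
      rw [hm, add_comm, pow_add, pow_one]; group
    rw [e, hpow, h2]
  have h5 : zpowers (n ^ k) ≤ T := by
    have hle : zpowers (n ^ k) ≤ CC v j ⊓ normalizer (T : Set G) := by
      rw [zpowers_le]
      exact pow_mem (mem_inf.2 ⟨hn, hnT⟩) k
    have h6 : IsPGroup 2 (T ⊔ zpowers (n ^ k) : Subgroup G) :=
      IsPGroup.to_sup_of_normal_left' D.T_isPGroup hk2 (hle.trans inf_le_right)
    rw [← (D.syl j).2.2 _ (sup_le (D.T_le_C j) (hle.trans inf_le_left)) h6 le_sup_left]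
    exact le_sup_right
  have h6 := D.cen i (h5 (mem_zpowers _))
  rw [h4] at h6
  exact D.ne j (by simpa using h6)

/-- **`C_j = ⟨P i, D⟩`** -/
theorem gen {i j : Fin 2} (hij : i ≠ j) : CC v j ≤ P i ⊔ centralizer (zc T : Set G) := by
  refine Cfsg.Agent.MinSimple.MinParabolic.le_of_forall (D.T_le_C j) ?_ ?_
  · exact (D.norm_T_le j).trans le_sup_right
  · intro R hR hRC
    by_cases hm : R ≤ CC v i
    · intro r hr
      exact mem_sup_right ((D.mem_D_iff hij).2 ⟨hm hr, hRC hr⟩)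
    · intro r hr
      obtain ⟨p, hp, d, hd, e⟩ := D.P_le_of hij (D.T_le_P i) (D.PC i j hij) (D.PN i i) (D.mv i) hRC
        (D.uni i j hij R hR hRC hm) hr
      rw [e]
      exact mul_mem (mem_sup_left hp) (mem_sup_right hd)

/-! ### `V j ≤ Z(Q_i)`, `V i ≤ Q_i`, the groups `W_i N_i` -/

theorem conj_QQ {i : Fin 2} {c : G} (hc : c ∈ CC v i) : MulAut.conj c • QQ v i = QQ v i :=
  conj_eq_of_mem (le_normalizer_o2 _ hc)

theorem conj_CC {i : Fin 2} {c : G} (hc : c ∈ CC v i) : MulAut.conj c • CC v i = CC v i :=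
  NoFF.Basic.conj_self hc

/-- HALF LEMMA: `V j ≤ Z(O₂(C_i))`. -/
theorem half {i j : Fin 2} (hij : i ≠ j) : V j ≤ QQ v i ∧ QQ v i ≤ centralizer (V j : Set G) := by
  have h1 : ∀ x ∈ V j, x ∈ QQ v i ∧ ∀ q ∈ QQ v i, q * x = x * q := by
    intro x hx
    by_cases hx1 : x = 1
    · rw [hx1]; exact ⟨one_mem _, fun q _ => by group⟩
    obtain ⟨l, hl, -, hlx⟩ := D.tr hij.symm hx hx1
    have hlC : l ∈ CC v i := D.PC j i hij.symm hl
    have hlQ := D.conj_QQ hlC
    constructor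
    · rw [← hlQ, mem_conj, ← hlx]
      have e : l⁻¹ * (l * v j * l⁻¹) * l = v j := by group
      rw [e]
      exact D.v_mem_Q' i j
    · intro q hq
      rw [← hlQ, mem_conj] at hq
      have h2 := D.comm_v j (D.Q_le_T i hq)
      rw [← hlx]
      calc q * (l * v j * l⁻¹) = l * ((l⁻¹ * q * l) * v j) * l⁻¹ := by group
        _ = l * (v j * (l⁻¹ * q * l)) * l⁻¹ := by rw [h2]
        _ = l * v j * l⁻¹ * q := by group
  exact ⟨fun x hx => (h1 x hx).1, fun q hq => mem_centralizer_iff.2 fun x hx => ((h1 x hx).2 q hq).symm⟩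

/-- `V i ≤ O₂(C_i)` -/
theorem U_le_Q (i : Fin 2) : V i ≤ QQ v i := by
  rcases D.le_or (D.v_mem_Q i) with h | h
  · exact h
  have hUC : V i ≤ centralizer ({v i} : Set G) := (D.V_le_T i).trans (D.T_le_C i)
  refine le_o2_of_commutator (Z₀ := zpowers (v i)) (D.isChar2 i) ?_ ?_ hUC ?_
  · intro c hc z hz
    obtain ⟨n, rfl⟩ := mem_zpowers_iff.1 hz
    have h1 : Commute c (v i) := mem_centralizer_singleton_iff.1 hc
    exact (h1.zpow_right n).eq
  · intro z hz
    obtain ⟨n, rfl⟩ := mem_zpowers_iff.1 hz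
    rw [← zpow_add, ← two_mul, zpow_mul]
    have : v i ^ (2 : ℤ) = 1 := by
      have := D.v_sq' i
      exact_mod_cast this
    rw [this, one_zpow]
  · intro a ha q hq
    have h1 : a * q * a⁻¹ ∈ o2 (centralizer ({v i} : Set G)) :=
      (mem_normalizer_iff.1 (le_normalizer_o2 _ (hUC ha)) q).1 hq
    have h2 : q * a⁻¹ * q⁻¹ ∈ V i :=
      (mem_normalizer_iff.1 (D.T_le_N i (D.Q_le_T i hq)) _).1 (inv_mem ha)
    have h3 : a * q * a⁻¹ * q⁻¹ ∈ V i ⊓ o2 (centralizer ({v i} : Set G)) := by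
      refine ⟨?_, (o2 (centralizer ({v i} : Set G))).mul_mem h1 (inv_mem hq)⟩
      have e : a * q * a⁻¹ * q⁻¹ = a * (q * a⁻¹ * q⁻¹) := by group
      rw [e]
      exact mul_mem ha h2
    rcases h _ h3 with h4 | h4
    · rw [h4]; exact one_mem _
    · rw [h4]; exact mem_zpowers _

theorem Q_le_conj_T {i : Fin 2} {c : G} (hc : c ∈ CC v i) : QQ v i ≤ MulAut.conj c • T := by
  rw [← D.conj_QQ hc]
  exact conj_le_iff.2 (D.Q_le_T i)

theorem W_le_Q (i : Fin 2) : WU V v i ≤ QQ v i :=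
  V_le fun _ hc => by
    rw [← D.conj_QQ hc]
    exact conj_le_iff.2 (D.U_le_Q i)

theorem N_le_Q (i : Fin 2) : NU V v i ≤ QQ v i :=
  V_le fun _ hc => by
    rw [← D.conj_QQ hc]
    exact conj_le_iff.2 (D.half (ne_add_one i)).1

theorem N_le_cent_Q (i : Fin 2) : NU V v i ≤ centralizer (QQ v i : Set G) :=
  V_le fun c hc => by
    have h1 := conj_le_centralizer (g := c) (comm_symm (D.half (ne_add_one i)).2)
    rwa [D.conj_QQ hc] at h1

/-- `N_i ≤ Z(Q_i)` -/
theorem Q_le_cent_N (i : Fin 2) : QQ v i ≤ centralizer (NU V v i : Set G) := comm_symm (D.N_le_cent_Q i)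

theorem N_comm (i : Fin 2) : NU V v i ≤ centralizer (NU V v i : Set G) := (D.N_le_Q i).trans (D.Q_le_cent_N i)

/-- every conjugate of `Q_i`'s elements normalises the lines on `v i` -/
theorem Q_le_N_line (i : Fin 2) {c : G} (hc : c ∈ CC v i) (j : Fin 2) :
    QQ v i ≤ normalizer ((MulAut.conj c • V j : Subgroup G) : Set G) :=
  (D.Q_le_conj_T hc).trans (conj_le_normalizer (D.T_le_N j))

theorem W_comm (i : Fin 2) : WU V v i ≤ centralizer (WU V v i : Set G) := by
  have key : ∀ c ∈ CC v i, ∀ d ∈ CC v i, MulAut.conj c • V i ≤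
      normalizer ((MulAut.conj d • V i : Subgroup G) : Set G) := by
    intro c hc d hd
    refine le_trans ?_ (D.Q_le_N_line i hd i)
    exact (conj_le_iff.2 (D.U_le_Q i)).trans (D.conj_QQ hc).le
  exact V_le fun c hc => comm_symm (V_le fun d hd => comm_symm (D.noff i i c d (key c hc d hd) (key d hd c hc)))

/-- `W_i N_i` is abelian. -/
theorem WN_comm (i : Fin 2) : WU V v i ⊔ NU V v i ≤ centralizer ((WU V v i ⊔ NU V v i : Subgroup G) : Set G) := by
  have h1 : NU V v i ≤ centralizer (WU V v i : Set G) := comm_symm ((D.W_le_Q i).trans (D.Q_le_cent_N i))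
  refine sup_le (comm_symm (sup_le (D.W_comm i) h1)) (comm_symm (sup_le (comm_symm h1) (D.N_comm i)))

/-- `W_i N_i` is elementary abelian. -/
theorem WN_sq (i : Fin 2) : ∀ x ∈ WU V v i ⊔ NU V v i, x ^ 2 = 1 := by
  refine NoFF.Lines.Geo.sq_of_comm (D.WN_comm i) (ι := Fin 2 × CC v i)
    (B := fun j => MulAut.conj (j.2 : G) • V j.1) (fun j => ?_) (sup_le ?_ ?_)
    fun j => NoFF.Lines.Geo.conj_sq (D.sqV j.1) _
  · rcases eq_or_ne i j.1 with h | h
    · rw [← h]
      exact le_sup_of_le_left (Z_le_V j.2.2)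
    · rw [eq_add_one h]
      exact le_sup_of_le_right (Z_le_V j.2.2)
  · exact V_le fun c hc => le_iSup (fun j : Fin 2 × CC v i => MulAut.conj (j.2 : G) • V j.1) (i, ⟨c, hc⟩)
  · exact V_le fun c hc => le_iSup (fun j : Fin 2 × CC v i => MulAut.conj (j.2 : G) • V j.1) (i + 1, ⟨c, hc⟩)

theorem N_sq (i : Fin 2) : ∀ x ∈ NU V v i, x ^ 2 = 1 := fun x hx => D.WN_sq i x (mem_sup_right hx)

theorem W_sq (i : Fin 2) : ∀ x ∈ WU V v i, x ^ 2 = 1 := fun x hx => D.WN_sq i x (mem_sup_left hx)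

theorem C_le_N_W (i : Fin 2) : CC v i ≤ normalizer (WU V v i : Set G) := le_normalizer_V _ _

theorem C_le_N_N (i : Fin 2) : CC v i ≤ normalizer (NU V v i : Set G) := le_normalizer_V _ _

theorem C_le_N_E (i : Fin 2) : CC v i ≤ normalizer (EU T v i : Set G) := le_normalizer_V _ _

theorem V_le_N (i : Fin 2) : V (i + 1) ≤ NU V v i := le_V _ _

theorem V_le_W (i : Fin 2) : V i ≤ WU V v i := le_V _ _

theorem mem_N (i : Fin 2) : v (i + 1) ∈ NU V v i := D.V_le_N i (D.mem _)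

theorem N_le_C (i j : Fin 2) : NU V v i ≤ CC v j := (D.N_le_Q i).trans ((D.Q_le_T i).trans (D.T_le_C j))

theorem W_le_C (i j : Fin 2) : WU V v i ≤ CC v j := (D.W_le_Q i).trans ((D.Q_le_T i).trans (D.T_le_C j))

theorem N_le_T (i : Fin 2) : NU V v i ≤ T := (D.N_le_Q i).trans (D.Q_le_T i)

theorem W_le_T (i : Fin 2) : WU V v i ≤ T := (D.W_le_Q i).trans (D.Q_le_T i)

/-- `[V i, Q_i] ≤ ⟨v i⟩` -/
theorem comm_VQ (i : Fin 2) {x q : G} (hx : x ∈ V i) (hq : q ∈ T) : x * q * x⁻¹ * q⁻¹ ∈ zpowers (v i) := by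
  by_cases hx1 : x = 1
  · rw [hx1]; simp
  have h1 : q * x⁻¹ * q⁻¹ ∈ V i := (mem_normalizer_iff.1 (D.T_le_N i hq) _).1 (inv_mem hx)
  have h2 : x * q * x⁻¹ * q⁻¹ ∈ V i := by
    have e : x * q * x⁻¹ * q⁻¹ = x * (q * x⁻¹ * q⁻¹) := by group
    rw [e]
    exact mul_mem hx h1
  by_cases hxv : x = v i
  · rw [hxv]
    have e : v i * q * (v i)⁻¹ * q⁻¹ = 1 := by rw [← D.comm_v i hq]; group
    rw [e]
    exact one_mem _
  have hxi : x⁻¹ = x := inv_eq_of_mul_eq_one_left (by rw [← pow_two]; exact D.sqV i x hx)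
  rw [hxi] at h1 h2 ⊢
  by_cases h3 : q * x * q⁻¹ = x
  · have e : x * q * x * q⁻¹ = x * (q * x * q⁻¹) := by group
    rw [e, h3, ← pow_two, D.sqV i x hx]
    exact one_mem _
  · have h4 : q * x * q⁻¹ ≠ 1 := fun h => hx1 (conj_eq_one_iff.1 h)
    have h5 : q * x * q⁻¹ ≠ v i := by
      intro h
      apply hxv
      have h6 := D.cen i (T.inv_mem hq)
      rw [← h, inv_inv] at h6
      have e : q⁻¹ * (q * x * q⁻¹) * q = x := by group
      rw [e] at h6
      rw [h6, h]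
    rcases D.eq_of_V hx hx1 (D.mem i) (D.ne i) hxv h1 h4 with h | h | h
    · exact absurd h h3
    · exact absurd h h5
    · have e : x * q * x * q⁻¹ = x * (q * x * q⁻¹) := by group
      rw [e, h, ← mul_assoc, ← pow_two, D.sqV i x hx, one_mul]
      exact mem_zpowers _

/-! ### (COMP), LEMMA 0 -/

/-- **(COMP)** (STEP F): `C_i ≠ D N(V i)`. -/
theorem comp (i : Fin 2) (h : ∀ c ∈ CC v i, ∃ d ∈ centralizer (zc T : Set G), ∃ n ∈ normalizer (V i : Set G),
    c = d * n) : False := by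
  have hij := ne_add_one i
  have hji : i + 1 ≠ i := hij.symm
  set C₂ : Subgroup G := CC v (i + 1) with hC2
  set N : Subgroup G := NoFF.Basic.V (zpowers (v i)) C₂ with hN
  have hDC : centralizer (zc T : Set G) ≤ C₂ := D.cent_zc_le _
  -- `C_i m ⊆ C₂ C_i` for `m ∈ P i`
  have hM : ∀ m ∈ P i, ∀ c ∈ CC v i, ∃ x ∈ C₂, ∃ c' ∈ CC v i, c * m = x * c' := by
    intro m hm c hc
    obtain ⟨d, hd, n, hn, rfl⟩ := h c hc
    have hw : n * m * v i * (n * m)⁻¹ ∈ V i := by
      have h1 : m * v i * m⁻¹ ∈ V i := (mem_normalizer_iff.1 (D.PN i i hm) _).1 (D.mem i)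
      have h2 := (mem_normalizer_iff.1 hn _).1 h1
      have e : n * m * v i * (n * m)⁻¹ = n * (m * v i * m⁻¹) * n⁻¹ := by group
      rwa [e]
    obtain ⟨l, hl, -, hlw⟩ := D.tr hij hw fun h => D.ne i (conj_eq_one_iff.1 h)
    refine ⟨d * l, mul_mem (hDC hd) (D.PC i (i + 1) hij hl), l⁻¹ * n * m, ?_, by group⟩
    rw [mem_centralizer_singleton_iff]
    calc l⁻¹ * n * m * v i = l⁻¹ * (n * m * v i * (n * m)⁻¹) * (n * m) := by group
      _ = l⁻¹ * (l * v i * l⁻¹) * (n * m) := by rw [hlw]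
      _ = v i * (l⁻¹ * n * m) := by group
  have hA : ∀ y ∈ P i ⊔ centralizer (zc T : Set G), ∀ c ∈ CC v i, ∃ x ∈ C₂, ∃ c' ∈ CC v i, c * y = x * c' := by
    intro y hy
    rw [← closure_eq (P i), ← closure_eq (centralizer (zc T : Set G)), ← Subgroup.closure_union] at hy
    induction hy using closure_induction'' with
    | mem x hx =>
      intro c hc
      rcases hx with hx | hx
      · exact hM x hx c hc
      · exact ⟨1, one_mem _, c * x, mul_mem hc (D.cent_zc_le i hx), by group⟩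
    | inv_mem x hx =>
      intro c hc
      rcases hx with hx | hx
      · exact hM x⁻¹ (inv_mem hx) c hc
      · exact ⟨1, one_mem _, c * x⁻¹, mul_mem hc (D.cent_zc_le i (inv_mem hx)), by group⟩
    | one => exact fun c hc => ⟨1, one_mem _, c, hc, by group⟩
    | mul x y _ _ h1 h2 =>
      intro c hc
      obtain ⟨x₁, hx₁, c₁, hc₁, e₁⟩ := h1 c hc
      obtain ⟨x₂, hx₂, c₂, hc₂, e₂⟩ := h2 c₁ hc₁
      refine ⟨x₁ * x₂, mul_mem hx₁ hx₂, c₂, hc₂, ?_⟩
      calc c * (x * y) = c * x * y := by group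
        _ = x₁ * (c₁ * y) := by rw [e₁]; group
        _ = x₁ * x₂ * c₂ := by rw [e₂]; group
  have hz : ∀ c ∈ CC v i, MulAut.conj c • zpowers (v i) = zpowers (v i) := by
    intro c hc
    apply conj_eq_of_mem
    apply centralizer_le_normalizer
    rw [mem_centralizer_iff]
    rintro _ ⟨n, rfl⟩
    have h1 : Commute c (v i) := mem_centralizer_singleton_iff.1 hc
    exact (h1.zpow_right n).eq.symm
  have key : ∀ c ∈ CC v i, MulAut.conj c • N ≤ N := by
    intro c hc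
    have h0 : N ≤ MulAut.conj c⁻¹ • N := by
      refine V_le fun x hx => ?_
      obtain ⟨x', hx', c', hc', e⟩ := hA x (D.gen hij hx) c hc
      have h1 : MulAut.conj c • (MulAut.conj x • zpowers (v i)) ≤ N := by
        rw [conj_conj, e, ← conj_conj, hz c' hc']
        exact Z_le_V hx'
      have h2 := conj_le_iff (g := c⁻¹) |>.2 h1
      rwa [conj_conj, inv_mul_cancel, map_one, one_smul] at h2
    have h2 := conj_le_iff (g := c) |>.2 h0
    rwa [conj_conj, mul_inv_cancel, map_one, one_smul] at h2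
  have hCN : CC v i ≤ normalizer (N : Set G) := by
    intro c hc
    rw [mem_normalizer_iff]
    intro x
    constructor
    · intro hx
      apply key c hc
      rw [mem_conj]
      have e : c⁻¹ * (c * x * c⁻¹) * c = x := by group
      rwa [e]
    · intro hx
      have h1 := key c⁻¹ (inv_mem hc)
      apply h1
      rw [mem_conj, inv_inv]
      exact hx
  have hC2N : C₂ ≤ normalizer (N : Set G) := le_normalizer_V _ _
  have h3 : N ≤ T := by
    refine le_trans (V_le fun c hc => ?_) (D.Q_le_T (i + 1))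
    rw [← D.conj_QQ hc]
    refine conj_le_iff.2 ?_
    rw [zpowers_le]
    exact D.v_mem_Q' _ _
  have h4 : N = ⊥ := by
    refine D.nonloc _ (D.T_isPGroup.to_le h3) ?_ ?_
    · rcases Fin.exists_fin_two.1 ⟨i, rfl⟩ with h | h
      · rw [h] at hCN; exact hCN
      · rw [hC2, h] at hC2N; exact hC2N
    · rcases Fin.exists_fin_two.1 ⟨i, rfl⟩ with h | h
      · rw [hC2, h] at hC2N; exact hC2N
      · rw [h] at hCN; exact hCN
  have h5 : v i ∈ N := le_V _ _ (mem_zpowers _)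
  rw [h4, mem_bot] at h5
  exact D.ne i h5

/-- a normal subgroup of `C_i` all of whose elements fixes `v j` centralises `N_i` -/
theorem cent_N_of_le {i : Fin 2} {X : Subgroup G} (hX : X ≤ CC v (i + 1))
    (hn : CC v i ≤ normalizer (X : Set G)) : X ≤ centralizer (NU V v i : Set G) := by
  refine comm_symm (V_le fun c hc => ?_)
  -- `V (i+1) = ⟨v (i+1) ^ P (i+1)⟩`
  intro w hw
  rw [mem_conj] at hw
  rw [mem_centralizer_iff]
  intro x hx
  by_cases hw1 : w = 1
  · rw [hw1]; group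
  have hw1' : c⁻¹ * w * c ≠ 1 := by
    intro h
    apply hw1
    have h3 := congrArg (fun t => c * t * c⁻¹) h
    simpa [mul_assoc] using h3
  obtain ⟨l, hl, -, hlw⟩ := D.tr (ne_add_one i).symm hw hw1'
  have hlC : l ∈ CC v i := D.PC (i + 1) i (ne_add_one i).symm hl
  have h1 : (c * l)⁻¹ * x * (c * l) ∈ X := by
    have := (mem_normalizer_iff.1 (hn (inv_mem (mul_mem hc hlC))) x).1 hx
    rwa [inv_inv] at this
  have h2 : (c * l)⁻¹ * x * (c * l) * v (i + 1) = v (i + 1) * ((c * l)⁻¹ * x * (c * l)) :=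
    mem_centralizer_singleton_iff.1 (hX h1)
  have h3 : w = (c * l) * v (i + 1) * (c * l)⁻¹ := by
    have e : (c * l) * v (i + 1) * (c * l)⁻¹ = c * (l * v (i + 1) * l⁻¹) * c⁻¹ := by group
    rw [e, hlw]; group
  rw [h3]
  calc x * (c * l * v (i + 1) * (c * l)⁻¹) = (c * l) * (((c * l)⁻¹ * x * (c * l)) * v (i + 1)) * (c * l)⁻¹ := by group
    _ = (c * l) * (v (i + 1) * ((c * l)⁻¹ * x * (c * l))) * (c * l)⁻¹ := by rw [h2]
    _ = c * l * v (i + 1) * (c * l)⁻¹ * x := by group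

/-- **LEMMA 0** (helper997 #19092): `X` normal in `C_i` which does not centralise `N_i`, and whose elements outside
`D` are covered by `T`: `C_i = X D` as soon as `X` moves `v (i+1)`. -/
theorem lem0 {i : Fin 2} {X : Subgroup G} (hXC : X ≤ CC v i) (hn : CC v i ≤ normalizer (X : Set G))
    (hm : ¬ X ≤ centralizer (NU V v i : Set G)) : ∀ c ∈ CC v i, ∃ x ∈ X, ∃ d ∈ centralizer (zc T : Set G), c = x * d := by
  have hji := (ne_add_one i).symm
  have hXm : ¬ X ≤ CC v (i + 1) := fun h => hm (D.cent_N_of_le h hn)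
  -- `X T`
  have hTn : T ≤ normalizer (X : Set G) := (D.T_le_C i).trans hn
  -- a minimal parabolic `R ≤ X T` moving `v (i+1)`
  obtain ⟨R, hR, hRX, hRm⟩ : ∃ R : Subgroup G, IsMinPar T R ∧ R ≤ X ⊔ T ∧ ¬ R ≤ CC v (i + 1) := by
    by_contra hcon
    push Not at hcon
    apply hXm
    refine le_trans le_sup_left (Cfsg.Agent.MinSimple.MinParabolic.le_of_forall (S := T) (X := X ⊔ T) le_sup_right
      ?_ fun R hR hRX => hcon R hR hRX)
    refine (inf_le_inf_right _ (sup_le hXC (D.T_le_C i))).trans ((D.norm_T_le i).trans (D.cent_zc_le _))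
  have hRC : R ≤ CC v i := hRX.trans (sup_le hXC (D.T_le_C i))
  have hRN := D.uni (i + 1) i hji R hR hRC hRm
  -- the elements of `X T`
  have hXT : ∀ y ∈ X ⊔ T, ∃ x ∈ X, ∃ t ∈ T, y = x * t := by
    intro y hy
    exact Cfsg.Agent.Omega.OM.KTwo.exists_mul_of_mem_sup hTn hy
  -- `P (i+1) ≤ X D`
  let K : Subgroup G :=
    { carrier := {c | ∃ x ∈ X, ∃ d ∈ centralizer (zc T : Set G), c = x * d}
      one_mem' := ⟨1, one_mem _, 1, one_mem _, by simp⟩
      mul_mem' := by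
        rintro _ _ ⟨x, hx, d, hd, rfl⟩ ⟨x', hx', d', hd', rfl⟩
        refine ⟨x * (d * x' * d⁻¹), mul_mem hx ?_, d * d', mul_mem hd hd', by group⟩
        exact (mem_normalizer_iff.1 (hn (D.cent_zc_le i hd)) x').1 hx'
      inv_mem' := by
        rintro _ ⟨x, hx, d, hd, rfl⟩
        refine ⟨d⁻¹ * x⁻¹ * d, ?_, d⁻¹, inv_mem hd, by group⟩
        have := (mem_normalizer_iff.1 (hn (D.cent_zc_le i (inv_mem hd))) x⁻¹).1 (inv_mem hx)
        rwa [inv_inv] at this }
  have hDK : centralizer (zc T : Set G) ≤ K := fun d hd => ⟨1, one_mem _, d, hd, by simp⟩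
  have hXK : X ≤ K := fun x hx => ⟨x, hx, 1, one_mem _, by simp⟩
  have hRK : R ≤ K := hRX.trans (sup_le hXK (D.T_le_D.trans hDK))
  have hPK : P (i + 1) ≤ K := by
    intro p hp
    obtain ⟨r, hr, d, hd, e⟩ := D.P_le_of hji hR.le hRC hRN hRm (D.PC (i + 1) i hji) (D.PN (i + 1) (i + 1)) hp
    rw [e]
    exact K.mul_mem (hRK hr) (hDK hd)
  have hCK : CC v i ≤ K := (D.gen hji).trans (sup_le hPK hDK)
  exact hCK

end Fr

end Cfsg.Agent.Omega.TC

end

end
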