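import Mathlib
import Cfsg.Agent.Mrg.Omega.OM.KTwo.Cut
import Cfsg.Agent.Mrg.Omega.TV.Full
import Cfsg.Agent.Mrg.Omega.BTwo.Basic
import Cfsg.Agent.Mrg.Omega.OM.KTwo.OneSymp
import Cfsg.Agent.Mrg.Omega.OM.KTwo.LemX

-- merged: Cfsg.Agent.Mrg.Omega.OM.Delta.Form
section

section


/-!
# Symplectic form on an elementary abelian subgroup, radical `⟨r⟩` (for the DELTA LEMMA, helper564 #15873)

* `Frm N r B` : `N` elementary abelian, `B` an alternating form on `N` with radical `⟨r⟩` (`r = 1` allowed);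
* `Frm.dual` : every additive function on `N` killing `r` is `B n`;
* `Frm.const` : a function `ψ` with `ψ (x y) = ψ x + ψ y` whenever `B x y = 1` satisfies
  `ψ (x y) = ψ x + ψ y + κ` for a constant `κ`, for all `x ≠ y` orthogonal (`dim N / ⟨r⟩ ≥ 4`).
-/

set_option autoImplicit false
set_option linter.unusedSectionVars false

namespace Cfsg.Agent.Omega.OM.Delta

open Subgroup

variable {G : Type*} [Group G]

theorem zt (a : ZMod 2) : a = 0 ∨ a = 1 := by
  revert a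
  decide

theorem zt_add_self (a : ZMod 2) : a + a = 0 := by
  revert a
  decide

structure Frm (N : Subgroup G) (r : G) (B : G → G → ZMod 2) : Prop where
  comm : ∀ x ∈ N, ∀ y ∈ N, x * y = y * x
  sq : ∀ x ∈ N, x * x = 1
  B_mul : ∀ x ∈ N, ∀ y ∈ N, ∀ w ∈ N, B (x * y) w = B x w + B y w
  symm : ∀ x ∈ N, ∀ y ∈ N, B x y = B y x
  B_self : ∀ x ∈ N, B x x = 0
  r_mem : r ∈ N
  B_r : ∀ x ∈ N, B x r = 0
  rad : ∀ x ∈ N, (∀ y ∈ N, B x y = 0) → x = 1 ∨ x = r

namespace Frm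

variable {N : Subgroup G} {r : G} {B : G → G → ZMod 2} (O : Frm N r B)

include O

theorem B_mul' {x y w : G} (hx : x ∈ N) (hy : y ∈ N) (hw : w ∈ N) : B w (x * y) = B w x + B w y := by
  rw [O.symm w hw _ (mul_mem hx hy), O.B_mul x hx y hy w hw, O.symm x hx w hw, O.symm y hy w hw]

theorem B_one {x : G} (hx : x ∈ N) : B 1 x = 0 := by
  have h := O.B_mul 1 (one_mem N) 1 (one_mem N) x hx
  rw [mul_one] at h
  exact (left_eq_add.1 h)

theorem B_one' {x : G} (hx : x ∈ N) : B x 1 = 0 := by rw [O.symm x hx 1 (one_mem N), O.B_one hx]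

theorem B_r' {x : G} (hx : x ∈ N) : B r x = 0 := by rw [O.symm r O.r_mem x hx, O.B_r x hx]

theorem inv_eq {x : G} (hx : x ∈ N) : x⁻¹ = x := inv_eq_of_mul_eq_one_left (O.sq x hx)

theorem rr : r * r = 1 := O.sq r O.r_mem

theorem B_mul_r {x y : G} (hx : x ∈ N) (hy : y ∈ N) : B (x * r) y = B x y := by
  rw [O.B_mul x hx r O.r_mem y hy, O.B_r' hy, add_zero]

theorem B_mul_r' {x y : G} (hx : x ∈ N) (hy : y ∈ N) : B x (y * r) = B x y := by
  rw [O.B_mul' hy O.r_mem hx, O.B_r x hx, add_zero]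

/-- `B(·, y)` vanishing on `u^⊥` is `0` or `B(·, u)` -/
theorem eq_of_perp {u y : G} (hu : u ∈ N) (hy : y ∈ N) (h : ∀ x ∈ N, B x u = 0 → B x y = 0) :
    y = 1 ∨ y = r ∨ y = u ∨ y = u * r := by
  by_cases h1 : ∀ x ∈ N, B x y = 0
  · rcases O.rad y hy fun x hx => (O.symm y hy x hx).trans (h1 x hx) with h2 | h2
    · exact Or.inl h2
    · exact Or.inr (Or.inl h2)
  push Not at h1
  obtain ⟨a, ha, ha1⟩ := h1
  have ha2 : B a y = 1 := (zt _).resolve_left ha1
  have ha3 : B a u = 1 := (zt _).resolve_left fun h3 => ha1 (h a ha h3)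
  have h2 : ∀ x ∈ N, B (u * y) x = 0 := by
    intro x hx
    rw [O.B_mul u hu y hy x hx, O.symm u hu x hx, O.symm y hy x hx]
    rcases zt (B x u) with h3 | h3
    · rw [h3, h x hx h3, add_zero]
    · have h4 : B (x * a) u = 0 := by
        rw [O.B_mul x hx a ha u hu, h3, ha3]
        decide
      have h5 := h _ (mul_mem hx ha) h4
      rw [O.B_mul x hx a ha y hy, ha2] at h5
      rw [h3]
      rcases zt (B x y) with h6 | h6
      · rw [h6] at h5
        exact absurd h5 (by decide)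
      · rw [h6]
        decide
  have e : y = u * (u * y) := by rw [← mul_assoc, O.sq u hu, one_mul]
  rcases O.rad _ (mul_mem hu hy) h2 with h3 | h3
  · right; right; left
    rw [e, h3, mul_one]
  · right; right; right
    rw [e, h3]

theorem exists_B {u : G} (hu : u ∈ N) (hu1 : u ≠ 1) (hur : u ≠ r) : ∃ y ∈ N, B y u = 1 := by
  by_contra hcon
  push Not at hcon
  rcases O.rad u hu fun y hy => (O.symm u hu y hy).trans ((zt _).resolve_right (hcon y hy)) with h | h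
  · exact hu1 h
  · exact hur h

/-- **duality** -/
theorem dual [Finite N] (ψ : G → ZMod 2) (hψ : ∀ x ∈ N, ∀ y ∈ N, ψ (x * y) = ψ x + ψ y) (hr : ψ r = 0) :
    ∃ n ∈ N, ∀ x ∈ N, ψ x = B n x := by
  classical
  have := Fintype.ofFinite N
  -- the signs
  let s : ZMod 2 → ℤ := fun a => if a = 0 then 1 else -1
  have s_add : ∀ a b : ZMod 2, s (a + b) = s a * s b := by decide
  have s_zero : ∀ a : ZMod 2, s a = 1 → a = 0 := by decide
  have s0 : s 0 = 1 := by decide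
  -- the sum of the signs of a nonzero additive function is `0`
  have hsum : ∀ f : G → ZMod 2, (∀ x ∈ N, ∀ y ∈ N, f (x * y) = f x + f y) →
      (∑ x : N, s (f x)) = 0 ∨ ∀ x ∈ N, f x = 0 := by
    intro f hf
    by_cases h : ∀ x ∈ N, f x = 0
    · exact Or.inr h
    left
    push Not at h
    obtain ⟨y, hy, hfy⟩ := h
    have h1 : (∑ x : N, s (f x)) = ∑ x : N, s (f (x * ⟨y, hy⟩ : N)) :=
      (Equiv.sum_comp (Equiv.mulRight (⟨y, hy⟩ : N)) fun x : N => s (f x)).symm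
    have h2 : ∀ x : N, s (f (x * ⟨y, hy⟩ : N)) = - s (f x) := by
      intro x
      rw [coe_mul, hf _ x.2 _ hy, s_add]
      have : s (f y) = -1 := by
        have := (zt (f y)).resolve_left hfy
        rw [this]
        decide
      show s (f x) * s (f y) = _
      rw [this]
      ring
    have h3 : (∑ x : N, s (f (x * ⟨y, hy⟩ : N))) = - ∑ x : N, s (f x) := by
      rw [← Finset.sum_neg_distrib]
      exact Finset.sum_congr rfl fun x _ => h2 x
    rw [h3] at h1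
    omega
  -- one of the sums is `≠ 0`
  by_contra hcon
  push Not at hcon
  have hz : ∀ n : N, (∑ x : N, s (ψ x + B n x)) = 0 := by
    intro n
    refine (hsum (fun x => ψ x + B n x) ?_).resolve_right ?_
    · intro x hx y hy
      show ψ (x * y) + B n (x * y) = _
      rw [hψ x hx y hy, O.B_mul' hx hy n.2]
      ring
    · intro h
      obtain ⟨x, hx, hne⟩ := hcon n n.2
      apply hne
      have h1 : ψ x + B n x = 0 := h x hx
      calc ψ x = ψ x + (B n x + B n x) := by rw [zt_add_self, add_zero]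
        _ = B n x := by rw [← add_assoc, h1, zero_add]
  have hz2 : (∑ n : N, ∑ x : N, s (ψ x + B n x)) = 0 := Finset.sum_eq_zero fun n _ => hz n
  rw [Finset.sum_comm] at hz2
  have hx : ∀ x : N, 0 ≤ ∑ n : N, s (ψ x + B n x) := by
    intro x
    rcases hsum (fun n => B n x) (fun a ha b hb => O.B_mul a ha b hb x x.2) with h | h
    · have h1 : (∑ n : N, s (ψ x + B n x)) = s (ψ x) * ∑ n : N, s (B n x) := by
        rw [Finset.mul_sum]
        exact Finset.sum_congr rfl fun n _ => s_add _ _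
      rw [h1]
      have h2 : (∑ n : N, s (B n x)) = 0 := h
      rw [h2, mul_zero]
    · have h1 : ψ x = 0 := by
        rcases O.rad x x.2 fun y hy => (O.symm _ x.2 y hy).trans (h y hy) with h2 | h2
        · have := hψ 1 (one_mem N) 1 (one_mem N)
          rw [mul_one] at this
          rw [h2]
          exact left_eq_add.1 this
        · rw [h2, hr]
      apply Finset.sum_nonneg
      intro n _
      have h2 : B n x = 0 := h n n.2
      rw [h1, h2, add_zero, s0]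
      norm_num
  have h1 : (0 : ℤ) < ∑ x : N, ∑ n : N, s (ψ x + B n x) := by
    apply Finset.sum_pos'
    · exact fun x _ => hx x
    · refine ⟨1, Finset.mem_univ _, ?_⟩
      have h2 : ∀ n : N, s (ψ ((1 : N) : G) + B n ((1 : N) : G)) = 1 := by
        intro n
        have h3 : ψ ((1 : N) : G) = 0 := by
          have := hψ 1 (one_mem N) 1 (one_mem N)
          rw [mul_one] at this
          exact left_eq_add.1 this
        have h4 : B n ((1 : N) : G) = 0 := O.B_one' n.2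
        rw [h3, h4, add_zero, s0]
      rw [Finset.sum_congr rfl fun n _ => h2 n]
      simp [Fintype.card_pos]
  omega

/-- a common non-orthogonal vector in `v^⊥` -/
theorem exists_link {v x y : G} (hv : v ∈ N) (hx : x ∈ N) (hy : y ∈ N)
    (hx1 : x ≠ 1) (hxr : x ≠ r) (hxv : x ≠ v) (hxvr : x ≠ v * r)
    (hy1 : y ≠ 1) (hyr : y ≠ r) (hyv : y ≠ v) (hyvr : y ≠ v * r) :
    ∃ w ∈ N, B w v = 0 ∧ B w x = 1 ∧ B w y = 1 := by
  obtain ⟨a, ha, ha0, ha1⟩ : ∃ a ∈ N, B a v = 0 ∧ B a x = 1 := by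
    by_contra hcon
    push Not at hcon
    rcases O.eq_of_perp hv hx fun w hw hw0 => (zt _).resolve_right (hcon w hw hw0) with h | h | h | h
    · exact hx1 h
    · exact hxr h
    · exact hxv h
    · exact hxvr h
  obtain ⟨b, hb, hb0, hb1⟩ : ∃ b ∈ N, B b v = 0 ∧ B b y = 1 := by
    by_contra hcon
    push Not at hcon
    rcases O.eq_of_perp hv hy fun w hw hw0 => (zt _).resolve_right (hcon w hw hw0) with h | h | h | h
    · exact hy1 h
    · exact hyr h
    · exact hyv h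
    · exact hyvr h
  rcases zt (B a y) with h | h
  · rcases zt (B b x) with h' | h'
    · refine ⟨a * b, mul_mem ha hb, ?_, ?_, ?_⟩
      · rw [O.B_mul a ha b hb _ hv, ha0, hb0, add_zero]
      · rw [O.B_mul a ha b hb _ hx, ha1, h', add_zero]
      · rw [O.B_mul a ha b hb _ hy, h, hb1, zero_add]
    · exact ⟨b, hb, hb0, h', hb1⟩
  · exact ⟨a, ha, ha0, ha1, h⟩

end Frm

/-- `ψ (x y) = ψ x + ψ y` for `B x y = 1` -/
structure Hyp (N : Subgroup G) (r : G) (B : G → G → ZMod 2) (ψ : G → ZMod 2) : Prop where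
  one : ψ 1 = 0
  mul_r : ∀ x ∈ N, ψ (x * r) = ψ x
  add : ∀ x ∈ N, ∀ y ∈ N, B x y = 1 → ψ (x * y) = ψ x + ψ y

/-- `x` is not in the radical -/
def NR (r x : G) : Prop := x ≠ 1 ∧ x ≠ r

/-- `ψ (x y) = ψ x + ψ y + κ` for the good orthogonal pairs -/
def Cst (N : Subgroup G) (r : G) (B : G → G → ZMod 2) (ψ : G → ZMod 2) (κ : ZMod 2) : Prop :=
  ∀ x ∈ N, ∀ y ∈ N, NR r x → NR r y → NR r (x * y) → B x y = 0 → ψ x + ψ y + ψ (x * y) = κ

/-- `dim N / ⟨r⟩ ≥ 4` -/
def Big (N : Subgroup G) (r : G) (B : G → G → ZMod 2) : Prop :=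
  ∀ y ∈ N, NR r y → ∃ u ∈ N, B u y = 0 ∧ NR r u ∧ NR r (u * y)

namespace Frm

variable {N : Subgroup G} {r : G} {B : G → G → ZMod 2} (O : Frm N r B)

include O

theorem nr_mul_ne {x y : G} (hy : y ∈ N) (h : NR r (x * y)) : x ≠ y ∧ x ≠ y * r := by
  refine ⟨fun e => h.1 ?_, fun e => h.2 ?_⟩
  · rw [e, O.sq y hy]
  · rw [e, mul_assoc, O.comm r O.r_mem y hy, ← mul_assoc, O.sq y hy, one_mul]

theorem stepA {ψ : G → ZMod 2} (h : Hyp N r B ψ) {x x' y : G} (hx : x ∈ N) (hx' : x' ∈ N) (hy : y ∈ N)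
    (hxy : B x y = 0) (hxy' : B x' y = 0) (hxx : B x x' = 1) :
    ψ x + ψ y + ψ (x * y) = ψ x' + ψ y + ψ (x' * y) := by
  have hw : x * x' ∈ N := mul_mem hx hx'
  have e1 : x * (x * x') = x' := by rw [← mul_assoc, O.sq x hx, one_mul]
  have e2 : x * y * (x * x') = x' * y := by
    rw [O.comm x hx y hy, mul_assoc, e1, O.comm y hy x' hx']
  have h1 := h.add x hx _ hw (by rw [O.B_mul' hx hx' hx, O.B_self x hx, hxx, zero_add])
  have h2 := h.add (x * y) (mul_mem hx hy) _ hw (by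
    rw [O.B_mul x hx y hy _ hw, O.B_mul' hx hx' hx, O.B_self x hx, hxx, O.B_mul' hx hx' hy,
      O.symm y hy x hx, O.symm y hy x' hx', hxy, hxy']
    decide)
  rw [e1] at h1
  rw [e2] at h2
  rw [h1, h2]
  generalize ψ x = a, ψ y = b, ψ (x * y) = c, ψ (x * x') = d
  revert a b c d
  decide

theorem stepB {ψ : G → ZMod 2} (h : Hyp N r B ψ) {x x' y : G} (hx : x ∈ N) (hx' : x' ∈ N) (hy : y ∈ N)
    (nx : NR r x) (nx' : NR r x') (nxy : NR r (x * y)) (nxy' : NR r (x' * y))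
    (hxy : B x y = 0) (hxy' : B x' y = 0) :
    ψ x + ψ y + ψ (x * y) = ψ x' + ψ y + ψ (x' * y) := by
  have h1 := O.nr_mul_ne hy nxy
  have h2 := O.nr_mul_ne hy nxy'
  obtain ⟨w, hw, hwy, hwx, hwx'⟩ := O.exists_link hy hx hx' nx.1 nx.2 h1.1 h1.2 nx'.1 nx'.2 h2.1 h2.2
  rw [O.stepA h hx hw hy hxy hwy (by rw [O.symm x hx w hw, hwx]),
    ← O.stepA h hx' hw hy hxy' hwy (by rw [O.symm x' hx' w hw, hwx'])]

theorem const (hbig : Big N r B) {ψ : G → ZMod 2} (h : Hyp N r B ψ) : ∃ κ, Cst N r B ψ κ := by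
  have key : ∀ x ∈ N, ∀ y ∈ N, NR r x → NR r y → NR r (x * y) → B x y = 0 →
      ∀ x' ∈ N, ∀ y' ∈ N, NR r x' → NR r y' → NR r (x' * y') → B x' y' = 0 →
      ψ x + ψ y + ψ (x * y) = ψ x' + ψ y' + ψ (x' * y') := by
    intro x hx y hy nx ny nxy hxy x' hx' y' hy' nx' ny' nxy' hxy'
    have sym : ∀ a ∈ N, ∀ b ∈ N, ψ a + ψ b + ψ (a * b) = ψ b + ψ a + ψ (b * a) := by
      intro a ha b hb
      rw [O.comm a ha b hb, add_comm (ψ a)]
    rcases zt (B y y') with hB | hB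
    · by_cases e : y' = y
      · subst e
        exact O.stepB h hx hx' hy nx nx' nxy nxy' hxy hxy'
      by_cases e' : y' = y * r
      · subst e'
        have e1 : x' * (y * r) = x' * y * r := by group
        have nxy'' : NR r (x' * y) := by
          rw [e1] at nxy'
          refine ⟨fun e2 => nxy'.2 (by rw [e2, one_mul]), fun e2 => nxy'.1 (by rw [e2, O.rr])⟩
        rw [h.mul_r y hy, e1, h.mul_r _ (mul_mem hx' hy)]
        exact O.stepB h hx hx' hy nx nx' nxy nxy'' hxy (by rw [← O.B_mul_r' hx' hy, hxy'])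
      have nyy : NR r (y * y') := by
        refine ⟨fun e2 => e ?_, fun e2 => e' ?_⟩
        · calc y' = y * y * y' := by rw [O.sq y hy, one_mul]
            _ = y := by rw [mul_assoc, e2, mul_one]
        · calc y' = y * y * y' := by rw [O.sq y hy, one_mul]
            _ = y * r := by rw [mul_assoc, e2]
      have nyy' : NR r (y' * y) := by rw [O.comm y' hy' y hy]; exact nyy
      rw [O.stepB h hx hy' hy nx ny' nxy nyy' hxy (by rw [O.symm y' hy' y hy, hB]), sym y' hy' y hy,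
        O.stepB h hy hx' hy' ny nx' nyy nxy' hB hxy']
    · -- a common orthogonal vector
      obtain ⟨u, hu, huy, huy', nu⟩ : ∃ u ∈ N, B u y = 0 ∧ B u y' = 0 ∧ NR r u := by
        obtain ⟨u, hu, huy, nu, nuy⟩ := hbig y hy ny
        rcases zt (B u y') with h1 | h1
        · exact ⟨u, hu, huy, h1, nu⟩
        · refine ⟨u * y, mul_mem hu hy, ?_, ?_, nuy⟩
          · rw [O.B_mul u hu y hy y hy, huy, O.B_self y hy, add_zero]
          · rw [O.B_mul u hu y hy y' hy', h1, hB]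
            decide
      have hne : ∀ a ∈ N, ∀ b ∈ N, B u a = 0 → B a b = 1 → B u b = 0 → NR r (u * a) := by
        intro a ha b hb hua hab hub
        refine ⟨fun e => ?_, fun e => ?_⟩
        · have e1 : u = a := by
            calc u = u * (a * a) := by rw [O.sq a ha, mul_one]
              _ = a := by rw [← mul_assoc, e, one_mul]
          rw [e1, hab] at hub
          exact absurd hub (by decide)
        · have e1 : u = a * r := by
            calc u = u * (a * a) := by rw [O.sq a ha, mul_one]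
              _ = r * a := by rw [← mul_assoc, e]
              _ = a * r := O.comm _ O.r_mem _ ha
          rw [e1, O.B_mul_r ha hb, hab] at hub
          exact absurd hub (by decide)
      have n1 : NR r (u * y) := hne y hy y' hy' huy hB huy'
      have n2 : NR r (u * y') := hne y' hy' y hy huy' (by rw [O.symm y' hy' y hy, hB]) huy
      have n1' : NR r (y * u) := by rw [O.comm y hy u hu]; exact n1
      have n2' : NR r (y' * u) := by rw [O.comm y' hy' u hu]; exact n2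
      rw [O.stepB h hx hu hy nx nu nxy n1 hxy huy, sym u hu y hy,
        O.stepB h hy hy' hu ny ny' n1' n2' (by rw [O.symm y hy u hu, huy]) (by rw [O.symm y' hy' u hu, huy']),
        sym y' hy' u hu, O.stepB h hu hx' hy' nu nx' n2 nxy' huy' hxy']
  by_cases hex : ∃ x ∈ N, ∃ y ∈ N, NR r x ∧ NR r y ∧ NR r (x * y) ∧ B x y = 0
  · obtain ⟨x, hx, y, hy, nx, ny, nxy, hxy⟩ := hex
    exact ⟨ψ x + ψ y + ψ (x * y), fun x' hx' y' hy' nx' ny' nxy' hxy' =>
      key x' hx' y' hy' nx' ny' nxy' hxy' x hx y hy nx ny nxy hxy⟩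
  · exact ⟨0, fun x' hx' y' hy' nx' ny' nxy' hxy' => absurd ⟨x', hx', y', hy', nx', ny', nxy', hxy'⟩ hex⟩

/-- `κ = 0` : `ψ` is additive -/
theorem add_of_cst {ψ : G → ZMod 2} (h : Hyp N r B ψ) (hc : Cst N r B ψ 0) :
    ∀ x ∈ N, ∀ y ∈ N, ψ (x * y) = ψ x + ψ y := by
  have hr : ψ r = 0 := by
    have := h.mul_r 1 (one_mem N)
    rwa [one_mul, h.one] at this
  intro x hx y hy
  rcases zt (B x y) with hB | hB
  · by_cases h1 : x = 1
    · rw [h1, one_mul, h.one, zero_add]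
    by_cases h2 : x = r
    · rw [h2, hr, O.comm r O.r_mem y hy, h.mul_r y hy, zero_add]
    by_cases h3 : y = 1
    · rw [h3, mul_one, h.one, add_zero]
    by_cases h4 : y = r
    · rw [h4, hr, h.mul_r x hx, add_zero]
    by_cases h5 : x * y = 1
    · have e : x = y := by
        calc x = x * (y * y) := by rw [O.sq y hy, mul_one]
          _ = y := by rw [← mul_assoc, h5, one_mul]
      rw [h5, h.one, e, zt_add_self]
    by_cases h6 : x * y = r
    · have e : x = y * r := by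
        calc x = x * (y * y) := by rw [O.sq y hy, mul_one]
          _ = r * y := by rw [← mul_assoc, h6]
          _ = y * r := O.comm _ O.r_mem _ hy
      rw [h6, hr, e, h.mul_r y hy, zt_add_self]
    have h7 := hc x hx y hy ⟨h1, h2⟩ ⟨h3, h4⟩ ⟨h5, h6⟩ hB
    calc ψ (x * y) = (ψ x + ψ y + ψ (x * y)) + (ψ x + ψ y) := by
          generalize ψ x = a, ψ y = b, ψ (x * y) = c
          revert a b c
          decide
      _ = ψ x + ψ y := by rw [h7, zero_add]
  · exact h.add x hx y hy hB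

end Frm

end Cfsg.Agent.Omega.OM.Delta

end

section


/-!
# The DELTA LEMMA (helper564 #15873 (D) (1), (2); `blueprints/OMEGA-NO3S-II-helper564.md`), abstract form

`C` acts on the elementary abelian group `F ≥ N`, `B` is the form of `N` with radical `⟨r⟩` (`r = 1` in case (NR)),
`Om` is the set of points of `N` ((R): the singular vectors, (NR): `N - 1`), `D b ≤ C` (`b ∈ Om`) acts on `F` as ONE
transvection with centre `b r`, nontrivially on `N`.

* `Dat.exists_mul` : (1) `|F : N Δ| ≤ 2`, `Δ = Dl F Om D = C_F(⟨D b⟩)`;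
* `Dat.exists_conj` : `E = ⟨D b⟩` is transitive on `Om`; `Dat.conj_mem` : it centralises `F / N`;
* `HDat` : the subgroups `H b` (`b ∈ Om`) with `F = N ⟨H b⟩`, no invariant subgroup of index 2;
* `HDat.sup` : `F = N (H b)` for every `b`; `HDat.rep` : `F = N Δ`; `HDat.mem` : `H b ≤ ⟨b⟩ Δ`;
* **`HDat.mem_iff`** ((R)) : `H b = ⟨b⟩ Δ` for every `b ∈ Om`, `HDat.Dl_le` : `Δ ≤ H b`;
* **`HDat.eq`** ((NR)) : `H b = Δ` for every `b ∈ Om`.
-/

set_option autoImplicit false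
set_option linter.unusedSectionVars false

namespace Cfsg.Agent.Omega.OM.Delta

open Subgroup

variable {G : Type*} [Group G]

/-- the data of the DELTA LEMMA -/
structure Dat (C N F : Subgroup G) (r : G) (Om : Set G) (B : G → G → ZMod 2) (D : G → Subgroup G) : Prop
    extends Frm N r B where
  N_le : N ≤ F
  F_comm : ∀ x ∈ F, ∀ y ∈ F, x * y = y * x
  F_sq : ∀ x ∈ F, x * x = 1
  C_F : ∀ c ∈ C, ∀ x ∈ F, c * x * c⁻¹ ∈ F
  C_N : ∀ c ∈ C, ∀ x ∈ N, c * x * c⁻¹ ∈ N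
  C_Om : ∀ c ∈ C, ∀ b ∈ Om, c * b * c⁻¹ ∈ Om
  B_conj : ∀ c ∈ C, ∀ x ∈ N, ∀ y ∈ N, B (c * x * c⁻¹) (c * y * c⁻¹) = B x y
  om_mem : ∀ b ∈ Om, b ∈ N
  om_nr : ∀ b ∈ Om, NR r b
  om_hyp : ∀ b ∈ Om, ∀ b' ∈ Om, B b b' = 1 → b * b' * r ∈ Om
  om_line : ∀ b ∈ Om, ∀ b' ∈ Om, B b b' = 0 → b ≠ b' → b * b' ∈ Om
  om_rep : ∀ x ∈ N, NR r x → x ∈ Om ∨ x * r ∈ Om
  om_uni : ∀ b ∈ Om, b * r ∈ Om → r = 1
  big : Big N r B
  D_le : ∀ b ∈ Om, D b ≤ C
  D_conj : ∀ b ∈ Om, ∀ g ∈ C, ∀ d ∈ D b, g * d * g⁻¹ ∈ D (g * b * g⁻¹)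
  D_F : ∀ b ∈ Om, ∀ d ∈ D b, ∀ x ∈ F, d * x * d⁻¹ = x ∨ d * x * d⁻¹ = x * (b * r)
  D_N : ∀ b ∈ Om, ∃ d ∈ D b, ∃ x ∈ N, d * x * d⁻¹ ≠ x
  D_cen : ∀ b ∈ Om, ∀ d ∈ D b, (∀ x ∈ N, d * x * d⁻¹ = x) → ∀ x ∈ F, d * x * d⁻¹ = x

/-- the functional of `D b` -/
noncomputable def fb (D : G → Subgroup G) (b x : G) : ZMod 2 :=
  open Classical in if ∀ d ∈ D b, d * x * d⁻¹ = x then 0 else 1

/-- `t ∈ D b` acts on `N` as the transvection with centre `b r` -/
structure Mov (N : Subgroup G) (r : G) (B : G → G → ZMod 2) (D : G → Subgroup G) (b t : G) : Prop where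
  mem : t ∈ D b
  zero : ∀ x ∈ N, B x b = 0 → t * x * t⁻¹ = x
  one : ∀ x ∈ N, B x b = 1 → t * x * t⁻¹ = x * (b * r)

/-- the union of the `D b` -/
def DU (Om : Set G) (D : G → Subgroup G) : Set G := {d | ∃ b ∈ Om, d ∈ D b}

/-- `Δ` -/
def Dl (F : Subgroup G) (Om : Set G) (D : G → Subgroup G) : Subgroup G := F ⊓ centralizer (DU Om D)

/-- the function `b ↦ f_b(x)`, extended to `N` -/
noncomputable def ps (r : G) (Om : Set G) (D : G → Subgroup G) (x y : G) : ZMod 2 :=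
  open Classical in if y ∈ Om then fb D y x else if y * r ∈ Om then fb D (y * r) x else 0

namespace Dat

variable {C N F : Subgroup G} {r : G} {Om : Set G} {B : G → G → ZMod 2} {D : G → Subgroup G}
  (h : Dat C N F r Om B D)

include h

theorem br_ne {b : G} (hb : b ∈ Om) : b * r ≠ 1 := fun e => (h.om_nr b hb).2 (by
  calc b = b * (r * r) := by rw [h.rr, mul_one]
    _ = r := by rw [← mul_assoc, e, one_mul])

theorem br_mem {b : G} (hb : b ∈ Om) : b * r ∈ N := mul_mem (h.om_mem b hb) h.r_mem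

/-- an element of `D b` moving `N` acts as the transvection -/
theorem mov_of {b d x : G} (hb : b ∈ Om) (hd : d ∈ D b) (hx : x ∈ N) (hne : d * x * d⁻¹ ≠ x) :
    Mov N r B D b d := by
  have hbN := h.om_mem b hb
  have hbr := h.br_mem hb
  have hF : ∀ y ∈ N, d * y * d⁻¹ = y ∨ d * y * d⁻¹ = y * (b * r) := fun y hy => h.D_F b hb d hd y (h.N_le hy)
  have hsq : b * r * (b * r) = 1 := h.sq _ hbr
  have hxm : d * x * d⁻¹ = x * (b * r) := (hF x hx).resolve_left hne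
  -- fixed elements are orthogonal to `b`
  have hfix : ∀ y ∈ N, d * y * d⁻¹ = y → B y b = 0 := by
    intro y hy hy1
    have h1 := h.B_conj d (h.D_le b hb hd) x hx y hy
    rw [hxm, hy1, h.B_mul x hx _ hbr y hy, h.B_mul b hbN r h.r_mem y hy, h.B_r' hy, add_zero] at h1
    have h2 : B x y + B b y = B x y + 0 := by rw [h1, add_zero]
    rw [h.symm y hy b hbN]
    exact add_left_cancel h2
  obtain ⟨y1, hy1, hB1⟩ := h.exists_B hbN (h.om_nr b hb).1 (h.om_nr b hb).2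
  have hm1 : d * y1 * d⁻¹ = y1 * (b * r) := (hF y1 hy1).resolve_left fun e => by
    rw [hfix y1 hy1 e] at hB1
    exact absurd hB1 (by decide)
  refine ⟨hd, fun y hy hB => ?_, fun y hy hB => (hF y hy).resolve_left fun e => ?_⟩
  · refine (hF y hy).resolve_right fun e => ?_
    have e1 : d * (y * y1) * d⁻¹ = y * y1 := by
      calc d * (y * y1) * d⁻¹ = d * y * d⁻¹ * (d * y1 * d⁻¹) := by group
        _ = y * (b * r) * (y1 * (b * r)) := by rw [e, hm1]
        _ = y * (b * r * (b * r)) * y1 := by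
          rw [h.comm y1 hy1 _ hbr]; group
        _ = y * y1 := by rw [hsq, mul_one]
    have h1 := hfix _ (mul_mem hy hy1) e1
    rw [h.B_mul y hy y1 hy1 b hbN, hB, hB1] at h1
    exact absurd h1 (by decide)
  · rw [hfix y hy e] at hB
    exact absurd hB (by decide)

theorem exists_mov {b : G} (hb : b ∈ Om) : ∃ t, Mov N r B D b t := by
  obtain ⟨d, hd, x, hx, hne⟩ := h.D_N b hb
  exact ⟨d, h.mov_of hb hd hx hne⟩

/-- all elements of `D b` act on `F` as `1` or as `t` -/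
theorem same {b t d : G} (hb : b ∈ Om) (ht : Mov N r B D b t) (hd : d ∈ D b) :
    (∀ x ∈ F, d * x * d⁻¹ = x) ∨ ∀ x ∈ F, d * x * d⁻¹ = t * x * t⁻¹ := by
  by_cases hc : ∀ x ∈ N, d * x * d⁻¹ = x
  · exact Or.inl (h.D_cen b hb d hd hc)
  right
  push Not at hc
  obtain ⟨x0, hx0, hne⟩ := hc
  have hm := h.mov_of hb hd hx0 hne
  have h1 : ∀ x ∈ N, t⁻¹ * d * x * (t⁻¹ * d)⁻¹ = x := by
    intro x hx
    have h2 : d * x * d⁻¹ = t * x * t⁻¹ := by
      rcases zt (B x b) with hB | hB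
      · rw [hm.zero x hx hB, ht.zero x hx hB]
      · rw [hm.one x hx hB, ht.one x hx hB]
    calc t⁻¹ * d * x * (t⁻¹ * d)⁻¹ = t⁻¹ * (d * x * d⁻¹) * t := by group
      _ = x := by rw [h2]; group
  intro x hx
  have h2 := h.D_cen b hb _ (mul_mem (inv_mem ht.mem) hd) h1 x hx
  calc d * x * d⁻¹ = t * (t⁻¹ * d * x * (t⁻¹ * d)⁻¹) * t⁻¹ := by group
    _ = t * x * t⁻¹ := by rw [h2]

theorem fb_or {b t x : G} (hb : b ∈ Om) (ht : Mov N r B D b t) (hx : x ∈ F) :
    (fb D b x = 0 ∧ t * x * t⁻¹ = x) ∨ (fb D b x = 1 ∧ t * x * t⁻¹ = x * (b * r)) := by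
  classical
  by_cases h1 : t * x * t⁻¹ = x
  · left
    refine ⟨if_pos fun d hd => ?_, h1⟩
    rcases h.same hb ht hd with h2 | h2
    · exact h2 x hx
    · rw [h2 x hx, h1]
  · right
    exact ⟨if_neg fun h2 => h1 (h2 t ht.mem), (h.D_F b hb t ht.mem x hx).resolve_left h1⟩

theorem fb_zero {b x : G} (hx : ∀ d ∈ D b, d * x * d⁻¹ = x) : fb D b x = 0 := if_pos hx

theorem fb_zero_iff {b x : G} : fb D b x = 0 ↔ ∀ d ∈ D b, d * x * d⁻¹ = x := by
  classical
  constructor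
  · intro h1
    by_contra h2
    rw [fb, if_neg h2] at h1
    exact absurd h1 (by decide)
  · exact fun h1 => if_pos h1

theorem fb_mul {b x y : G} (hb : b ∈ Om) (hx : x ∈ F) (hy : y ∈ F) : fb D b (x * y) = fb D b x + fb D b y := by
  obtain ⟨t, ht⟩ := h.exists_mov hb
  have hbr : b * r ∈ F := h.N_le (h.br_mem hb)
  have hne := h.br_ne hb
  have e : t * (x * y) * t⁻¹ = t * x * t⁻¹ * (t * y * t⁻¹) := by group
  have hsq : b * r * (b * r) = 1 := h.F_sq _ hbr
  rcases h.fb_or hb ht hx with ⟨h1, h1'⟩ | ⟨h1, h1'⟩ <;> rcases h.fb_or hb ht hy with ⟨h2, h2'⟩ | ⟨h2, h2'⟩ <;>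
    rcases h.fb_or hb ht (mul_mem hx hy) with ⟨h3, h3'⟩ | ⟨h3, h3'⟩ <;> rw [h1, h2, h3]
  · decide
  · exfalso
    rw [e, h1', h2'] at h3'
    exact hne (left_eq_mul.1 h3')
  · exfalso
    rw [e, h1', h2', ← mul_assoc] at h3'
    exact hne (mul_eq_left.1 h3')
  · decide
  · exfalso
    rw [e, h1', h2', mul_assoc, h.F_comm _ hbr y hy, ← mul_assoc] at h3'
    exact hne (mul_eq_left.1 h3')
  · decide
  · decide
  · exfalso
    rw [e, h1', h2'] at h3'
    have e2 : x * (b * r) * (y * (b * r)) = x * y := by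
      rw [h.F_comm y hy _ hbr]
      calc x * (b * r) * (b * r * y) = x * (b * r * (b * r)) * y := by group
        _ = x * y := by rw [hsq, mul_one]
    rw [e2] at h3'
    exact hne (left_eq_mul.1 h3')

theorem fb_N {b x : G} (hb : b ∈ Om) (hx : x ∈ N) : fb D b x = B x b := by
  obtain ⟨t, ht⟩ := h.exists_mov hb
  have hne := h.br_ne hb
  rcases zt (B x b) with hB | hB
  · rcases h.fb_or hb ht (h.N_le hx) with ⟨h1, -⟩ | ⟨-, h1⟩
    · rw [h1, hB]
    · rw [ht.zero x hx hB] at h1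
      exact absurd (left_eq_mul.1 h1) hne
  · rcases h.fb_or hb ht (h.N_le hx) with ⟨-, h1⟩ | ⟨h1, -⟩
    · rw [ht.one x hx hB] at h1
      exact absurd (mul_eq_left.1 h1) hne
    · rw [h1, hB]

theorem fb_conj {b x g : G} (hb : b ∈ Om) (hg : g ∈ C) : fb D (g * b * g⁻¹) (g * x * g⁻¹) = fb D b x := by
  have key : ∀ b' ∈ Om, ∀ g' ∈ C, ∀ x', fb D b' x' = 0 → fb D (g' * b' * g'⁻¹) (g' * x' * g'⁻¹) = 0 := by
    intro b' hb' g' hg' x' h0
    rw [h.fb_zero_iff] at h0 ⊢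
    intro d hd
    have h1 := h.D_conj _ (h.C_Om g' hg' b' hb') g'⁻¹ (inv_mem hg') d hd
    have e : g'⁻¹ * (g' * b' * g'⁻¹) * g'⁻¹⁻¹ = b' := by group
    rw [e] at h1
    have h2 := h0 _ h1
    calc d * (g' * x' * g'⁻¹) * d⁻¹
        = g' * (g'⁻¹ * d * g'⁻¹⁻¹ * x' * (g'⁻¹ * d * g'⁻¹⁻¹)⁻¹) * g'⁻¹ := by group
      _ = g' * x' * g'⁻¹ := by rw [h2]
  rcases zt (fb D b x) with h1 | h1
  · rw [key b hb g hg x h1, h1]
  · rcases zt (fb D (g * b * g⁻¹) (g * x * g⁻¹)) with h2 | h2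
    · have h3 := key _ (h.C_Om g hg b hb) g⁻¹ (inv_mem hg) _ h2
      have e : ∀ y : G, g⁻¹ * (g * y * g⁻¹) * g⁻¹⁻¹ = y := fun y => by group
      rw [e, e, h1] at h3
      exact absurd h3 (by decide)
    · rw [h1, h2]

/-- hyperbolic lines -/
theorem fb_hyp {b b' x : G} (hb : b ∈ Om) (hb' : b' ∈ Om) (hB : B b b' = 1) (hx : x ∈ F) :
    fb D (b * b' * r) x = fb D b x + fb D b' x := by
  obtain ⟨t, ht⟩ := h.exists_mov hb'
  have hbN := h.om_mem b hb
  have hbN' := h.om_mem b' hb'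
  have htC : t ∈ C := h.D_le b' hb' ht.mem
  have h1 : t * b * t⁻¹ = b * b' * r := by rw [ht.one b hbN hB, mul_assoc]
  have hom := h.om_hyp b hb b' hb' hB
  have h2 := h.fb_conj (x := x) hb htC
  rw [h1] at h2
  rcases h.fb_or hb' ht hx with ⟨h3, h4⟩ | ⟨h3, h4⟩
  · rw [h4] at h2
    rw [h2, h3, add_zero]
  · rw [h4, h.fb_mul hom hx (h.N_le (h.br_mem hb')), h.fb_N hom (h.br_mem hb'),
      h.B_mul_r hbN' (h.om_mem _ hom), h.B_mul_r' hbN' (mul_mem hbN hbN'), h.B_mul' hbN hbN' hbN',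
      h.B_self b' hbN', h.symm b' hbN' b hbN, hB, add_zero] at h2
    rw [h3, ← h2, add_assoc, zt_add_self, add_zero]

theorem ps_of {x y : G} (hy : y ∈ Om) : ps r Om D x y = fb D y x := if_pos hy

theorem ps_mul_r {x y : G} (_ : y ∈ N) : ps r Om D x (y * r) = ps r Om D x y := by
  classical
  have e : y * r * r = y := by rw [mul_assoc, h.rr, mul_one]
  unfold ps
  rw [e]
  by_cases h1 : y ∈ Om
  · by_cases h2 : y * r ∈ Om
    · have hr := h.om_uni y h1 h2
      rw [hr, mul_one, if_pos h1]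
    · rw [if_neg h2, if_pos h1]
      simp [h1]
  · by_cases h2 : y * r ∈ Om
    · rw [if_pos h2, if_neg h1, if_pos h2]
    · rw [if_neg h2, if_neg h1, if_neg h1, if_neg h2]

theorem ps_one {x : G} : ps r Om D x 1 = 0 := by
  classical
  unfold ps
  rw [if_neg fun h1 => (h.om_nr 1 h1).1 rfl, one_mul, if_neg fun h1 => (h.om_nr r h1).2 rfl]

theorem nr_of_B {x y : G} (hx : x ∈ N) (hy : y ∈ N) (hB : B x y = 1) : NR r x := by
  refine ⟨fun e => ?_, fun e => ?_⟩
  · rw [e, h.B_one hy] at hB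
    exact absurd hB (by decide)
  · rw [e, h.B_r' hy] at hB
    exact absurd hB (by decide)

theorem ps_add {x y y' : G} (hx : x ∈ F) (hy : y ∈ N) (hy' : y' ∈ N) (hB : B y y' = 1) :
    ps r Om D x (y * y') = ps r Om D x y + ps r Om D x y' := by
  -- both in `Om`
  have key : ∀ a ∈ Om, ∀ b ∈ Om, B a b = 1 → ps r Om D x (a * b) = ps r Om D x a + ps r Om D x b := by
    intro a ha b hb hab
    rw [← h.ps_mul_r (mul_mem (h.om_mem a ha) (h.om_mem b hb)), h.ps_of (h.om_hyp a ha b hb hab), h.ps_of ha,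
      h.ps_of hb, h.fb_hyp ha hb hab hx]
  have key2 : ∀ a ∈ Om, ∀ b ∈ N, B a b = 1 → ps r Om D x (a * b) = ps r Om D x a + ps r Om D x b := by
    intro a ha b hb hab
    have haN := h.om_mem a ha
    rcases h.om_rep b hb (h.nr_of_B hb haN (by rw [h.symm b hb a haN, hab])) with h1 | h1
    · exact key a ha b h1 hab
    · rw [← h.ps_mul_r hb, ← h.ps_mul_r (mul_mem haN hb), mul_assoc]
      exact key a ha _ h1 (by rw [h.B_mul_r' haN hb, hab])
  rcases h.om_rep y hy (h.nr_of_B hy hy' hB) with h1 | h1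
  · exact key2 y h1 y' hy' hB
  · have e : y * y' * r = y * r * y' := by rw [mul_assoc, h.comm y' hy' r h.r_mem, ← mul_assoc]
    rw [← h.ps_mul_r hy, ← h.ps_mul_r (mul_mem hy hy'), e]
    exact key2 _ h1 y' hy' (by rw [h.B_mul_r hy hy', hB])

theorem ps_hyp {x : G} (hx : x ∈ F) : Hyp N r B (ps r Om D x) :=
  ⟨h.ps_one, fun _ hy => h.ps_mul_r hy, fun _ hy _ hy' hB => h.ps_add hx hy hy' hB⟩

theorem ps_mul {x x' y : G} (hx : x ∈ F) (hx' : x' ∈ F) :
    ps r Om D (x * x') y = ps r Om D x y + ps r Om D x' y := by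
  classical
  unfold ps
  by_cases h1 : y ∈ Om
  · rw [if_pos h1, if_pos h1, if_pos h1, h.fb_mul h1 hx hx']
  · by_cases h2 : y * r ∈ Om
    · rw [if_neg h1, if_pos h2, if_neg h1, if_pos h2, if_neg h1, if_pos h2, h.fb_mul h2 hx hx']
    · rw [if_neg h1, if_neg h2, if_neg h1, if_neg h2, if_neg h1, if_neg h2, add_zero]

theorem mem_Dl {x : G} : x ∈ Dl F Om D ↔ x ∈ F ∧ ∀ b ∈ Om, fb D b x = 0 := by
  constructor
  · intro hx
    refine ⟨hx.1, fun b hb => h.fb_zero_iff.2 fun d hd => ?_⟩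
    have h1 := mem_centralizer_iff.1 hx.2 d ⟨b, hb, hd⟩
    rw [h1]; group
  · rintro ⟨h1, h2⟩
    refine ⟨h1, mem_centralizer_iff.2 ?_⟩
    rintro d ⟨b, hb, hd⟩
    have h3 := h.fb_zero_iff.1 (h2 b hb) d hd
    calc d * x = d * x * d⁻¹ * d := by group
      _ = x * d := by rw [h3]

theorem mem_Dl_of_add [Finite N] {x : G} (hx : x ∈ F)
    (hadd : ∀ y ∈ N, ∀ y' ∈ N, ps r Om D x (y * y') = ps r Om D x y + ps r Om D x y') :
    ∃ n ∈ N, x * n ∈ Dl F Om D := by
  have hr : ps r Om D x r = 0 := by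
    have := h.ps_mul_r (x := x) (one_mem N)
    rwa [one_mul, h.ps_one] at this
  obtain ⟨n, hn, hψ⟩ := h.toFrm.dual _ hadd hr
  refine ⟨n, hn, h.mem_Dl.2 ⟨mul_mem hx (h.N_le hn), fun b hb => ?_⟩⟩
  rw [h.fb_mul hb hx (h.N_le hn), h.fb_N hb hn, ← h.ps_of hb, hψ b (h.om_mem b hb), zt_add_self]

/-- **(1)** `|F : N Δ| ≤ 2` -/
theorem exists_mul [Finite N] {x y : G} (hx : x ∈ F) (hy : y ∈ F) (hx' : ¬ ∃ n ∈ N, x * n ∈ Dl F Om D)
    (hy' : ¬ ∃ n ∈ N, y * n ∈ Dl F Om D) : ∃ n ∈ N, x * y * n ∈ Dl F Om D := by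
  have key : ∀ a ∈ F, (¬ ∃ n ∈ N, a * n ∈ Dl F Om D) → Cst N r B (ps r Om D a) 1 := by
    intro a ha hna
    obtain ⟨κ, hκ⟩ := h.const h.big (h.ps_hyp ha)
    rcases zt κ with h0 | h0
    · rw [h0] at hκ
      exact absurd (h.mem_Dl_of_add ha (h.add_of_cst (h.ps_hyp ha) hκ)) hna
    · rwa [h0] at hκ
  have h1 := key x hx hx'
  have h2 := key y hy hy'
  have h3 : Cst N r B (ps r Om D (x * y)) 0 := by
    intro a ha b hb na nb nab hab
    have h4 := h1 a ha b hb na nb nab hab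
    have h5 := h2 a ha b hb na nb nab hab
    rw [h.ps_mul hx hy, h.ps_mul hx hy, h.ps_mul hx hy]
    calc _ = (ps r Om D x a + ps r Om D x b + ps r Om D x (a * b)) +
          (ps r Om D y a + ps r Om D y b + ps r Om D y (a * b)) := by ring
      _ = 0 := by rw [h4, h5]; decide
  exact h.mem_Dl_of_add (mul_mem hx hy) (h.add_of_cst (h.ps_hyp (mul_mem hx hy)) h3)

/-- `N ∩ Δ = ⟨r⟩` -/
theorem eq_of_mem {x : G} (hx : x ∈ N) (hd : x ∈ Dl F Om D) : x = 1 ∨ x = r := by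
  have h1 : ∀ b ∈ Om, B x b = 0 := fun b hb => by rw [← h.fb_N hb hx]; exact (h.mem_Dl.1 hd).2 b hb
  apply h.rad x hx
  intro y hy
  by_cases hy1 : y = 1
  · rw [hy1, h.B_one' hx]
  by_cases hyr : y = r
  · rw [hyr, h.B_r x hx]
  rcases h.om_rep y hy ⟨hy1, hyr⟩ with h2 | h2
  · exact h1 y h2
  · rw [← h.B_mul_r' hx hy]
    exact h1 _ h2

theorem r_mem_Dl : r ∈ Dl F Om D := by
  refine h.mem_Dl.2 ⟨h.N_le h.r_mem, fun b hb => ?_⟩
  rw [h.fb_N hb h.r_mem, h.B_r' (h.om_mem b hb)]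

theorem Dl_le : Dl F Om D ≤ F := inf_le_left

theorem Dl_conj {g x : G} (hg : g ∈ C) (hx : x ∈ Dl F Om D) : g * x * g⁻¹ ∈ Dl F Om D := by
  rw [h.mem_Dl] at hx ⊢
  refine ⟨h.C_F g hg x hx.1, fun b hb => ?_⟩
  have h1 := h.fb_conj (x := x) (h.C_Om g⁻¹ (inv_mem hg) b hb) hg
  have e : g * (g⁻¹ * b * g⁻¹⁻¹) * g⁻¹ = b := by group
  rw [e, hx.2 _ (h.C_Om g⁻¹ (inv_mem hg) b hb)] at h1
  exact h1

theorem DU_C {d : G} (hd : d ∈ closure (DU Om D)) : d ∈ C := by
  have : closure (DU Om D) ≤ C := by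
    rw [closure_le]
    rintro d ⟨b, hb, hd⟩
    exact h.D_le b hb hd
  exact this hd

/-- `E` is transitive on `Om` -/
theorem exists_conj {b b' : G} (hb : b ∈ Om) (hb' : b' ∈ Om) :
    ∃ e ∈ closure (DU Om D), e * b * e⁻¹ = b' := by
  -- noncollinear
  have key : ∀ a ∈ Om, ∀ c ∈ Om, B a c = 1 → ∃ e ∈ closure (DU Om D), e * a * e⁻¹ = c := by
    intro a ha c hc hac
    obtain ⟨t, ht⟩ := h.exists_mov ha
    obtain ⟨t', ht'⟩ := h.exists_mov hc
    have haN := h.om_mem a ha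
    have hcN := h.om_mem c hc
    refine ⟨t * t', mul_mem (subset_closure ⟨a, ha, ht.mem⟩) (subset_closure ⟨c, hc, ht'.mem⟩), ?_⟩
    have e1 : t' * a * t'⁻¹ = a * c * r := by rw [ht'.one a haN hac, mul_assoc]
    have hacr : a * c * r ∈ N := mul_mem (mul_mem haN hcN) h.r_mem
    have e2 : B (a * c * r) a = 1 := by
      rw [h.B_mul_r (mul_mem haN hcN) haN, h.B_mul a haN c hcN a haN, h.B_self a haN, h.symm c hcN a haN, hac,
        zero_add]
    calc t * t' * a * (t * t')⁻¹ = t * (t' * a * t'⁻¹) * t⁻¹ := by group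
      _ = a * c * r * (a * r) := by rw [e1, ht.one _ hacr e2]
      _ = (a * a) * c * (r * r) := by
        rw [h.comm a haN r h.r_mem]
        calc a * c * r * (r * a) = a * (c * (r * r)) * a := by group
          _ = a * c * a := by rw [h.rr, mul_one]
          _ = a * (a * c) := by rw [mul_assoc, h.comm c hcN a haN]
          _ = a * a * c * (r * r) := by rw [h.rr, mul_one]; group
      _ = c := by rw [h.sq a haN, h.rr, one_mul, mul_one]
  rcases zt (B b b') with hB | hB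
  · by_cases e : b = b'
    · exact ⟨1, one_mem _, by rw [e]; group⟩
    have hbN := h.om_mem b hb
    have hbN' := h.om_mem b' hb'
    -- `w` with `B w b = B w b' = 1`
    have hex : ∃ w ∈ N, B w b = 1 ∧ B w b' = 1 := by
      by_contra hcon
      push Not at hcon
      obtain ⟨y, hy, hyb⟩ := h.exists_B hbN (h.om_nr b hb).1 (h.om_nr b hb).2
      obtain ⟨y', hy', hyb'⟩ := h.exists_B hbN' (h.om_nr b' hb').1 (h.om_nr b' hb').2
      have h1 : B y b' = 0 := (zt _).resolve_right (hcon y hy hyb)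
      have h2 : B y' b = 0 := (zt _).resolve_right fun h3 => hcon y' hy' h3 hyb'
      refine hcon (y * y') (mul_mem hy hy') ?_ ?_
      · rw [h.B_mul y hy y' hy' b hbN, hyb, h2, add_zero]
      · rw [h.B_mul y hy y' hy' b' hbN', hyb', h1, zero_add]
    obtain ⟨w, hw, hwb, hwb'⟩ := hex
    obtain ⟨w', hw', hwb1, hwb1'⟩ : ∃ w' ∈ Om, B w' b = 1 ∧ B w' b' = 1 := by
      rcases h.om_rep w hw (h.nr_of_B hw hbN hwb) with h1 | h1
      · exact ⟨w, h1, hwb, hwb'⟩
      · exact ⟨w * r, h1, by rw [h.B_mul_r hw hbN, hwb], by rw [h.B_mul_r hw hbN', hwb']⟩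
    obtain ⟨e1, he1, h1⟩ := key b hb w' hw' (by rw [h.symm b hbN w' (h.om_mem _ hw'), hwb1])
    obtain ⟨e2, he2, h2⟩ := key w' hw' b' hb' hwb1'
    refine ⟨e2 * e1, mul_mem he2 he1, ?_⟩
    calc e2 * e1 * b * (e2 * e1)⁻¹ = e2 * (e1 * b * e1⁻¹) * e2⁻¹ := by group
      _ = b' := by rw [h1, h2]
  · exact key b hb b' hb' hB

/-- `E` centralises `F / N` -/
theorem conj_mem {e x : G} (he : e ∈ closure (DU Om D)) (hx : x ∈ F) : e * x * e⁻¹ * x⁻¹ ∈ N := by
  induction he using closure_induction generalizing x with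
  | mem d hd =>
    obtain ⟨b, hb, hd⟩ := hd
    rcases h.D_F b hb d hd x hx with h1 | h1
    · rw [h1, mul_inv_cancel]; exact one_mem N
    · rw [h1, h.F_comm x hx _ (h.N_le (h.br_mem hb)), mul_inv_cancel_right]
      exact h.br_mem hb
  | one => simp
  | mul a b _ hb ih1 ih2 =>
    have h1 := ih2 hx
    have h2 := ih1 (h.C_F b (h.DU_C hb) x hx)
    have e1 : a * b * x * (a * b)⁻¹ * x⁻¹ = a * (b * x * b⁻¹) * a⁻¹ * (b * x * b⁻¹)⁻¹ * (b * x * b⁻¹ * x⁻¹) := by
      group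
    rw [e1]
    exact mul_mem h2 h1
  | inv a ha ih =>
    have h1 := ih (h.C_F a⁻¹ (inv_mem (h.DU_C ha)) x hx)
    have e1 : a⁻¹ * x * a⁻¹⁻¹ * x⁻¹ = (a * (a⁻¹ * x * a⁻¹⁻¹) * a⁻¹ * (a⁻¹ * x * a⁻¹⁻¹)⁻¹)⁻¹ := by group
    rw [e1]
    exact inv_mem h1

theorem conj_Dl {e x : G} (he : e ∈ closure (DU Om D)) (hx : x ∈ Dl F Om D) : e * x * e⁻¹ = x := by
  have h1 : closure (DU Om D) ≤ centralizer {x} := by
    rw [closure_le]
    intro d hd
    rw [SetLike.mem_coe, mem_centralizer_singleton_iff]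
    exact mem_centralizer_iff.1 hx.2 d hd
  have h2 := mem_centralizer_singleton_iff.1 (h1 he)
  rw [h2]; group

end Dat

/-- the subgroups `H b` (= the group generated by the lines on `a` in `N_b`) -/
structure HDat (C N F : Subgroup G) (r : G) (Om : Set G) (H : G → Subgroup G) : Prop where
  H_le : ∀ b ∈ Om, H b ≤ F
  H_conj : ∀ b ∈ Om, ∀ g ∈ C, ∀ x ∈ H b, g * x * g⁻¹ ∈ H (g * b * g⁻¹)
  H_gen : F ≤ N ⊔ closure {x | ∃ b ∈ Om, x ∈ H b}
  H_inf : ∀ b ∈ Om, ∀ x ∈ H b, x ∈ N → x = 1 ∨ x = r ∨ x = b ∨ x = b * r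
  H_two : ∀ b ∈ Om, ∀ K : Subgroup G, K ≤ H b →
    (∀ m ∈ C, m * b * m⁻¹ = b → ∀ x ∈ K, m * x * m⁻¹ ∈ K) → (∀ x ∈ H b, x ∈ N → x ∈ K) →
    (∀ x ∈ H b, ∀ y ∈ H b, x ∉ K → y ∉ K → x * y ∈ K) → H b ≤ K
  Om_ne : Om.Nonempty

namespace HDat

variable {C N F : Subgroup G} {r : G} {Om : Set G} {B : G → G → ZMod 2} {D H : G → Subgroup G}
  (k : HDat C N F r Om H) (h : Dat C N F r Om B D)

include k h

/-- `F = N (H b)` for every `b` -/
theorem sup {b x : G} (hb : b ∈ Om) (hx : x ∈ F) : ∃ n ∈ N, ∃ y ∈ H b, x = n * y := by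
  have hHF := k.H_le b hb
  -- the product is a subgroup
  let K : Subgroup G :=
    { carrier := {x | ∃ n ∈ N, ∃ y ∈ H b, x = n * y}
      one_mem' := ⟨1, one_mem N, 1, one_mem _, by simp⟩
      mul_mem' := by
        rintro _ _ ⟨n, hn, y, hy, rfl⟩ ⟨n', hn', y', hy', rfl⟩
        refine ⟨n * n', mul_mem hn hn', y * y', mul_mem hy hy', ?_⟩
        calc n * y * (n' * y') = n * (y * n') * y' := by group
          _ = n * n' * (y * y') := by rw [h.F_comm y (hHF hy) n' (h.N_le hn')]; group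
      inv_mem' := by
        rintro _ ⟨n, hn, y, hy, rfl⟩
        refine ⟨n⁻¹, inv_mem hn, y⁻¹, inv_mem hy, ?_⟩
        rw [h.F_comm n (h.N_le hn) y (hHF hy)]
        group }
  have hle : N ⊔ closure {x | ∃ b ∈ Om, x ∈ H b} ≤ K := by
    rw [sup_le_iff, closure_le]
    refine ⟨fun n hn => ⟨n, hn, 1, one_mem _, by simp⟩, ?_⟩
    rintro x ⟨b', hb', hx'⟩
    obtain ⟨e, he, hc⟩ := h.exists_conj hb' hb
    have h1 := k.H_conj b' hb' e (h.DU_C he) x hx'
    rw [hc] at h1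
    have h2 := h.conj_mem he (k.H_le b' hb' hx')
    refine ⟨(e * x * e⁻¹ * x⁻¹)⁻¹, inv_mem h2, e * x * e⁻¹, h1, ?_⟩
    have hxF := k.H_le b' hb' hx'
    rw [h.F_comm _ (h.N_le (inv_mem h2)) _ (hHF h1)]
    have h3 : e * x * e⁻¹ * (e * x * e⁻¹ * x⁻¹)⁻¹ = e * x * e⁻¹ * (x * (e * x * e⁻¹)⁻¹) := by group
    rw [h3, h.F_comm x hxF _ (inv_mem (hHF h1)), ← mul_assoc, mul_inv_cancel, one_mul]
  exact hle (k.H_gen hx)

/-- **`F = N Δ`** -/
theorem rep [Finite N] {x : G} (hx : x ∈ F) : ∃ n ∈ N, x * n ∈ Dl F Om D := by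
  obtain ⟨b, hb⟩ := k.Om_ne
  have hHF := k.H_le b hb
  -- `N Δ`
  let L : Subgroup G :=
    { carrier := {x | x ∈ F ∧ ∃ n ∈ N, x * n ∈ Dl F Om D}
      one_mem' := ⟨one_mem F, 1, one_mem N, by simp⟩
      mul_mem' := by
        rintro x y ⟨hx, n, hn, h1⟩ ⟨hy, n', hn', h2⟩
        refine ⟨mul_mem hx hy, n * n', mul_mem hn hn', ?_⟩
        have e : x * y * (n * n') = x * n * (y * n') := by
          calc x * y * (n * n') = x * (y * n) * n' := by group
            _ = x * n * (y * n') := by rw [h.F_comm y hy n (h.N_le hn)]; group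
        rw [e]
        exact mul_mem h1 h2
      inv_mem' := by
        rintro x ⟨hx, n, hn, h1⟩
        refine ⟨inv_mem hx, n⁻¹, inv_mem hn, ?_⟩
        have e : x⁻¹ * n⁻¹ = (x * n)⁻¹ := by rw [h.F_comm x hx n (h.N_le hn)]; group
        rw [e]
        exact inv_mem h1 }
  have hL : ∀ x, x ∈ L ↔ x ∈ F ∧ ∃ n ∈ N, x * n ∈ Dl F Om D := fun x => Iff.rfl
  have h1 : H b ≤ H b ⊓ L := by
    refine k.H_two b hb (H b ⊓ L) inf_le_left ?_ ?_ ?_
    · rintro m hm hmb x ⟨hxH, hxF, n, hn, hxn⟩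
      refine ⟨?_, h.C_F m hm x hxF, m * n * m⁻¹, h.C_N m hm n hn, ?_⟩
      · have := k.H_conj b hb m hm x hxH
        rwa [hmb] at this
      · have e : m * x * m⁻¹ * (m * n * m⁻¹) = m * (x * n) * m⁻¹ := by group
        rw [e]
        exact h.Dl_conj hm hxn
    · intro x hxH hxN
      refine ⟨hxH, h.N_le hxN, x⁻¹, inv_mem hxN, ?_⟩
      rw [mul_inv_cancel]; exact one_mem _
    · intro x hx y hy hx' hy'
      refine ⟨mul_mem hx hy, mul_mem (hHF hx) (hHF hy), ?_⟩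
      refine h.exists_mul (hHF hx) (hHF hy) (fun h2 => hx' ⟨hx, hHF hx, h2⟩) (fun h2 => hy' ⟨hy, hHF hy, h2⟩)
  obtain ⟨n, hn, y, hy, rfl⟩ := k.sup h hb hx
  have h2 := (h1 hy).2
  have h3 : n ∈ L := ⟨h.N_le hn, n⁻¹, inv_mem hn, by rw [mul_inv_cancel]; exact one_mem _⟩
  exact (mul_mem h3 h2).2

/-- **`H b ≤ ⟨b⟩ Δ`** -/
theorem mem [Finite N] {b x : G} (hb : b ∈ Om) (hx : x ∈ H b) : x ∈ Dl F Om D ∨ x * b ∈ Dl F Om D := by
  have hxF := k.H_le b hb hx
  have hbN := h.om_mem b hb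
  obtain ⟨n, hn, hxn⟩ := k.rep h hxF
  have h1 : ∀ u ∈ Om, B u b = 0 → u ≠ b → B n u = 0 := by
    intro u hu hub hne
    obtain ⟨t, ht⟩ := h.exists_mov hu
    have htC := h.D_le u hu ht.mem
    have htE : t ∈ closure (DU Om D) := subset_closure ⟨u, hu, ht.mem⟩
    have htb : t * b * t⁻¹ = b := ht.zero b hbN (by rw [h.symm b hbN u (h.om_mem u hu), hub])
    have h2 := k.H_conj b hb t htC x hx
    rw [htb] at h2
    have h3 := h.conj_Dl htE hxn
    refine (zt _).resolve_right fun hnu => ?_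
    have h4 := ht.one n hn hnu
    have h5 : t * x * t⁻¹ = x * (u * r) := by
      have e1 : t * (x * n) * t⁻¹ = t * x * t⁻¹ * (t * n * t⁻¹) := by group
      rw [e1, h4] at h3
      have hur := h.br_mem hu
      have e2 : n * (u * r) * (n * (u * r)) = 1 := h.sq _ (mul_mem hn hur)
      calc t * x * t⁻¹ = t * x * t⁻¹ * (n * (u * r) * (n * (u * r))) := by rw [e2, mul_one]
        _ = t * x * t⁻¹ * (n * (u * r)) * (n * (u * r)) := by group
        _ = x * (n * n) * (u * r) := by rw [h3]; group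
        _ = x * (u * r) := by rw [h.sq n hn, mul_one]
    have h6 : u * r ∈ H b := by
      have := mul_mem (inv_mem hx) h2
      rw [h5] at this
      simpa using this
    have hrr := h.rr
    have hcan : ∀ z : G, u * r = z → u = z * r := fun z hz => by rw [← hz, mul_assoc, hrr, mul_one]
    rcases k.H_inf b hb _ h6 (h.br_mem hu) with h7 | h7 | h7 | h7
    · exact h.br_ne hu h7
    · exact (h.om_nr u hu).1 (by rw [hcan _ h7, hrr])
    · have h8 := hcan _ h7
      have hr1 := h.om_uni b hb (by rw [← h8]; exact hu)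
      exact hne (by rw [h8, hr1, mul_one])
    · exact hne (mul_right_cancel h7)
  have h2 : ∀ y ∈ N, B y b = 0 → B y n = 0 := by
    -- `B n b = 0`
    have hnb : B n b = 0 := by
      obtain ⟨u, hu, hub, nu, nub⟩ := h.big b hbN (h.om_nr b hb)
      have key : ∀ w ∈ Om, B w b = 0 → w ≠ b → B n b = 0 := by
        intro w hw hwb hne
        have h3 := h1 w hw hwb hne
        have hwN := h.om_mem w hw
        have h4 := h.om_line w hw b hb hwb hne
        have h5 : w * b ≠ b := fun e => (h.om_nr w hw).1 (mul_eq_right.1 e)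
        have h6 := h1 _ h4 (by rw [h.B_mul w hwN b hbN b hbN, hwb, h.B_self b hbN, add_zero]) h5
        rw [h.B_mul' hwN hbN hn, h3, zero_add] at h6
        exact h6
      have hne := h.nr_mul_ne hbN nub
      rcases h.om_rep u hu nu with h3 | h3
      · exact key u h3 hub hne.1
      · refine key _ h3 (by rw [h.B_mul_r hu hbN, hub]) fun e => hne.2 ?_
        rw [← e, mul_assoc, h.rr, mul_one]
    intro y hy hyb
    rw [h.symm y hy n hn]
    by_cases hy1 : y = 1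
    · rw [hy1, h.B_one' hn]
    by_cases hyr : y = r
    · rw [hyr, h.B_r n hn]
    rcases h.om_rep y hy ⟨hy1, hyr⟩ with h3 | h3
    · by_cases e : y = b
      · rw [e, hnb]
      · exact h1 y h3 hyb e
    · rw [← h.B_mul_r' hn hy]
      by_cases e : y * r = b
      · rw [e, hnb]
      · exact h1 _ h3 (by rw [h.B_mul_r hy hbN, hyb]) e
  have hrD := h.r_mem_Dl
  rcases h.eq_of_perp hbN hn h2 with e | e | e | e
  · left; rwa [e, mul_one] at hxn
  · left
    rw [e] at hxn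
    have := mul_mem hxn (inv_mem hrD)
    rwa [mul_inv_cancel_right] at this
  · right; rwa [e] at hxn
  · right
    rw [e, ← mul_assoc] at hxn
    have := mul_mem hxn (inv_mem hrD)
    rwa [mul_inv_cancel_right] at this

/-- **(R)** `Δ ≤ H b` -/
theorem Dl_le [Finite N] {b : G} (hb : b ∈ Om) (hrH : r ∈ H b) (hbH : b ∈ H b) : Dl F Om D ≤ H b := by
  intro x hx
  have hbF := h.N_le (h.om_mem b hb)
  obtain ⟨n, hn, y, hy, e⟩ := k.sup h hb (h.Dl_le hx)
  have hyF := k.H_le b hb hy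
  have hn' : n = x * y⁻¹ := by rw [e]; group
  have hyy : y⁻¹ = y := inv_eq_of_mul_eq_one_left (h.F_sq y hyF)
  suffices n ∈ H b by rw [e]; exact mul_mem this hy
  rcases k.mem h hb hy with h1 | h1
  · have h2 : n ∈ Dl F Om D := by rw [hn']; exact mul_mem hx (inv_mem h1)
    rcases h.eq_of_mem hn h2 with h3 | h3
    · rw [h3]; exact one_mem _
    · rw [h3]; exact hrH
  · have h2 : n * b ∈ Dl F Om D := by
      rw [hn', hyy, mul_assoc]; exact mul_mem hx h1
    have h4 : n = n * b * b := by rw [mul_assoc, h.sq b (h.om_mem b hb), mul_one]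
    rcases h.eq_of_mem (mul_mem hn (h.om_mem b hb)) h2 with h3 | h3
    · rw [h4, h3, one_mul]; exact hbH
    · rw [h4, h3]; exact mul_mem hrH hbH

/-- **(R)** `H b = ⟨b⟩ Δ` for every `b` -/
theorem mem_iff [Finite N] {b x : G} (hb : b ∈ Om) (hrH : r ∈ H b) (hbH : b ∈ H b) :
    x ∈ H b ↔ x ∈ Dl F Om D ∨ x * b ∈ Dl F Om D := by
  refine ⟨k.mem h hb, ?_⟩
  rintro (h1 | h1)
  · exact k.Dl_le h hb hrH hbH h1
  · have h2 := mul_mem (k.Dl_le h hb hrH hbH h1) (inv_mem hbH)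
    rwa [mul_inv_cancel_right] at h2

/-- **(NR)** `H b = Δ` for every `b` -/
theorem eq [Finite N] {b : G} (hb : b ∈ Om) (hr : r = 1) (hH : ∀ x ∈ H b, x ∈ N → x = 1) : H b = Dl F Om D := by
  have h0 : H b ≤ H b ⊓ Dl F Om D := by
    refine k.H_two b hb _ inf_le_left ?_ ?_ ?_
    · rintro m hm hmb x ⟨hxH, hxD⟩
      refine ⟨?_, h.Dl_conj hm hxD⟩
      have := k.H_conj b hb m hm x hxH
      rwa [hmb] at this
    · intro x hxH hxN
      rw [hH x hxH hxN]
      exact one_mem _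
    · intro x hx y hy hx' hy'
      refine ⟨mul_mem hx hy, ?_⟩
      have h1 := (k.mem h hb hx).resolve_left fun h2 => hx' ⟨hx, h2⟩
      have h2 := (k.mem h hb hy).resolve_left fun h2 => hy' ⟨hy, h2⟩
      have h3 := mul_mem h1 h2
      have hbF := h.N_le (h.om_mem b hb)
      have hyF := k.H_le b hb hy
      have e : x * b * (y * b) = x * y * (b * b) := by
        rw [h.F_comm y hyF b hbF]
        calc x * b * (b * y) = x * (b * b) * y := by group
          _ = x * y * (b * b) := by rw [h.F_sq b hbF]; group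
      rwa [e, h.F_sq b hbF, mul_one] at h3
  refine le_antisymm (h0.trans inf_le_right) fun x hx => ?_
  obtain ⟨n, hn, y, hy, e⟩ := k.sup h hb (h.Dl_le hx)
  have h1 := (h0 hy).2
  have h2 : n ∈ Dl F Om D := by
    have e2 : n = x * y⁻¹ := by rw [e]; group
    rw [e2]
    exact mul_mem hx (inv_mem h1)
  have h3 : n = 1 := by
    rcases h.eq_of_mem hn h2 with h4 | h4
    · exact h4
    · rw [h4, hr]
  rw [e, h3, one_mul]
  exact hy

end HDat

end Cfsg.Agent.Omega.OM.Delta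

end

end

-- merged: Cfsg.Agent.Mrg.Omega.OM.KTwo.Adj
section

section


/-!
# NO-3S, `k = 2`, `q = 2`, case (II), distance 1 (helper609 #16177 (4))

`D : Sit S P T U v`, `N i = ⟨U (i+1) ^ C_G(v i)⟩`, `W i = ⟨U i ^ C_G(v i)⟩`, `M = C_G(Y)`, `Y = Ω₁Z(T) = ⟨v 0, v 1⟩`.

* `DOne` : the facts on the module `N i` used in (4); in the application `C_G(v i)` induces `O_{2n+1}(2)` on `N i`
  (radical `v i`) and `N (i+1)` induces the transvection with centre `v 0 v 1`;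
* `Sit.false_of_dOne`.
-/

set_option autoImplicit false
set_option linter.unusedSectionVars false

namespace Cfsg.Agent.Omega.OM.KTwo

open Subgroup Cfsg Cfsg.Agent.ZN Cfsg.Agent.Omega.MinPar
open Cfsg.Agent.Omega.NO3S Cfsg.Agent.Omega.FrameNOFF
open Cfsg.Agent.Omega.NoFF.Basic (conj_conj mem_conj conj_le_iff conj_le_centralizer comm_symm comm_mono
  Z_le_V V_le conj_V_mul)
open Cfsg.Agent.Omega.NOThreeL.Pair (conj_eq_of_mem)
open Cfsg.Agent.MinSimple.VModule (mem_zc)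
open scoped Pointwise

universe u

variable {G : Type u} [Group G]

/-- `⟨U (i+1) ^ C_G(Y)⟩`: generated by the lines of `N i` on `v (i+1)` -/
abbrev LU (T : Subgroup G) (U : Fin 2 → Subgroup G) (i : Fin 2) : Subgroup G :=
  NoFF.Basic.V (U (i + 1)) (centralizer (zc T : Set G))

/-- The facts on `C_G(v i)` acting on `N i` used in (4). -/
structure DOne (P T : Subgroup G) (U : Fin 2 → Subgroup G) (v : Fin 2 → G) : Prop where
  /-- the lines of `N i` on `v (i+1)` generate a subgroup containing the radical `v i` -/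
  rad : ∀ i, v i ∈ LU T U i
  /-- an element centralising the lines of `N i` on `v (i+1)` is `1` or the transvection with centre `v 0 v 1` -/
  tv : ∀ i, ∀ g ∈ CC v i, g ∈ centralizer (LU T U i : Set G) → ∀ x ∈ NU U v i, g * x * g⁻¹ * x⁻¹ ∈ zpowers (v 0 * v 1)
  /-- the `C_G(v i)`-conjugates of `N (i+1)` generate `C_G(v i)` modulo `C(N i)` -/
  gen : ∀ i, CC v i ≤ FF U v i ⊔ NoFF.Basic.V (NU U v (i + 1)) (CC v i)
  inf : NU U v 0 ⊓ NU U v 1 ≤ zc T
  /-- `C_G(v i) = ⟨C_G(Y), L_{i+1}⟩` -/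
  max : ∀ i, CC v i ≤ centralizer (zc T : Set G) ⊔ (P ⊓ centralizer (U i : Set G))

namespace Sit

variable [Finite G] {S : Sylow 2 G} {P T : Subgroup G} {U : Fin 2 → Subgroup G} {v : Fin 2 → G}
  (D : Sit S P T U v)

include D

theorem LU_le_N (i : Fin 2) : LU T U i ≤ NU U v i :=
  V_le fun _ hc => Z_le_V (D.cent_zc_le i hc)

theorem LU_le_W (i : Fin 2) : LU T U i ≤ WU U v (i + 1) :=
  V_le fun _ hc => Z_le_V (D.cent_zc_le (i + 1) hc)

theorem W_le_C (i j : Fin 2) : WU U v i ≤ CC v j := (D.W_le_Q i).trans ((D.Q_le_T i).trans (D.T_le_C j))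

theorem N_le_C (i j : Fin 2) : NU U v i ≤ CC v j := (D.N_le_Q i).trans ((D.Q_le_T i).trans (D.T_le_C j))

/-- the subgroup of `C_G(v i)` acting trivially on `W i / N i` -/
def KW (D : Sit S P T U v) (i : Fin 2) : Subgroup G where
  carrier := {r | r ∈ CC v i ∧ ∀ x ∈ WU U v i, r * x * r⁻¹ * x⁻¹ ∈ NU U v i}
  one_mem' := ⟨one_mem _, fun x _ => by simp⟩
  mul_mem' := by
    rintro r s ⟨hr, h1⟩ ⟨hs, h2⟩
    refine ⟨mul_mem hr hs, fun x hx => ?_⟩
    have h3 := (mem_normalizer_iff.1 (D.C_le_N_N i hr) _).1 (h2 x hx)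
    have e : r * s * x * (r * s)⁻¹ * x⁻¹ = (r * (s * x * s⁻¹ * x⁻¹) * r⁻¹) * (r * x * r⁻¹ * x⁻¹) := by group
    rw [e]
    exact mul_mem h3 (h1 x hx)
  inv_mem' := by
    rintro r ⟨hr, h1⟩
    refine ⟨inv_mem hr, fun x hx => ?_⟩
    have h3 := (mem_normalizer_iff.1 (D.C_le_N_N i (inv_mem hr)) _).1 (inv_mem (h1 x hx))
    have e : r⁻¹ * x * r⁻¹⁻¹ * x⁻¹ = r⁻¹ * (r * x * r⁻¹ * x⁻¹)⁻¹ * r⁻¹⁻¹ := by group
    rw [e]
    exact h3

theorem V_le_KW (K : DOne P T U v) (i : Fin 2) : NoFF.Basic.V (NU U v (i + 1)) (CC v i) ≤ D.KW i := by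
  have hz : v 0 * v 1 ∈ NU U v i := by
    have h1 : v i ∈ NU U v i := D.LU_le_N i (K.rad i)
    have h2 : v (i + 1) ∈ NU U v i := D.mem_N i
    rcases Fin.exists_fin_two.1 ⟨i, rfl⟩ with h | h
    · rw [h] at h1 h2 ⊢; exact mul_mem h1 h2
    · rw [h] at h1 h2 ⊢; exact mul_mem h2 h1
  refine V_le fun c hc y hy => ?_
  rw [mem_conj] at hy
  have hyC : c⁻¹ * y * c ∈ CC v i := D.N_le_C (i + 1) i hy
  refine ⟨?_, fun x hx => ?_⟩
  · have h1 := mul_mem (mul_mem hc hyC) (inv_mem hc)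
    have e : c * (c⁻¹ * y * c) * c⁻¹ = y := by group
    rwa [e] at h1
  · have h1 : c⁻¹ * x * c ∈ WU U v i := by
      have := (mem_normalizer_iff.1 (D.C_le_N_W i (inv_mem hc)) x).1 hx
      rwa [inv_inv] at this
    -- `[W i, N (i+1)] ≤ ⟨z⟩`
    have h2 : c⁻¹ * x * c ∈ centralizer (LU T U (i + 1) : Set G) := by
      have h3 := D.LU_le_W (i + 1)
      rw [add_one_add_one] at h3
      exact centralizer_le h3 (D.W_comm i h1)
    have h3 := K.tv (i + 1) _ (D.W_le_C i (i + 1) h1) h2 _ hy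
    have h4 : c⁻¹ * x * c * (c⁻¹ * y * c) * (c⁻¹ * x * c)⁻¹ * (c⁻¹ * y * c)⁻¹ ∈ NU U v i :=
      (zpowers_le.2 hz) h3
    have h5 := (mem_normalizer_iff.1 (D.C_le_N_N i hc) _).1 (inv_mem h4)
    have e : y * x * y⁻¹ * x⁻¹ = c * (c⁻¹ * x * c * (c⁻¹ * y * c) * (c⁻¹ * x * c)⁻¹ * (c⁻¹ * y * c)⁻¹)⁻¹ * c⁻¹ := by
      group
    rw [e]
    exact h5

/-- `C_G(Y) ⊓ KW` normalises `U i` -/
theorem conj_mem_U (K : DOne P T U v) {i : Fin 2} {r : G} (hrD : r ∈ centralizer (zc T : Set G)) (hr : r ∈ D.KW i)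
    {x : G} (hx : x ∈ U i) : r * x * r⁻¹ ∈ U i := by
  by_cases hx1 : x = 1
  · rw [hx1]; simp
  have hxW : x ∈ WU U v i := le_V _ _ hx
  have hxN : x ∈ NU U v (i + 1) := by
    have := D.U_le_N (i + 1)
    rw [add_one_add_one] at this
    exact this hx
  have h1 : r * x * r⁻¹ * x⁻¹ ∈ NU U v i := hr.2 x hxW
  have h2 : r * x * r⁻¹ * x⁻¹ ∈ NU U v (i + 1) :=
    mul_mem ((mem_normalizer_iff.1 (D.C_le_N_N (i + 1) (D.cent_zc_le (i + 1) hrD)) x).1 hxN) (inv_mem hxN)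
  have h3 : r * x * r⁻¹ * x⁻¹ ∈ zc T := by
    apply K.inf
    rcases Fin.exists_fin_two.1 ⟨i, rfl⟩ with h | h
    · rw [h] at h1 h2; exact ⟨h1, h2⟩
    · rw [h] at h1 h2; exact ⟨h2, h1⟩
  have hvi := D.mem i
  -- the four elements of `Y`
  have h4 : r * x * r⁻¹ * x⁻¹ = 1 ∨ r * x * r⁻¹ * x⁻¹ = v i ∨ r * x * r⁻¹ * x⁻¹ = v (i + 1) ∨
      r * x * r⁻¹ * x⁻¹ = v (i + 1) * v i := by
    have hc : v 0 * v 1 = v 1 * v 0 := D.comm (D.le 0 (D.mem 0)) (D.le 1 (D.mem 1))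
    have h01 : ∀ {y : G}, y = v 0 → y = v i ∨ y = v (i + 1) := by
      intro y hy
      rcases Fin.exists_fin_two.1 ⟨i, rfl⟩ with hi | hi
      · left; rw [hy, hi]
      · right; rw [hy, hi]; rfl
    have h11 : ∀ {y : G}, y = v 1 → y = v i ∨ y = v (i + 1) := by
      intro y hy
      rcases Fin.exists_fin_two.1 ⟨i, rfl⟩ with hi | hi
      · right; rw [hy, hi]; rfl
      · left; rw [hy, hi]
    have h21 : v 0 * v 1 = v (i + 1) * v i := by
      rcases Fin.exists_fin_two.1 ⟨i, rfl⟩ with hi | hi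
      · rw [hi]; exact hc
      · rw [hi]; rfl
    rcases (D.zT _).1 h3 with h | h | h | h
    · exact Or.inl h
    · rcases h01 h with h | h
      · exact Or.inr (Or.inl h)
      · exact Or.inr (Or.inr (Or.inl h))
    · rcases h11 h with h | h
      · exact Or.inr (Or.inl h)
      · exact Or.inr (Or.inr (Or.inl h))
    · exact Or.inr (Or.inr (Or.inr (h.trans h21)))
  -- not of the form `v (i+1) x'`, `x' ∈ U i`
  have key : ∀ x' ∈ U i, r * x * r⁻¹ ≠ v (i + 1) * x' := by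
    intro x' hx' he
    obtain ⟨l, -, -, -, hlx⟩ := D.tr i (i + 1) (ne_add_one i) x hx hx1
    by_cases hx'1 : x' = 1
    · rw [hx'1, mul_one] at he
      -- `r x r⁻¹ = v (i+1)`, `r` centralises `v (i+1)`: `x = v (i+1)`
      have h5 : r * v (i + 1) = v (i + 1) * r :=
        mem_centralizer_singleton_iff.1 (D.cent_zc_le (i + 1) hrD)
      have h6 : x = v (i + 1) := by
        calc x = r⁻¹ * (r * x * r⁻¹) * r := by group
          _ = r⁻¹ * (v (i + 1) * r) := by rw [he]; group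
          _ = v (i + 1) := by rw [← h5]; group
      have h7 : v (i + 1) ∈ U i ⊓ U (i + 1) := ⟨h6 ▸ hx, D.mem _⟩
      rw [D.inf i (i + 1) (ne_add_one i), mem_bot] at h7
      exact D.ne _ h7
    · obtain ⟨m, -, hm, -, hmx⟩ := D.tr i (i + 1) (ne_add_one i) x' hx' hx'1
      have h5 : m * v (i + 1) = v (i + 1) * m := (mem_centralizer_iff.1 hm _ (D.mem _)).symm
      have h6 : (m⁻¹ * r * l) * v i * (m⁻¹ * r * l)⁻¹ = v 0 * v 1 := by
        have hc : v 0 * v 1 = v 1 * v 0 := D.comm (D.le 0 (D.mem 0)) (D.le 1 (D.mem 1))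
        have h7 : v (i + 1) * v i = v 0 * v 1 := by
          rcases Fin.exists_fin_two.1 ⟨i, rfl⟩ with hi | hi
          · rw [hi]; exact hc.symm
          · rw [hi]; rfl
        have e5 : m⁻¹ * v (i + 1) = v (i + 1) * m⁻¹ := by
          calc m⁻¹ * v (i + 1) = m⁻¹ * (v (i + 1) * m) * m⁻¹ := by group
            _ = m⁻¹ * (m * v (i + 1)) * m⁻¹ := by rw [h5]
            _ = v (i + 1) * m⁻¹ := by group
        calc (m⁻¹ * r * l) * v i * (m⁻¹ * r * l)⁻¹ = m⁻¹ * (r * (l * v i * l⁻¹) * r⁻¹) * m := by group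
          _ = m⁻¹ * (v (i + 1) * x') * m := by rw [hlx, he]
          _ = (m⁻¹ * v (i + 1)) * x' * m := by group
          _ = v (i + 1) * (m⁻¹ * x' * m) := by rw [e5]; group
          _ = v (i + 1) * v i := by rw [← hmx]; group
          _ = v 0 * v 1 := h7
      exact D.z_not_conj i _ h6
  have e : r * x * r⁻¹ = (r * x * r⁻¹ * x⁻¹) * x := by group
  rcases h4 with h | h | h | h
  · rw [e, h, one_mul]; exact hx
  · rw [e, h]; exact mul_mem hvi hx
  · rw [h] at e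
    exact absurd e (key x hx)
  · refine absurd ?_ (key _ (mul_mem hvi hx))
    rw [e, h, mul_assoc]

/-- **(4)**: distance 1 is impossible. -/
theorem false_of_dOne (K : DOne P T U v) (hII : NonLoc (CC v 0) (CC v 1)) : False := by
  refine D.step_f hII 0 (K.max _) ?_
  -- `C_G(Y) ≤ F N(U)`
  have h1 : centralizer (zc T : Set G) ≤ FF U v 0 ⊔ (CC v 0 ⊓ normalizer (U 0 : Set G)) := by
    intro d hd
    have hRC : NoFF.Basic.V (NU U v (0 + 1)) (CC v 0) ≤ CC v 0 := (D.V_le_KW K 0).trans fun r hr => hr.1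
    obtain ⟨f, hf, r, hr, rfl⟩ := exists_mul_of_mem_sup (hRC.trans (D.C_le_N_FF 0)) (K.gen 0 (D.cent_zc_le 0 hd))
    have hrD : r ∈ centralizer (zc T : Set G) := by
      have := mul_mem (inv_mem (D.FF_le_D 0 hf)) hd
      have e : f⁻¹ * (f * r) = r := by group
      rwa [e] at this
    have hrK := D.V_le_KW K 0 hr
    refine mul_mem (mem_sup_left hf) (mem_sup_right (mem_inf.2 ⟨hRC hr, mem_normalizer_iff.2 ?_⟩))
    intro x
    refine ⟨fun hx => D.conj_mem_U K hrD hrK hx, fun hx => ?_⟩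
    have h2 := D.conj_mem_U K (inv_mem hrD) (inv_mem hrK) hx
    have e : r⁻¹ * (r * x * r⁻¹) * r⁻¹⁻¹ = x := by group
    rwa [e] at h2
  refine (K.max 0).trans (sup_le h1 ?_)
  refine le_sup_of_le_right (le_inf ?_ ?_)
  · exact inf_le_right.trans (centralizer_le (Set.singleton_subset_iff.2 (D.mem _)))
  · exact inf_le_right.trans (centralizer_le_normalizer _)

end Sit

end Cfsg.Agent.Omega.OM.KTwo

end

section


/-!
# NO-3S, `k = 2`, `q = 2`, case (II), distance 1: the module facts (helper609 #16177 (4))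

* `OOrth C N r q B` : `C` acts on the elementary abelian group `N` as the full isometry group of the quadratic form
  `q` (polar form `B`, radical `⟨r⟩`, `q r = 1`), i.e. as `O_{2n+1}(2)`;
* `OOrth.tra` : the stabiliser of the singular vector `u₀` is transitive on the singular vectors of `u₀^⊥ - ⟨u₀⟩`;
* `Sit.dOne` : `OOrth` for `C_G(v i)` on `N i` (radical `v i`) and an element of `N (i+1)` acting on `N i` as the
  transvection with centre `v 0 v 1` give `DOne`; `Sit.false_of_oorth`.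
-/

set_option autoImplicit false
set_option linter.unusedSectionVars false

namespace Cfsg.Agent.Omega.OM.KTwo

open Subgroup Cfsg Cfsg.Agent.ZN Cfsg.Agent.Omega.MinPar
open Cfsg.Agent.Omega.NO3S Cfsg.Agent.Omega.FrameNOFF
open Cfsg.Agent.Omega.NoFF.Basic (conj_conj mem_conj conj_le_iff conj_le_centralizer comm_symm comm_mono
  Z_le_V V_le conj_V_mul)
open Cfsg.Agent.Omega.NOThreeL.Pair (conj_eq_of_mem)
open Cfsg.Agent.MinSimple.VModule (mem_zc)
open scoped Pointwise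

universe u

variable {G : Type u} [Group G]

/-- `g` acts on `N` as the transvection with centre `u r` (`u` singular). -/
def Tv (N : Subgroup G) (r : G) (B : G → G → ZMod 2) (u g : G) : Prop :=
  ∀ x ∈ N, (B x u = 0 → g * x * g⁻¹ = x) ∧ (B x u = 1 → g * x * g⁻¹ = x * (u * r))

/-- **`C` acts on `N` as `O_{2n+1}(2)`.** -/
structure OOrth (C N : Subgroup G) (r : G) (q : G → ZMod 2) (B : G → G → ZMod 2) : Prop where
  nor : ∀ c ∈ C, ∀ x ∈ N, c * x * c⁻¹ ∈ N
  comm : ∀ x ∈ N, ∀ y ∈ N, x * y = y * x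
  sq : ∀ x ∈ N, x * x = 1
  q_mul : ∀ x ∈ N, ∀ y ∈ N, q (x * y) = q x + q y + B x y
  B_mul : ∀ x ∈ N, ∀ y ∈ N, ∀ w ∈ N, B (x * y) w = B x w + B y w
  symm : ∀ x ∈ N, ∀ y ∈ N, B x y = B y x
  q_conj : ∀ c ∈ C, ∀ x ∈ N, q (c * x * c⁻¹) = q x
  r_mem : r ∈ N
  q_r : q r = 1
  B_r : ∀ x ∈ N, B x r = 0
  rad : ∀ x ∈ N, (∀ y ∈ N, B x y = 0) → x = 1 ∨ x = r
  tv : ∀ u ∈ N, q u = 0 → ∃ g ∈ C, Tv N r B u g
  gen : C ≤ (C ⊓ centralizer (N : Set G)) ⊔ closure {g | g ∈ C ∧ ∃ u ∈ N, q u = 0 ∧ Tv N r B u g}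

theorem zmod_two (a : ZMod 2) : a = 0 ∨ a = 1 := by
  revert a
  decide

namespace OOrth

variable {C N : Subgroup G} {r : G} {q : G → ZMod 2} {B : G → G → ZMod 2} (O : OOrth C N r q B)

include O

theorem B_mul' {x y w : G} (hx : x ∈ N) (hy : y ∈ N) (hw : w ∈ N) : B w (x * y) = B w x + B w y := by
  rw [O.symm w hw _ (mul_mem hx hy), O.B_mul x hx y hy w hw, O.symm x hx w hw, O.symm y hy w hw]

theorem B_one {x : G} (hx : x ∈ N) : B 1 x = 0 := by
  have h := O.B_mul 1 (one_mem N) 1 (one_mem N) x hx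
  rw [mul_one] at h
  rcases zmod_two (B 1 x) with h1 | h1
  · exact h1
  · rw [h1] at h
    exact absurd h (by decide)

theorem q_one : q 1 = 0 := by
  have h := O.q_mul 1 (one_mem N) 1 (one_mem N)
  rw [mul_one, O.B_one (one_mem N), add_zero] at h
  rcases zmod_two (q 1) with h1 | h1
  · exact h1
  · rw [h1] at h
    exact absurd h (by decide)

theorem B_self {x : G} (hx : x ∈ N) : B x x = 0 := by
  have h := O.q_mul x hx x hx
  rw [O.sq x hx, O.q_one] at h
  rcases zmod_two (B x x) with h1 | h1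
  · exact h1
  · rcases zmod_two (q x) with h2 | h2
    · rw [h1, h2] at h; exact absurd h (by decide)
    · rw [h1, h2] at h; exact absurd h (by decide)

theorem B_r' {x : G} (hx : x ∈ N) : B r x = 0 := by rw [O.symm r O.r_mem x hx, O.B_r x hx]

theorem r_ne : r ≠ 1 := fun h => by
  have h1 := O.q_r
  rw [h, O.q_one] at h1
  exact absurd h1 (by decide)

theorem q_mul_r {x : G} (hx : x ∈ N) : q (x * r) = q x + 1 := by
  rw [O.q_mul x hx r O.r_mem, O.q_r, O.B_r x hx, add_zero]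

theorem B_mul_r {x y : G} (hx : x ∈ N) (hy : y ∈ N) : B (x * r) y = B x y := by
  rw [O.B_mul x hx r O.r_mem y hy, O.B_r' hy, add_zero]

theorem B_conj {c x y : G} (hc : c ∈ C) (hx : x ∈ N) (hy : y ∈ N) : B (c * x * c⁻¹) (c * y * c⁻¹) = B x y := by
  have h1 := O.q_mul _ (O.nor c hc x hx) _ (O.nor c hc y hy)
  have h2 := O.q_mul x hx y hy
  have e : c * x * c⁻¹ * (c * y * c⁻¹) = c * (x * y) * c⁻¹ := by group
  rw [e, O.q_conj c hc _ (mul_mem hx hy), O.q_conj c hc x hx, O.q_conj c hc y hy, h2] at h1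
  exact (add_left_cancel h1).symm

/-- one of `x`, `x r` is singular -/
theorem exists_sing {x : G} (hx : x ∈ N) : ∃ x' ∈ N, q x' = 0 ∧ (x' = x ∨ x' = x * r) ∧ ∀ y ∈ N, B x' y = B x y := by
  rcases zmod_two (q x) with h | h
  · exact ⟨x, hx, h, Or.inl rfl, fun _ _ => rfl⟩
  · refine ⟨x * r, mul_mem hx O.r_mem, ?_, Or.inr rfl, fun y hy => O.B_mul_r hx hy⟩
    rw [O.q_mul_r hx, h]
    decide

/-- a singular vector `≠ 1` is not orthogonal to everything -/
theorem exists_B {u : G} (hu : u ∈ N) (hq : q u = 0) (hu1 : u ≠ 1) : ∃ y ∈ N, B y u = 1 := by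
  by_contra hcon
  push Not at hcon
  rcases O.rad u hu fun y hy => by
    rcases zmod_two (B u y) with h | h
    · exact h
    · exact absurd ((O.symm y hy u hu).trans h) (hcon y hy) with h | h
  · exact hu1 h
  · rw [h, O.q_r] at hq
    exact absurd hq (by decide)

/-- `B(·, y)` vanishing on `u^⊥` is `0` or `B(·, u)` -/
theorem eq_of_perp {u y : G} (hu : u ∈ N) (hy : y ∈ N) (h : ∀ x ∈ N, B x u = 0 → B x y = 0) :
    y = 1 ∨ y = r ∨ y = u ∨ y = u * r := by
  by_cases h1 : ∀ x ∈ N, B x y = 0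
  · rcases O.rad y hy fun x hx => (O.symm y hy x hx).trans (h1 x hx) with h2 | h2
    · exact Or.inl h2
    · exact Or.inr (Or.inl h2)
  push Not at h1
  obtain ⟨a, ha, ha1⟩ := h1
  have ha2 : B a y = 1 := (zmod_two _).resolve_left ha1
  have ha3 : B a u = 1 := (zmod_two _).resolve_left fun h3 => ha1 (h a ha h3)
  have h2 : ∀ x ∈ N, B (u * y) x = 0 := by
    intro x hx
    rw [O.B_mul u hu y hy x hx, O.symm u hu x hx, O.symm y hy x hx]
    rcases zmod_two (B x u) with h3 | h3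
    · rw [h3, h x hx h3, add_zero]
    · have h4 : B (x * a) u = 0 := by
        rw [O.B_mul x hx a ha u hu, h3, ha3]
        decide
      have h5 := h _ (mul_mem hx ha) h4
      rw [O.B_mul x hx a ha y hy, ha2] at h5
      rw [h3]
      rcases zmod_two (B x y) with h6 | h6
      · rw [h6] at h5
        exact absurd h5 (by decide)
      · rw [h6]
        decide
  have e : y = u * (u * y) := by rw [← mul_assoc, O.sq u hu, one_mul]
  rcases O.rad _ (mul_mem hu hy) h2 with h3 | h3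
  · right; right; left
    rw [e, h3, mul_one]
  · right; right; right
    rw [e, h3]

/-- a functional not vanishing on `u₀^⊥` -/
theorem exists_perp {u₀ u : G} (h0 : u₀ ∈ N) (hq0 : q u₀ = 0) (hu : u ∈ N) (hq : q u = 0) (hu1 : u ≠ 1)
    (hu0 : u ≠ u₀) : ∃ x ∈ N, B x u₀ = 0 ∧ B x u = 1 := by
  by_contra hcon
  push Not at hcon
  rcases O.eq_of_perp h0 hu fun x hx hx0 => (zmod_two _).resolve_right (hcon x hx hx0) with h | h | h | h
  · exact hu1 h
  · rw [h, O.q_r] at hq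
    exact absurd hq (by decide)
  · exact hu0 h
  · rw [h, O.q_mul_r h0, hq0] at hq
    exact absurd hq (by decide)

/-- two noncollinear singular vectors of `u₀^⊥` are conjugate under `C(u₀)` -/
theorem conj_of_one {u₀ u u' : G} (h0 : u₀ ∈ N) (hu : u ∈ N) (hq : q u = 0) (hu' : u' ∈ N) (hq' : q u' = 0)
    (hB0 : B u₀ u = 0) (hB0' : B u₀ u' = 0) (hB : B u u' = 1) :
    ∃ g ∈ C, g * u₀ * g⁻¹ = u₀ ∧ g * u * g⁻¹ = u' := by
  have hw : u * u' * r ∈ N := mul_mem (mul_mem hu hu') O.r_mem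
  have hqw : q (u * u' * r) = 0 := by
    rw [O.q_mul_r (mul_mem hu hu'), O.q_mul u hu u' hu', hq, hq', hB]
    decide
  obtain ⟨g, hg, ht⟩ := O.tv _ hw hqw
  have hBw : ∀ x ∈ N, B x (u * u' * r) = B x u + B x u' := by
    intro x hx
    rw [O.B_mul' (mul_mem hu hu') O.r_mem hx, O.B_r x hx, add_zero, O.B_mul' hu hu' hx]
  refine ⟨g, hg, (ht u₀ h0).1 ?_, ?_⟩
  · rw [hBw u₀ h0, hB0, hB0', add_zero]
  · rw [(ht u hu).2 (by rw [hBw u hu, O.B_self hu, hB, zero_add])]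
    have e1 : u * u' * r * r = u * u' := by rw [mul_assoc, O.sq r O.r_mem, mul_one]
    rw [e1, ← mul_assoc, O.sq u hu, one_mul]

/-- **the stabiliser of `u₀` is transitive on the singular vectors of `u₀^⊥ - ⟨u₀⟩`** -/
theorem tra {u₀ u u' : G} (h0 : u₀ ∈ N) (hq0 : q u₀ = 0) (hu : u ∈ N) (hq : q u = 0) (hu' : u' ∈ N) (hq' : q u' = 0)
    (hB0 : B u₀ u = 0) (hB0' : B u₀ u' = 0) (hu1 : u ≠ 1) (hu1' : u' ≠ 1) (hu0 : u ≠ u₀) (hu0' : u' ≠ u₀) :
    ∃ g ∈ C, g * u₀ * g⁻¹ = u₀ ∧ g * u * g⁻¹ = u' := by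
  obtain ⟨a, ha, ha0, ha1⟩ := O.exists_perp h0 hq0 hu hq hu1 hu0
  obtain ⟨b, hb, hb0, hb1⟩ := O.exists_perp h0 hq0 hu' hq' hu1' hu0'
  obtain ⟨x, hx, hx0, hx1, hx1'⟩ : ∃ x ∈ N, B x u₀ = 0 ∧ B x u = 1 ∧ B x u' = 1 := by
    rcases zmod_two (B a u') with h | h
    · rcases zmod_two (B b u) with h' | h'
      · refine ⟨a * b, mul_mem ha hb, ?_, ?_, ?_⟩
        · rw [O.B_mul a ha b hb _ h0, ha0, hb0, add_zero]
        · rw [O.B_mul a ha b hb _ hu, ha1, h', add_zero]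
        · rw [O.B_mul a ha b hb _ hu', h, hb1, zero_add]
      · exact ⟨b, hb, hb0, h', hb1⟩
    · exact ⟨a, ha, ha0, ha1, h⟩
  obtain ⟨x', hx', hqx, -, hBx⟩ := O.exists_sing hx
  obtain ⟨g, hg, hg0, hgx⟩ := O.conj_of_one h0 hu hq hx' hqx hB0
    (by rw [O.symm _ h0 _ hx', hBx _ h0, hx0]) (by rw [O.symm _ hu _ hx', hBx _ hu, hx1])
  obtain ⟨g', hg', hg0', hgx'⟩ := O.conj_of_one h0 hx' hqx hu' hq'
    (by rw [O.symm _ h0 _ hx', hBx _ h0, hx0]) hB0' (by rw [hBx _ hu', hx1'])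
  refine ⟨g' * g, mul_mem hg' hg, ?_, ?_⟩
  · calc g' * g * u₀ * (g' * g)⁻¹ = g' * (g * u₀ * g⁻¹) * g'⁻¹ := by group
      _ = u₀ := by rw [hg0, hg0']
  · calc g' * g * u * (g' * g)⁻¹ = g' * (g * u * g⁻¹) * g'⁻¹ := by group
      _ = u' := by rw [hgx, hgx']

/-- an isometry trivial on `u₀^⊥` is `1` or the transvection with centre `u₀ r` -/
theorem eq_of_fix {u₀ g x : G} (h0 : u₀ ∈ N) (hq0 : q u₀ = 0) (hg : g ∈ C)
    (hfix : ∀ w ∈ N, B w u₀ = 0 → g * w * g⁻¹ = w) (hx : x ∈ N) :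
    g * x * g⁻¹ * x⁻¹ = 1 ∨ g * x * g⁻¹ * x⁻¹ = u₀ * r := by
  rcases zmod_two (B x u₀) with hB | hB
  · left
    rw [hfix x hx hB, mul_inv_cancel]
  have hgx : g * x * g⁻¹ ∈ N := O.nor g hg x hx
  have hy : g * x * g⁻¹ * x⁻¹ ∈ N := mul_mem hgx (inv_mem hx)
  have hinv : x⁻¹ = x := inv_eq_of_mul_eq_one_left (O.sq x hx)
  have hxy : g * x * g⁻¹ = x * (g * x * g⁻¹ * x⁻¹) := by
    rw [O.comm x hx _ hy]; group
  have hperp : ∀ w ∈ N, B w u₀ = 0 → B w (g * x * g⁻¹ * x⁻¹) = 0 := by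
    intro w hw hw0
    have h1 := O.B_conj hg hw hx
    rw [hfix w hw hw0, hxy, O.B_mul' hx hy hw] at h1
    have h2 : B w x + B w (g * x * g⁻¹ * x⁻¹) = B w x + 0 := by rw [h1, add_zero]
    exact add_left_cancel h2
  have hqq : q (g * x * g⁻¹ * x⁻¹) + B x (g * x * g⁻¹ * x⁻¹) = 0 := by
    have h1 := O.q_conj g hg x hx
    rw [hxy, O.q_mul x hx _ hy] at h1
    have h2 : q x + (q (g * x * g⁻¹ * x⁻¹) + B x (g * x * g⁻¹ * x⁻¹)) = q x + 0 := by
      rw [← add_assoc, h1, add_zero]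
    exact add_left_cancel h2
  rcases O.eq_of_perp h0 hy hperp with h | h | h | h
  · exact Or.inl h
  · exfalso
    rw [h, O.q_r, O.B_r x hx] at hqq
    exact absurd hqq (by decide)
  · exfalso
    rw [h, hq0, hB] at hqq
    exact absurd hqq (by decide)
  · exact Or.inr h

/-- an element of `C` acting nontrivially and trivially on `u₀^⊥` acts as the transvection -/
theorem tv_of_fix {u₀ g : G} (h0 : u₀ ∈ N) (hq0 : q u₀ = 0) (hg : g ∈ C)
    (hfix : ∀ w ∈ N, B w u₀ = 0 → g * w * g⁻¹ = w) (hne : ∃ x ∈ N, g * x * g⁻¹ ≠ x) : Tv N r B u₀ g := by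
  obtain ⟨a, ha, hga⟩ := hne
  have haB : B a u₀ = 1 := (zmod_two _).resolve_left fun h => hga (hfix a ha h)
  have hr : ∀ x ∈ N, g * x * g⁻¹ * x⁻¹ = u₀ * r → g * x * g⁻¹ = x * (u₀ * r) := by
    intro x hx h
    rw [O.comm x hx _ (mul_mem h0 O.r_mem), ← h]
    group
  have ha1 : g * a * g⁻¹ * a⁻¹ = u₀ * r := (O.eq_of_fix h0 hq0 hg hfix ha).resolve_left fun h => hga (by
    calc g * a * g⁻¹ = g * a * g⁻¹ * a⁻¹ * a := by group
      _ = a := by rw [h, one_mul])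
  refine fun x hx => ⟨hfix x hx, fun hB => hr x hx ?_⟩
  refine (O.eq_of_fix h0 hq0 hg hfix hx).resolve_left fun h => hga ?_
  -- `x a ∈ u₀^⊥`
  have h1 : g * x * g⁻¹ = x := by
    calc g * x * g⁻¹ = g * x * g⁻¹ * x⁻¹ * x := by group
      _ = x := by rw [h, one_mul]
  have h2 : g * (x * a) * g⁻¹ = x * a := hfix _ (mul_mem hx ha) (by
    rw [O.B_mul x hx a ha _ h0, hB, haB]; decide)
  calc g * a * g⁻¹ = (g * x * g⁻¹)⁻¹ * (g * (x * a) * g⁻¹) := by group
    _ = a := by rw [h1, h2]; group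

end OOrth

/-- The module hypotheses of (4). -/
structure OHyp (T : Subgroup G) (U : Fin 2 → Subgroup G) (v : Fin 2 → G) (q : Fin 2 → G → ZMod 2)
    (B : Fin 2 → G → G → ZMod 2) : Prop where
  orth : ∀ i, OOrth (CC v i) (NU U v i) (v i) (q i) (B i)
  sing : ∀ i, q i (v (i + 1)) = 0
  /-- some element of `N (i+1)` acts nontrivially on `N i` and trivially on `v (i+1)^⊥` -/
  tv : ∀ i, ∃ y ∈ NU U v (i + 1), y ∈ CC v i ∧ Tv (NU U v i) (v i) (B i) (v (i + 1)) y

namespace Sit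

variable [Finite G] {S : Sylow 2 G} {P T : Subgroup G} {U : Fin 2 → Subgroup G} {v : Fin 2 → G}
  (D : Sit S P T U v) {q : Fin 2 → G → ZMod 2} {B : Fin 2 → G → G → ZMod 2} (H : OHyp T U v q B)

include D

theorem mem_D_of {i : Fin 2} {g : G} (hg : g ∈ CC v i) (h : g * v (i + 1) * g⁻¹ = v (i + 1)) :
    g ∈ centralizer (zc T : Set G) := by
  have h1 : g ∈ CC v (i + 1) := by
    rw [mem_centralizer_singleton_iff]
    calc g * v (i + 1) = g * v (i + 1) * g⁻¹ * g := by group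
      _ = v (i + 1) * g := by rw [h]
  apply D.CC_inf
  rcases Fin.exists_fin_two.1 ⟨i, rfl⟩ with hi | hi
  · rw [hi] at hg h1; exact ⟨hg, h1⟩
  · rw [hi] at hg h1; exact ⟨h1, hg⟩

theorem D_fix (i : Fin 2) {g : G} (hg : g ∈ centralizer (zc T : Set G)) : g * v i * g⁻¹ = v i := by
  have h := mem_centralizer_singleton_iff.1 (D.cent_zc_le i hg)
  rw [h]; group

include H

/-- the elements `≠ 1` of `U (i+1)` are singular in `N i` -/
theorem sing_U {i : Fin 2} {w : G} (hw : w ∈ U (i + 1)) : q i w = 0 := by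
  have O := H.orth i
  by_cases hw1 : w = 1
  · rw [hw1]; exact O.q_one
  obtain ⟨l, -, hl, -, hlw⟩ := D.tr (i + 1) i (ne_add_one i).symm w hw hw1
  have hlC : l ∈ CC v i := (centralizer_le (Set.singleton_subset_iff.2 (D.mem i))) hl
  rw [← hlw, O.q_conj l hlC _ (D.mem_N i)]
  exact H.sing i

theorem B_U {i : Fin 2} {w w' : G} (hw : w ∈ U (i + 1)) (hw' : w' ∈ U (i + 1)) : B i w w' = 0 := by
  have O := H.orth i
  have h := O.q_mul w (D.U_le_N i hw) w' (D.U_le_N i hw')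
  rw [D.sing_U H hw, D.sing_U H hw', D.sing_U H (mul_mem hw hw'), add_zero, zero_add] at h
  exact h.symm

/-- `U (i+1)` contains a second singular vector -/
theorem exists_second (i : Fin 2) : ∃ w ∈ U (i + 1), w ≠ 1 ∧ w ≠ v (i + 1) := by
  by_contra hcon
  push Not at hcon
  have h1 : (U (i + 1) : Set G) ⊆ {1, v (i + 1)} := by
    intro x hx
    by_cases hx1 : x = 1
    · exact Or.inl hx1
    · exact Or.inr (hcon x hx hx1)
  have h2 := Nat.card_mono (Set.toFinite {1, v (i + 1)}) h1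
  have h3 : Nat.card (({1, v (i + 1)} : Set G)) ≤ 2 := by
    rw [Nat.card_coe_set_eq]
    exact Set.ncard_insert_le _ _ |>.trans (by rw [Set.ncard_singleton])
  have h4 := D.four (i + 1)
  have h5 : Nat.card ((U (i + 1) : Set G)) = 4 := h4
  omega

/-- all singular vectors orthogonal to `v (i+1)` lie in `LU i` -/
theorem sing_mem {i : Fin 2} {u : G} (hu : u ∈ NU U v i) (hq : q i u = 0) (hB : B i u (v (i + 1)) = 0) :
    u ∈ LU T U i := by
  have O := H.orth i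
  have hle : U (i + 1) ≤ LU T U i := le_V _ _
  by_cases hu1 : u = 1
  · rw [hu1]; exact one_mem _
  by_cases hu0 : u = v (i + 1)
  · rw [hu0]; exact hle (D.mem _)
  obtain ⟨w, hw, hw1, hw0⟩ := D.exists_second H i
  obtain ⟨g, hg, hg0, hgw⟩ := O.tra (D.mem_N i) (H.sing i) (D.U_le_N i hw) (D.sing_U H hw) hu hq
    (by rw [O.symm _ (D.mem_N i) _ (D.U_le_N i hw)]; exact D.B_U H hw (D.mem _))
    (by rw [O.symm _ (D.mem_N i) _ hu]; exact hB) hw1 hu1 hw0 hu0
  have hgD := D.mem_D_of hg hg0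
  apply Z_le_V hgD
  rw [mem_conj, ← hgw]
  have e : g⁻¹ * (g * w * g⁻¹) * g = w := by group
  rwa [e]

theorem rad_mem (i : Fin 2) : v i ∈ LU T U i := by
  have O := H.orth i
  obtain ⟨w, hw, hw1, hw0⟩ := D.exists_second H i
  have hwN := D.U_le_N i hw
  obtain ⟨x, hx, hx0, hx1⟩ := O.exists_perp (D.mem_N i) (H.sing i) hwN (D.sing_U H hw) hw1 hw0
  obtain ⟨x', hx', hqx, -, hBx⟩ := O.exists_sing hx
  have h1 : x' ∈ LU T U i := D.sing_mem H hx' hqx (by rw [hBx _ (D.mem_N i), hx0])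
  have h2 : w ∈ LU T U i := le_V _ _ hw
  have hxw : x' * w ∈ NU U v i := mul_mem hx' hwN
  have hr : v i ∈ NU U v i := O.r_mem
  have h3 : x' * w * v i ∈ LU T U i := by
    apply D.sing_mem H (mul_mem hxw hr)
    · rw [O.q_mul_r hxw, O.q_mul _ hx' _ hwN, hqx, D.sing_U H hw, hBx _ hwN, hx1]
      decide
    · rw [O.B_mul_r hxw (D.mem_N i), O.B_mul _ hx' _ hwN _ (D.mem_N i), hBx _ (D.mem_N i), hx0,
        D.B_U H hw (D.mem _), add_zero]
  have h4 := mul_mem (inv_mem (mul_mem h1 h2)) h3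
  have e : (x' * w)⁻¹ * (x' * w * v i) = v i := by group
  rwa [e] at h4

/-- `v (i+1)^⊥ ≤ LU i` -/
theorem perp_mem {i : Fin 2} {x : G} (hx : x ∈ NU U v i) (hB : B i x (v (i + 1)) = 0) : x ∈ LU T U i := by
  have O := H.orth i
  obtain ⟨x', hx', hqx, hor, hBx⟩ := O.exists_sing hx
  have h1 : x' ∈ LU T U i := D.sing_mem H hx' hqx (by rw [hBx _ (D.mem_N i), hB])
  rcases hor with h | h
  · rwa [← h]
  · have h2 := mul_mem h1 (inv_mem (D.rad_mem H i))
    rw [h, mul_inv_cancel_right] at h2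
    exact h2

theorem max_C (i : Fin 2) : CC v i ≤ centralizer (zc T : Set G) ⊔ (P ⊓ centralizer (U i : Set G)) := by
  have O := H.orth i
  have hMC : P ⊓ centralizer (U i : Set G) ≤ CC v i :=
    inf_le_right.trans (centralizer_le (Set.singleton_subset_iff.2 (D.mem i)))
  have hKC : centralizer (zc T : Set G) ⊔ (P ⊓ centralizer (U i : Set G)) ≤ CC v i := sup_le (D.cent_zc_le i) hMC
  -- (a) `U (i+1)`
  have ha : ∀ w ∈ U (i + 1), w ≠ 1 →
      ∃ k ∈ centralizer (zc T : Set G) ⊔ (P ⊓ centralizer (U i : Set G)), k * v (i + 1) * k⁻¹ = w := by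
    intro w hw hw1
    obtain ⟨l, hlP, hl, -, hlw⟩ := D.tr (i + 1) i (ne_add_one i).symm w hw hw1
    exact ⟨l, mem_sup_right ⟨hlP, hl⟩, hlw⟩
  -- (b) the singular vectors orthogonal to `v (i+1)`
  have hb : ∀ u ∈ NU U v i, q i u = 0 → u ≠ 1 → B i u (v (i + 1)) = 0 →
      ∃ k ∈ centralizer (zc T : Set G) ⊔ (P ⊓ centralizer (U i : Set G)), k * v (i + 1) * k⁻¹ = u := by
    intro u hu hq hu1 hB
    by_cases hu0 : u = v (i + 1)
    · exact ⟨1, one_mem _, by rw [hu0]; group⟩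
    obtain ⟨w, hw, hw1, hw0⟩ := D.exists_second H i
    obtain ⟨g, hg, hg0, hgw⟩ := O.tra (D.mem_N i) (H.sing i) (D.U_le_N i hw) (D.sing_U H hw) hu hq
      (by rw [O.symm _ (D.mem_N i) _ (D.U_le_N i hw)]; exact D.B_U H hw (D.mem _))
      (by rw [O.symm _ (D.mem_N i) _ hu]; exact hB) hw1 hu1 hw0 hu0
    obtain ⟨k, hk, hkw⟩ := ha w hw hw1
    refine ⟨g * k, mul_mem (mem_sup_left (D.mem_D_of hg hg0)) hk, ?_⟩
    calc g * k * v (i + 1) * (g * k)⁻¹ = g * (k * v (i + 1) * k⁻¹) * g⁻¹ := by group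
      _ = u := by rw [hkw, hgw]
  -- (c) all singular vectors
  have hc : ∀ u ∈ NU U v i, q i u = 0 → u ≠ 1 →
      ∃ k ∈ centralizer (zc T : Set G) ⊔ (P ⊓ centralizer (U i : Set G)), k * v (i + 1) * k⁻¹ = u := by
    intro u hu hq hu1
    rcases zmod_two (B i u (v (i + 1))) with hB | hB
    · exact hb u hu hq hu1 hB
    -- a common neighbour in `U (i+1)`
    obtain ⟨w, hw, hw1, hwB⟩ : ∃ w ∈ U (i + 1), w ≠ 1 ∧ B i u w = 0 := by
      obtain ⟨w, hw, hw1, hw0⟩ := D.exists_second H i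
      rcases zmod_two (B i u w) with h | h
      · exact ⟨w, hw, hw1, h⟩
      · refine ⟨w * v (i + 1), mul_mem hw (D.mem _), fun h1 => hw0 ?_, ?_⟩
        · have h2 := mul_eq_one_iff_eq_inv.1 h1
          have h3 : (v (i + 1))⁻¹ = v (i + 1) := inv_eq_of_mul_eq_one_left (D.v_sq _)
          rw [h2, h3]
        · rw [O.B_mul' (D.U_le_N i hw) (D.mem_N i) hu, h, hB]
          decide
    obtain ⟨k, hk, hkw⟩ := ha w hw hw1
    have hkC : k⁻¹ ∈ CC v i := inv_mem (hKC hk)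
    have hkC' : k ∈ CC v i := hKC hk
    obtain ⟨k', hk', hkw'⟩ := hb (k⁻¹ * u * k⁻¹⁻¹) (O.nor _ hkC u hu) (by rw [O.q_conj _ hkC u hu, hq])
      (fun h => hu1 (conj_eq_one_iff.1 h)) (by
        have h1 := O.B_conj hkC' (O.nor _ hkC u hu) (D.mem_N i)
        have e : k * (k⁻¹ * u * k⁻¹⁻¹) * k⁻¹ = u := by group
        rw [e, hkw, hwB] at h1
        exact h1.symm)
    refine ⟨k * k', mul_mem hk hk', ?_⟩
    calc k * k' * v (i + 1) * (k * k')⁻¹ = k * (k' * v (i + 1) * k'⁻¹) * k⁻¹ := by group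
      _ = u := by rw [hkw']; group
  intro c hcC
  obtain ⟨k, hk, hkw⟩ := hc (c * v (i + 1) * c⁻¹) (O.nor c hcC _ (D.mem_N i))
    (by rw [O.q_conj c hcC _ (D.mem_N i)]; exact H.sing i) (fun h => D.ne _ (conj_eq_one_iff.1 h))
  have h1 : k⁻¹ * c ∈ centralizer (zc T : Set G) := by
    refine D.mem_D_of (mul_mem (inv_mem (hKC hk)) hcC) ?_
    calc k⁻¹ * c * v (i + 1) * (k⁻¹ * c)⁻¹ = k⁻¹ * (c * v (i + 1) * c⁻¹) * k := by group
      _ = v (i + 1) := by rw [← hkw]; group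
  have e : c = k * (k⁻¹ * c) := by group
  rw [e]
  exact mul_mem hk (mem_sup_left h1)

/-- every singular vector `≠ 1` of `N i` is conjugate to `v (i+1)` under `C_G(v i)` -/
theorem exists_conj {i : Fin 2} {u : G} (hu : u ∈ NU U v i) (hq : q i u = 0) (hu1 : u ≠ 1) :
    ∃ c ∈ CC v i, c * v (i + 1) * c⁻¹ = u := by
  have O := H.orth i
  rcases zmod_two (B i (v (i + 1)) u) with hB | hB
  · by_cases hu0 : u = v (i + 1)
    · exact ⟨1, one_mem _, by rw [hu0]; group⟩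
    obtain ⟨w, hw, hw1, hw0⟩ := D.exists_second H i
    obtain ⟨l, -, hl, -, hlw⟩ := D.tr (i + 1) i (ne_add_one i).symm w hw hw1
    have hlC : l ∈ CC v i := (centralizer_le (Set.singleton_subset_iff.2 (D.mem i))) hl
    obtain ⟨g, hg, -, hgw⟩ := O.tra (D.mem_N i) (H.sing i) (D.U_le_N i hw) (D.sing_U H hw) hu hq
      (by rw [O.symm _ (D.mem_N i) _ (D.U_le_N i hw)]; exact D.B_U H hw (D.mem _)) hB hw1 hu1 hw0 hu0
    refine ⟨g * l, mul_mem hg hlC, ?_⟩
    calc g * l * v (i + 1) * (g * l)⁻¹ = g * (l * v (i + 1) * l⁻¹) * g⁻¹ := by group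
      _ = u := by rw [hlw, hgw]
  · obtain ⟨g, hg, -, hgw⟩ := O.conj_of_one (one_mem _) (D.mem_N i) (H.sing i) hu hq
      (O.B_one (D.mem_N i)) (O.B_one hu) hB
    exact ⟨g, hg, hgw⟩

/-- **`OHyp` gives `DOne`.** -/
theorem dOne : DOne P T U v := by
  refine ⟨D.rad_mem H, ?_, ?_, ?_, D.max_C H⟩
  · intro i g hg hgL x hx
    have O := H.orth i
    have h1 := O.eq_of_fix (D.mem_N i) (H.sing i) hg (fun w hw hw0 => by
      have h2 := (mem_centralizer_iff.1 hgL w (D.perp_mem H hw hw0)).symm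
      rw [h2]; group) hx
    have hz : v (i + 1) * v i = v 0 * v 1 := by
      have hc : v 0 * v 1 = v 1 * v 0 := D.comm (D.le 0 (D.mem 0)) (D.le 1 (D.mem 1))
      rcases Fin.exists_fin_two.1 ⟨i, rfl⟩ with hi | hi
      · rw [hi]; exact hc.symm
      · rw [hi]; rfl
    rcases h1 with h | h
    · rw [h]; exact one_mem _
    · rw [h, hz]; exact mem_zpowers _
  · intro i
    have O := H.orth i
    refine O.gen.trans (sup_le le_sup_left ?_)
    rw [closure_le]
    rintro g ⟨hg, u, hu, hq, ht⟩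
    by_cases hu1 : u = 1
    · -- `B x 1 = 0`: `g` is trivial on `N i`
      refine mem_sup_left (mem_inf.2 ⟨hg, mem_centralizer_iff.2 ?_⟩)
      intro x hx
      have h1 := (ht x hx).1 (by rw [hu1, O.symm _ hx _ (one_mem _), O.B_one hx])
      calc x * g = g * x * g⁻¹ * g := by rw [h1]
        _ = g * x := by group
    obtain ⟨c, hc, hcu⟩ := D.exists_conj H hu hq hu1
    obtain ⟨y, hy, hyC, hty⟩ := H.tv i
    have hy' : c * y * c⁻¹ ∈ NoFF.Basic.V (NU U v (i + 1)) (CC v i) := by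
      apply Z_le_V hc
      rw [mem_conj]
      have e : c⁻¹ * (c * y * c⁻¹) * c = y := by group
      rwa [e]
    have hcy : c * y * c⁻¹ ∈ CC v i := mul_mem (mul_mem hc hyC) (inv_mem hc)
    have h1 : g * (c * y * c⁻¹)⁻¹ ∈ centralizer (NU U v i : Set G) := by
      have hci : c * v i * c⁻¹ = v i := by
        have h := mem_centralizer_singleton_iff.1 hc
        rw [h]; group
      -- `c y c⁻¹` is the transvection of `u`
      have h2 : ∀ x ∈ NU U v i, c * y * c⁻¹ * x * (c * y * c⁻¹)⁻¹ = g * x * g⁻¹ := by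
        intro x hx
        have hx' : c⁻¹ * x * c⁻¹⁻¹ ∈ NU U v i := O.nor _ (inv_mem hc) x hx
        have hBx : B i (c⁻¹ * x * c⁻¹⁻¹) (v (i + 1)) = B i x u := by
          have h3 := O.B_conj hc hx' (D.mem_N i)
          have e : c * (c⁻¹ * x * c⁻¹⁻¹) * c⁻¹ = x := by group
          rw [e, hcu] at h3
          exact h3.symm
        have e1 : c * y * c⁻¹ * x * (c * y * c⁻¹)⁻¹ = c * (y * (c⁻¹ * x * c⁻¹⁻¹) * y⁻¹) * c⁻¹ := by group
        rcases zmod_two (B i x u) with h | h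
        · rw [(ht x hx).1 h, e1, (hty _ hx').1 (hBx.trans h)]; group
        · rw [(ht x hx).2 h, e1, (hty _ hx').2 (hBx.trans h)]
          calc c * (c⁻¹ * x * c⁻¹⁻¹ * (v (i + 1) * v i)) * c⁻¹ =
              x * ((c * v (i + 1) * c⁻¹) * (c * v i * c⁻¹)) := by group
            _ = x * (u * v i) := by rw [hcu, hci]
      rw [mem_centralizer_iff]
      intro x hx
      have hx2 : (c * y * c⁻¹)⁻¹ * x * (c * y * c⁻¹)⁻¹⁻¹ ∈ NU U v i := O.nor _ (inv_mem hcy) x hx
      have h3 := h2 _ hx2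
      have e : c * y * c⁻¹ * ((c * y * c⁻¹)⁻¹ * x * (c * y * c⁻¹)⁻¹⁻¹) * (c * y * c⁻¹)⁻¹ = x := by group
      rw [e] at h3
      calc x * (g * (c * y * c⁻¹)⁻¹) = g * ((c * y * c⁻¹)⁻¹ * x * (c * y * c⁻¹)⁻¹⁻¹) * g⁻¹ * (g * (c * y * c⁻¹)⁻¹) := by
            rw [← h3]
        _ = g * (c * y * c⁻¹)⁻¹ * x := by group
    have h2 : g = g * (c * y * c⁻¹)⁻¹ * (c * y * c⁻¹) := by group
    rw [h2]
    exact mul_mem (mem_sup_left (mem_inf.2 ⟨mul_mem hg (inv_mem hcy), h1⟩)) (mem_sup_right hy')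
  · -- `N 0 ⊓ N 1 ≤ Y`
    rintro x ⟨hx0, hx1⟩
    by_contra hx
    have O := H.orth 0
    obtain ⟨y, hy, hyC, hty⟩ := H.tv 0
    -- `x ∈ v 1 ^⊥`
    have hB : B 0 x (v (0 + 1)) = 0 := by
      rcases zmod_two (B 0 x (v (0 + 1))) with h | h
      · exact h
      exfalso
      have h1 := (hty x hx0).2 h
      have h2 : y * x = x * y := mem_centralizer_iff.1 (D.N_comm (0 + 1) hx1) y hy
      have h3 : y * x * y⁻¹ = x := by rw [h2]; group
      rw [h3] at h1
      have h4 : v (0 + 1) * v 0 = 1 := (mul_eq_left.1 h1.symm)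
      have h5 := D.v_sq 0
      have h6 : v (0 + 1) = v 0 := by
        calc v (0 + 1) = v (0 + 1) * (v 0 * v 0) := by rw [h5, mul_one]
          _ = v (0 + 1) * v 0 * v 0 := by group
          _ = v 0 := by rw [h4, one_mul]
      have h7 : v 0 ∈ U 0 ⊓ U (0 + 1) := ⟨D.mem 0, h6 ▸ D.mem _⟩
      rw [D.inf 0 (0 + 1) (ne_add_one 0), mem_bot] at h7
      exact D.ne 0 h7
    obtain ⟨x', hx', hqx, hor, hBx⟩ := O.exists_sing hx0
    have hv0 : v 0 ∈ NU U v (0 + 1) := by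
      have := D.mem_N (0 + 1)
      rwa [add_one_add_one] at this
    have hx'N : x' ∈ NU U v (0 + 1) := by
      rcases hor with h | h
      · rw [h]; exact hx1
      · rw [h]; exact mul_mem hx1 hv0
    have hmemY : ∀ y ∈ zc T, y * v 0 ∈ zc T := fun y hy => mul_mem hy (D.v_mem_zc 0)
    have hx'Y : x' ∉ zc T := by
      intro h
      rcases hor with h1 | h1
      · exact hx (h1 ▸ h)
      · have h2 := hmemY _ h
        rw [h1, mul_assoc, D.v_sq, mul_one] at h2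
        exact hx h2
    -- all singular vectors of `v 1 ^⊥` lie in `N 1`
    have hU : U (0 + 1) ≤ NU U v (0 + 1) := by
      intro w hw
      by_cases hw1 : w = 1
      · rw [hw1]; exact one_mem _
      by_cases hw0 : w = v (0 + 1)
      · rw [hw0]
        exact D.rad_mem H (0 + 1) |> D.LU_le_N (0 + 1)
      obtain ⟨g, hg, hg0, hgw⟩ := O.tra (D.mem_N 0) (H.sing 0) hx' hqx (D.U_le_N 0 hw) (D.sing_U H hw)
        (by rw [O.symm _ (D.mem_N 0) _ hx', hBx _ (D.mem_N 0), hB])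
        (by rw [O.symm _ (D.mem_N 0) _ (D.U_le_N 0 hw)]; exact D.B_U H hw (D.mem _))
        (fun h => hx'Y (h ▸ one_mem _)) hw1 (fun h => hx'Y (h ▸ D.v_mem_zc _)) hw0
      have hgD := D.mem_D_of hg hg0
      rw [← hgw]
      exact (H.orth (0 + 1)).nor g (D.cent_zc_le _ hgD) x' hx'N
    -- a second vector of `U 1` is singular or nonsingular in `N 1`, fixed by `T`
    obtain ⟨w, hw, hw1, hw0⟩ := D.exists_second H 0
    have O1 := H.orth (0 + 1)
    obtain ⟨w', hw', hqw, horw, -⟩ := O1.exists_sing (hU hw)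
    have hfix : ∀ t ∈ T, t * w' * t⁻¹ = w' := by
      intro t ht
      have htC : t ∈ CC v (0 + 1) := D.T_le_C _ ht
      have htv : t * v (0 + 1) * t⁻¹ = v (0 + 1) := D.cen _ t ht
      have htN : t * w * t⁻¹ ∈ U (0 + 1) := (mem_normalizer_iff.1 (D.T_le_N (0 + 1) ht) w).1 hw
      -- `t w t⁻¹ ∈ {w, w v 1}`
      have h1 : t * w * t⁻¹ = w ∨ t * w * t⁻¹ = w * v (0 + 1) := by
        have hcard := D.four (0 + 1)
        have hne1 : t * w * t⁻¹ ≠ 1 := fun h => hw1 (conj_eq_one_iff.1 h)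
        rcases NO3S.eq_of_card_four hcard (fun a ha => D.U_sq _ a ha) hw hw1 (D.mem (0 + 1)) (D.ne _) hw0 htN hne1
          with h | h | h
        · exact Or.inl h
        · exfalso
          have h2 : w = v (0 + 1) := by
            calc w = t⁻¹ * (t * w * t⁻¹) * t := by group
              _ = t⁻¹ * (t * v (0 + 1) * t⁻¹) * t := by rw [h, htv]
              _ = v (0 + 1) := by group
          exact hw0 h2
        · exact Or.inr h
      have hw'1 : t * w' * t⁻¹ = w' ∨ t * w' * t⁻¹ = w' * v (0 + 1) := by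
        rcases horw with h | h
        · rw [h]; exact h1
        · have e : t * w' * t⁻¹ = (t * w * t⁻¹) * (t * v (0 + 1) * t⁻¹) := by rw [h]; group
          rw [e, htv, h]
          rcases h1 with h2 | h2
          · rw [h2]; exact Or.inl rfl
          · rw [h2]; exact Or.inr rfl
      refine hw'1.resolve_right fun h => ?_
      have h2 := O1.q_conj t htC w' hw'
      rw [h, O1.q_mul_r hw', hqw] at h2
      exact absurd h2 (by decide)
    have hw'Y : w' ∈ zc T := by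
      refine mem_zc.2 ⟨(D.N_le_Q _).trans (D.Q_le_T _) hw', fun t ht => ?_, ?_⟩
      · have h1 := hfix t ht
        calc t * w' = t * w' * t⁻¹ * t := by group
          _ = w' * t := by rw [h1]
      · rw [pow_two]; exact O1.sq w' hw'
    -- `w ∈ Y`
    have hwY : w ∈ zc T := by
      rcases horw with h | h
      · rw [← h]; exact hw'Y
      · have h2 := mul_mem hw'Y (D.v_mem_zc (0 + 1))
        rw [h, mul_assoc, D.v_sq, mul_one] at h2
        exact h2
    have hne : ∀ a ∈ U 0, a ∈ U (0 + 1) → a = 1 := by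
      intro a h1 h2
      have h3 : a ∈ U 0 ⊓ U (0 + 1) := ⟨h1, h2⟩
      rw [D.inf 0 (0 + 1) (ne_add_one 0), mem_bot] at h3
      exact h3
    rcases (D.zT w).1 hwY with h | h | h | h
    · exact hw1 h
    · exact hw1 (hne w (h ▸ D.mem 0) hw)
    · exact hw0 h
    · have h1 : v 0 ∈ U (0 + 1) := by
        have h2 := mul_mem hw (inv_mem (D.mem (0 + 1)))
        have e : w * (v (0 + 1))⁻¹ = v 0 := by
          rw [h]
          exact mul_inv_cancel_right _ _
        rwa [e] at h2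
      exact D.ne 0 (hne _ (D.mem 0) h1)

/-- **(4)**: the adjacent case for `O_{2n+1}(2)`. -/
theorem false_of_oorth (hII : NonLoc (CC v 0) (CC v 1)) : False := D.false_of_dOne (D.dOne H) hII

end Sit

end Cfsg.Agent.Omega.OM.KTwo

end

section


/-!
# The DELTA LEMMA for `O_{2n+1}(2)` and `Sp_{2n}(2)` (helper564 #15873 (D))

* `Dat.of_orth` : (R), from `OOrth C N r q B`, `Om` = the singular vectors;
* `Symp C N B` : `C` acts on `N` as `Sp_{2n}(2)`; `Symp.tra`; `Dat.of_symp` : (NR), `Om = N - 1`;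
* `OOrth.two`, `Symp.two` : `a^⊥` has no subgroup of index 2 invariant under the stabiliser of `a`
  ((R): containing `a` and `r`).
-/

set_option autoImplicit false
set_option linter.unusedSectionVars false

namespace Cfsg.Agent.Omega.OM.Delta

open Subgroup
open Cfsg.Agent.Omega.OM.KTwo (OOrth Tv)

universe u

variable {G : Type u} [Group G]

section orth

variable {C N : Subgroup G} {r : G} {q : G → ZMod 2} {B : G → G → ZMod 2} (O : OOrth C N r q B)

/-- the singular vectors -/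
def omR (N : Subgroup G) (q : G → ZMod 2) : Set G := {u | u ∈ N ∧ u ≠ 1 ∧ q u = 0}

include O

theorem frm_of_orth : Frm N r B where
  comm := O.comm
  sq := O.sq
  B_mul := O.B_mul
  symm := O.symm
  B_self := fun _ hx => O.B_self hx
  r_mem := O.r_mem
  B_r := O.B_r
  rad := O.rad

theorem Dat.of_orth {F : Subgroup G} {D : G → Subgroup G} (hbig : Big N r B) (hNF : N ≤ F)
    (hFc : ∀ x ∈ F, ∀ y ∈ F, x * y = y * x) (hFs : ∀ x ∈ F, x * x = 1) (hCF : ∀ c ∈ C, ∀ x ∈ F, c * x * c⁻¹ ∈ F)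
    (hD : ∀ b ∈ omR N q, D b ≤ C) (hDc : ∀ b ∈ omR N q, ∀ g ∈ C, ∀ d ∈ D b, g * d * g⁻¹ ∈ D (g * b * g⁻¹))
    (hDF : ∀ b ∈ omR N q, ∀ d ∈ D b, ∀ x ∈ F, d * x * d⁻¹ = x ∨ d * x * d⁻¹ = x * (b * r))
    (hDN : ∀ b ∈ omR N q, ∃ d ∈ D b, ∃ x ∈ N, d * x * d⁻¹ ≠ x)
    (hDZ : ∀ b ∈ omR N q, ∀ d ∈ D b, (∀ x ∈ N, d * x * d⁻¹ = x) → ∀ x ∈ F, d * x * d⁻¹ = x) :
    Dat C N F r (omR N q) B D where
  toFrm := frm_of_orth O
  N_le := hNF
  F_comm := hFc
  F_sq := hFs
  C_F := hCF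
  C_N := O.nor
  C_Om := fun c hc b hb => ⟨O.nor c hc b hb.1, fun e => hb.2.1 (by
    calc b = c⁻¹ * (c * b * c⁻¹) * c := by group
      _ = 1 := by rw [e]; group), by rw [O.q_conj c hc b hb.1, hb.2.2]⟩
  B_conj := fun _ hc _ hx _ hy => O.B_conj hc hx hy
  om_mem := fun _ hb => hb.1
  om_nr := fun b hb => ⟨hb.2.1, fun e => by
    have := hb.2.2
    rw [e, O.q_r] at this
    exact absurd this (by decide)⟩
  om_hyp := fun b hb b' hb' hB => by
    have hw := mul_mem hb.1 hb'.1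
    refine ⟨mul_mem hw O.r_mem, fun e => ?_, ?_⟩
    · have h1 : B (b * b' * r) b' = 1 := by
        rw [O.B_mul_r hw hb'.1, O.B_mul _ hb.1 _ hb'.1 _ hb'.1, hB, O.B_self hb'.1, add_zero]
      rw [e, O.B_one hb'.1] at h1
      exact absurd h1 (by decide)
    · rw [O.q_mul_r hw, O.q_mul _ hb.1 _ hb'.1, hb.2.2, hb'.2.2, hB]
      decide
  om_line := fun b hb b' hb' hB hne => by
    refine ⟨mul_mem hb.1 hb'.1, fun e => hne ?_, ?_⟩
    · calc b = b * (b' * b') := by rw [O.sq _ hb'.1, mul_one]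
        _ = b' := by rw [← mul_assoc, e, one_mul]
    · rw [O.q_mul _ hb.1 _ hb'.1, hb.2.2, hb'.2.2, hB]
      decide
  om_rep := fun x hx hn => by
    rcases zt (q x) with h | h
    · exact Or.inl ⟨hx, hn.1, h⟩
    · refine Or.inr ⟨mul_mem hx O.r_mem, fun e => hn.2 ?_, ?_⟩
      · calc x = x * (r * r) := by rw [O.sq r O.r_mem, mul_one]
          _ = r := by rw [← mul_assoc, e, one_mul]
      · rw [O.q_mul_r hx, h]
        decide
  om_uni := fun b hb hbr => by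
    have h1 := hbr.2.2
    rw [O.q_mul_r hb.1, hb.2.2] at h1
    exact absurd h1 (by decide)
  big := hbig
  D_le := hD
  D_conj := hDc
  D_F := hDF
  D_N := hDN
  D_cen := hDZ

/-- `a^⊥` has no subgroup of index 2 containing `a`, `r` and invariant under the stabiliser of `a` -/
theorem two_of_orth {a : G} (ha : a ∈ N) (hqa : q a = 0) {K : Subgroup G}
    (hKa : a ∈ K) (hKr : r ∈ K) (hKC : ∀ m ∈ C, m * a * m⁻¹ = a → ∀ x ∈ K, m * x * m⁻¹ ∈ K)
    (hK2 : ∀ x ∈ N, ∀ y ∈ N, B x a = 0 → B y a = 0 → x ∉ K → y ∉ K → x * y ∈ K) :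
    ∀ x ∈ N, B x a = 0 → x ∈ K := by
  -- all singular vectors of `a^⊥ - ⟨a⟩` or none
  by_cases hall : ∀ u ∈ N, q u = 0 → B u a = 0 → u ∈ K
  · intro x hx hxa
    obtain ⟨x', hx', hqx, hor, hBx⟩ := O.exists_sing hx
    have h1 := hall x' hx' hqx (by rw [hBx a ha, hxa])
    rcases hor with h | h
    · rwa [← h]
    · rw [h] at h1
      have := mul_mem h1 (inv_mem hKr)
      rwa [mul_inv_cancel_right] at this
  exfalso
  push Not at hall
  obtain ⟨u, hu, hqu, hua, huK⟩ := hall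
  have hu1 : u ≠ 1 := fun e => huK (by rw [e]; exact one_mem K)
  have hu0 : u ≠ a := fun e => huK (by rw [e]; exact hKa)
  have hnone : ∀ w ∈ N, q w = 0 → B w a = 0 → w ≠ 1 → w ≠ a → w ∉ K := by
    intro w hw hqw hwa hw1 hw0 hwK
    obtain ⟨g, hg, hg0, hgw⟩ := O.tra ha hqa hw hqw hu hqu (by rw [O.symm a ha w hw, hwa])
      (by rw [O.symm a ha u hu, hua]) hw1 hu1 hw0 hu0
    apply huK
    rw [← hgw]
    exact hKC g hg hg0 w hwK
  obtain ⟨y, hy, hya, hyu⟩ := O.exists_perp ha hqa hu hqu hu1 hu0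
  obtain ⟨w, hw, hqw, -, hBw⟩ := O.exists_sing hy
  have hwa : B w a = 0 := by rw [hBw a ha, hya]
  have hwu : B w u = 1 := by rw [hBw u hu, hyu]
  have hau : B a u = 0 := by rw [O.symm a ha u hu, hua]
  have hne : ∀ z ∈ N, B z u = 1 → z ≠ 1 ∧ z ≠ a := by
    intro z _ hzu
    refine ⟨fun e => ?_, fun e => ?_⟩
    · rw [e, O.B_one hu] at hzu
      exact absurd hzu (by decide)
    · rw [e, hau] at hzu
      exact absurd hzu (by decide)
  have hwK := hnone w hw hqw hwa (hne w hw hwu).1 (hne w hw hwu).2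
  have h1 := hK2 u hu w hw hua hwa huK hwK
  have huw := mul_mem hu hw
  have h2 : u * w * r ∈ K := mul_mem h1 hKr
  have h3 : B (u * w * r) u = 1 := by
    rw [O.B_mul_r huw hu, O.B_mul u hu w hw u hu, O.B_self hu, hwu, zero_add]
  have h4 := hne _ (mul_mem huw O.r_mem) h3
  refine hnone _ (mul_mem huw O.r_mem) ?_ ?_ h4.1 h4.2 h2
  · rw [O.q_mul_r huw, O.q_mul u hu w hw, hqu, hqw, O.symm u hu w hw, hwu]
    decide
  · rw [O.B_mul_r huw ha, O.B_mul u hu w hw a ha, hua, hwa, add_zero]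

end orth

/-- **`C` acts on `N` as `Sp_{2n}(2)`** (contains all transvections) -/
structure Symp (C N : Subgroup G) (B : G → G → ZMod 2) : Prop where
  nor : ∀ c ∈ C, ∀ x ∈ N, c * x * c⁻¹ ∈ N
  comm : ∀ x ∈ N, ∀ y ∈ N, x * y = y * x
  sq : ∀ x ∈ N, x * x = 1
  B_mul : ∀ x ∈ N, ∀ y ∈ N, ∀ w ∈ N, B (x * y) w = B x w + B y w
  symm : ∀ x ∈ N, ∀ y ∈ N, B x y = B y x
  B_self : ∀ x ∈ N, B x x = 0
  B_conj : ∀ c ∈ C, ∀ x ∈ N, ∀ y ∈ N, B (c * x * c⁻¹) (c * y * c⁻¹) = B x y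
  rad : ∀ x ∈ N, (∀ y ∈ N, B x y = 0) → x = 1
  tv : ∀ u ∈ N, u ≠ 1 → ∃ g ∈ C, Tv N 1 B u g

namespace Symp

variable {C N : Subgroup G} {B : G → G → ZMod 2} (O : Symp C N B)

/-- the nonzero vectors -/
def omN (N : Subgroup G) : Set G := {u | u ∈ N ∧ u ≠ 1}

include O

theorem frm : Frm N 1 B where
  comm := O.comm
  sq := O.sq
  B_mul := O.B_mul
  symm := O.symm
  B_self := O.B_self
  r_mem := one_mem N
  B_r := fun x hx => by
    have h := O.B_mul 1 (one_mem N) 1 (one_mem N) x hx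
    rw [mul_one] at h
    rw [O.symm x hx 1 (one_mem N)]
    exact (left_eq_add.1 h)
  rad := fun x hx h => Or.inl (O.rad x hx h)

theorem dat {F : Subgroup G} {D : G → Subgroup G} (hbig : Big N 1 B) (hNF : N ≤ F)
    (hFc : ∀ x ∈ F, ∀ y ∈ F, x * y = y * x) (hFs : ∀ x ∈ F, x * x = 1) (hCF : ∀ c ∈ C, ∀ x ∈ F, c * x * c⁻¹ ∈ F)
    (hD : ∀ b ∈ omN N, D b ≤ C) (hDc : ∀ b ∈ omN N, ∀ g ∈ C, ∀ d ∈ D b, g * d * g⁻¹ ∈ D (g * b * g⁻¹))
    (hDF : ∀ b ∈ omN N, ∀ d ∈ D b, ∀ x ∈ F, d * x * d⁻¹ = x ∨ d * x * d⁻¹ = x * b)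
    (hDN : ∀ b ∈ omN N, ∃ d ∈ D b, ∃ x ∈ N, d * x * d⁻¹ ≠ x)
    (hDZ : ∀ b ∈ omN N, ∀ d ∈ D b, (∀ x ∈ N, d * x * d⁻¹ = x) → ∀ x ∈ F, d * x * d⁻¹ = x) :
    Dat C N F 1 (omN N) B D where
  toFrm := O.frm
  N_le := hNF
  F_comm := hFc
  F_sq := hFs
  C_F := hCF
  C_N := O.nor
  C_Om := fun c hc b hb => ⟨O.nor c hc b hb.1, fun e => hb.2 (by
    calc b = c⁻¹ * (c * b * c⁻¹) * c := by group
      _ = 1 := by rw [e]; group)⟩
  B_conj := O.B_conj
  om_mem := fun _ hb => hb.1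
  om_nr := fun b hb => ⟨hb.2, hb.2⟩
  om_hyp := fun b hb b' hb' hB => by
    rw [mul_one]
    refine ⟨mul_mem hb.1 hb'.1, fun e => ?_⟩
    have h1 : b = b' := by
      calc b = b * (b' * b') := by rw [O.sq _ hb'.1, mul_one]
        _ = b' := by rw [← mul_assoc, e, one_mul]
    rw [h1, O.B_self b' hb'.1] at hB
    exact absurd hB (by decide)
  om_line := fun b hb b' hb' _ hne => by
    refine ⟨mul_mem hb.1 hb'.1, fun e => hne ?_⟩
    calc b = b * (b' * b') := by rw [O.sq _ hb'.1, mul_one]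
      _ = b' := by rw [← mul_assoc, e, one_mul]
  om_rep := fun x hx hn => Or.inl ⟨hx, hn.1⟩
  om_uni := fun _ _ _ => rfl
  big := hbig
  D_le := hD
  D_conj := hDc
  D_F := fun b hb d hd x hx => by rw [mul_one]; exact hDF b hb d hd x hx
  D_N := hDN
  D_cen := hDZ

/-- two vectors `u, u'` with `B u u' = 1` of `u₀^⊥` are conjugate under `C(u₀)` -/
theorem conj_of_one {u₀ u u' : G} (h0 : u₀ ∈ N) (hu : u ∈ N) (hu' : u' ∈ N)
    (hB0 : B u₀ u = 0) (hB0' : B u₀ u' = 0) (hB : B u u' = 1) :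
    ∃ g ∈ C, g * u₀ * g⁻¹ = u₀ ∧ g * u * g⁻¹ = u' := by
  have hF := O.frm
  have hw : u * u' ∈ N := mul_mem hu hu'
  have hBw : ∀ x ∈ N, B x (u * u') = B x u + B x u' := fun x hx => hF.B_mul' hu hu' hx
  have hw1 : u * u' ≠ 1 := fun e => by
    have h1 := hBw u hu
    rw [e, hF.B_one' hu, O.B_self u hu, hB] at h1
    exact absurd h1 (by decide)
  obtain ⟨g, hg, ht⟩ := O.tv _ hw hw1
  refine ⟨g, hg, (ht u₀ h0).1 ?_, ?_⟩
  · rw [hBw u₀ h0, hB0, hB0', add_zero]
  · rw [(ht u hu).2 (by rw [hBw u hu, O.B_self u hu, hB, zero_add]), mul_one, ← mul_assoc, O.sq u hu, one_mul]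

/-- **the stabiliser of `u₀` is transitive on `u₀^⊥ - ⟨u₀⟩`** -/
theorem tra {u₀ u u' : G} (h0 : u₀ ∈ N) (hu : u ∈ N) (hu' : u' ∈ N) (hB0 : B u₀ u = 0) (hB0' : B u₀ u' = 0)
    (hu1 : u ≠ 1) (hu1' : u' ≠ 1) (hu0 : u ≠ u₀) (hu0' : u' ≠ u₀) :
    ∃ g ∈ C, g * u₀ * g⁻¹ = u₀ ∧ g * u * g⁻¹ = u' := by
  have hF := O.frm
  obtain ⟨x, hx, hx0, hx1, hx1'⟩ := hF.exists_link h0 hu hu' hu1 hu1 hu0 (by rw [mul_one]; exact hu0) hu1' hu1'
    hu0' (by rw [mul_one]; exact hu0')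
  obtain ⟨g, hg, hg0, hgx⟩ := O.conj_of_one h0 hu hx hB0 (by rw [O.symm _ h0 _ hx, hx0])
    (by rw [O.symm _ hu _ hx, hx1])
  obtain ⟨g', hg', hg0', hgx'⟩ := O.conj_of_one h0 hx hu' (by rw [O.symm _ h0 _ hx, hx0]) hB0' hx1'
  refine ⟨g' * g, mul_mem hg' hg, ?_, ?_⟩
  · calc g' * g * u₀ * (g' * g)⁻¹ = g' * (g * u₀ * g⁻¹) * g'⁻¹ := by group
      _ = u₀ := by rw [hg0, hg0']
  · calc g' * g * u * (g' * g)⁻¹ = g' * (g * u * g⁻¹) * g'⁻¹ := by group
      _ = u' := by rw [hgx, hgx']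

/-- `a^⊥` has no subgroup of index 2 invariant under the stabiliser of `a` -/
theorem two (hbig : Big N 1 B) {a : G} (ha : a ∈ N) (ha1 : a ≠ 1) {K : Subgroup G}
    (hKC : ∀ m ∈ C, m * a * m⁻¹ = a → ∀ x ∈ K, m * x * m⁻¹ ∈ K)
    (hK2 : ∀ x ∈ N, ∀ y ∈ N, B x a = 0 → B y a = 0 → x ∉ K → y ∉ K → x * y ∈ K) :
    ∀ x ∈ N, B x a = 0 → x ∈ K := by
  have hF := O.frm
  obtain ⟨u, hu, hua, nu, nua⟩ := hbig a ha ⟨ha1, ha1⟩
  have hne := hF.nr_mul_ne ha nua
  have key : ∀ w ∈ N, B w a = 0 → w ≠ 1 → w ≠ a → ∀ w' ∈ N, B w' a = 0 → w' ≠ 1 → w' ≠ a → w ∈ K → w' ∈ K := by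
    intro w hw hwa hw1 hw0 w' hw' hwa' hw1' hw0' hwK
    obtain ⟨g, hg, hg0, hgw⟩ := O.tra ha hw hw' (by rw [O.symm a ha w hw, hwa]) (by rw [O.symm a ha w' hw', hwa'])
      hw1 hw1' hw0 hw0'
    rw [← hgw]
    exact hKC g hg hg0 w hwK
  by_cases huK : u ∈ K
  · have h1 : ∀ x ∈ N, B x a = 0 → x ≠ 1 → x ≠ a → x ∈ K := fun x hx hxa hx1 hx0 =>
      key u hu hua nu.1 hne.1 x hx hxa hx1 hx0 huK
    intro x hx hxa
    by_cases hx1 : x = 1
    · rw [hx1]; exact one_mem K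
    by_cases hx0 : x = a
    · have h2 : u * a ∈ K := h1 _ (mul_mem hu ha) (by rw [O.B_mul u hu a ha a ha, hua, O.B_self a ha, add_zero])
        nua.1 (fun e => nu.1 (mul_eq_right.1 e))
      have h3 := mul_mem (inv_mem huK) h2
      rw [inv_mul_cancel_left] at h3
      rwa [hx0]
    · exact h1 x hx hxa hx1 hx0
  exfalso
  obtain ⟨w, hw, hwa, hwu, -⟩ := hF.exists_link ha hu hu nu.1 nu.2 hne.1 hne.2 nu.1 nu.2 hne.1 hne.2
  have hau : B a u = 0 := by rw [O.symm a ha u hu, hua]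
  have hn : ∀ z ∈ N, B z u = 1 → z ≠ 1 ∧ z ≠ a := by
    intro z _ hzu
    refine ⟨fun e => ?_, fun e => ?_⟩
    · rw [e, hF.B_one hu] at hzu
      exact absurd hzu (by decide)
    · rw [e, hau] at hzu
      exact absurd hzu (by decide)
  have hwK : w ∉ K := fun h1 => huK (key w hw hwa (hn w hw hwu).1 (hn w hw hwu).2 u hu hua nu.1 hne.1 h1)
  have h1 := hK2 u hu w hw hua hwa huK hwK
  have huw := mul_mem hu hw
  have h3 : B (u * w) u = 1 := by rw [O.B_mul u hu w hw u hu, O.B_self u hu, hwu, zero_add]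
  have h4 := hn _ huw h3
  exact huK (key _ huw (by rw [O.B_mul u hu w hw a ha, hua, hwa, add_zero]) h4.1 h4.2 u hu hua nu.1 hne.1 h1)

end Symp

end Cfsg.Agent.Omega.OM.Delta

end

section


/-!
# THEOREM TV without fixed vector: every transvection is induced, or `Sp_{2n}(2)`

`h : GSys C N r`, a 2-group `T ≤ C` with `C_N(T) ≤ {1, r}`, a nontrivial transvection `t` with centre `r` which
centralises `p`, where `p`, `r p` are conjugate to `r`: all elements `≠ 1` of `N` are conjugate to `r`, and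
`AllTv C N` or `Symp C N B`.

* `symp_or`; `tv_of` : in `Symp C N B` an element of `C` with `[N, g] ≤ ⟨s⟩` acts as the transvection with centre `s`;
* `symp_conj`.
-/

set_option autoImplicit false

namespace Cfsg.Agent.Omega.NO3S.Sym.SympOf

open Subgroup Module Cfsg.Agent.Omega.TV
open Cfsg.Agent.Omega.OM.KTwo (Tv)
open Cfsg.Agent.Omega.OM.Delta (Symp zt)

universe u

variable {G : Type u} [Group G]

theorem symp_or [Finite G] {C N T : Subgroup G} {r p t : G} (h : GSys C N r) (hTC : T ≤ C) (hT : IsPGroup 2 T)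
    (hfix : ∀ n ∈ N, (∀ t ∈ T, t * n * t⁻¹ = n) → n = 1 ∨ n = r)
    (ht : t ∈ C) (htn : ∀ n ∈ N, t * n * t⁻¹ = n ∨ t * n * t⁻¹ = n * r) (hne : ∃ n ∈ N, t * n * t⁻¹ ≠ n)
    (hp : ∃ c ∈ C, p = c * r * c⁻¹) (hrp : ∃ c ∈ C, r * p = c * r * c⁻¹) (htp : t * p * t⁻¹ = p) :
    (∀ x ∈ N, x ≠ 1 → ∃ c ∈ C, c * r * c⁻¹ = x) ∧
      (AllTv C N ∨ ∃ B : G → G → ZMod 2, Symp C N B) := by
  classical
  have hsys := h.toSys ht htn hne
  have hne0 := hne
  obtain ⟨c, hc, rfl⟩ := hp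
  obtain ⟨d, hd, hd'⟩ := hrp
  have hpN : c * r * c⁻¹ ∈ N := h.nor c hc r h.mem
  obtain ⟨φ, hφ, hfn⟩ := h.exists_fn h.mem h.ne ht htn
  have hne' : φ ≠ 0 := by
    rintro rfl
    obtain ⟨n, hn, e⟩ := hne
    apply e
    have h1 := hφ (EA.mk h.sq n hn)
    rw [LinearMap.zero_apply, zero_smul, add_zero] at h1
    exact congrArg EA.val h1
  have h0 : φ (EA.mk h.sq _ hpN) = 0 := by
    by_contra hcon
    have h1 := hφ (EA.mk h.sq _ hpN)
    rw [z2_ne_zero hcon, one_smul] at h1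
    have h2 := congrArg EA.val h1
    rw [h.val_rep, EA.val_add, EA.val_mk, EA.val_mk] at h2
    have h3 : t * (c * r * c⁻¹) * t⁻¹ = c * r * c⁻¹ * r := h2
    rw [htp] at h3
    exact h.ne (by simpa using h3)
  have hadd := hsys.add_mem_of_near h.mem_pts_r (p := EA.mk h.sq _ hpN) ⟨c, hc, rfl⟩
    ⟨d, hd, hd'⟩ hfn hne' h0
  have hclo := hsys.clo_of hadd
  have hS : IsPGroup 2 (T.subgroupOf C) := hT.comap_of_injective C.subtype C.subtype_injective
  have hall := hsys.near_all hclo hS h.mem_pts_r (fun v hv => by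
    rcases hfix v.val v.val_mem (fun x hx => congrArg EA.val (hv ⟨x, hTC hx⟩ hx)) with e | e
    · exact Or.inl (EA.ext e)
    · exact Or.inr (EA.ext e))
  have hpt : ∀ v : EA N h.sq, v ≠ 0 → v ∈ h.pts := fun v hv => hsys.all_mem hclo h.mem_pts_r hall hv
  refine ⟨fun x hx hx1 => ?_, ?_⟩
  · obtain ⟨c, hc, e⟩ := hpt (EA.mk h.sq x hx) (fun e => hx1 (EA.val_eq_one.2 e))
    exact ⟨c, hc, e.symm⟩
  rcases hsys.small_or_big with hs | hb
  swap
  · exact Or.inl (h.allTv ht htn hne0 hb hclo hall)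
  right
  obtain ⟨f, hf⟩ := hsys.exists_form hs
  let B : G → G → ZMod 2 := fun x y =>
    if hxy : x ∈ N ∧ y ∈ N then f (EA.mk h.sq x hxy.1) (EA.mk h.sq y hxy.2) else 0
  have hB : ∀ x (hx : x ∈ N) y (hy : y ∈ N), B x y = f (EA.mk h.sq x hx) (EA.mk h.sq y hy) :=
    fun x hx y hy => dif_pos ⟨hx, hy⟩
  refine ⟨B, ?_⟩
  exact
    { nor := h.nor
      comm := fun x hx y hy => EA.comm_of h.sq hx hy
      sq := h.sq
      B_mul := fun x hx y hy w hw => by
        rw [hB _ (mul_mem hx hy) w hw, hB x hx w hw, hB y hy w hw]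
        have e : EA.mk h.sq (x * y) (mul_mem hx hy) = EA.mk h.sq x hx + EA.mk h.sq y hy := rfl
        rw [e, map_add, LinearMap.add_apply]
      symm := fun x hx y hy => by rw [hB x hx y hy, hB y hy x hx, hf.comm]
      B_self := fun x hx => by rw [hB x hx x hx, hf.alt]
      B_conj := fun c hc x hx y hy => by
        rw [hB _ (h.nor c hc x hx) _ (h.nor c hc y hy), hB x hx y hy]
        exact hf.inv ⟨c, hc⟩ (EA.mk h.sq x hx) (EA.mk h.sq y hy)
      rad := fun x hx h1 => by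
        by_contra hx1
        apply hf.ne (EA.mk h.sq x hx) (hpt _ fun e => hx1 (EA.val_eq_one.2 e))
        refine LinearMap.ext fun y => ?_
        rw [LinearMap.zero_apply]
        have h2 := h1 y.val y.val_mem
        rw [hB x hx y.val y.val_mem] at h2
        exact h2
      tv := fun u hu hu1 => by
        obtain ⟨-, g, hg⟩ := hf.fn (EA.mk h.sq u hu) (hpt _ fun e => hu1 (EA.val_eq_one.2 e))
        refine ⟨g, g.2, fun x hx => ?_⟩
        have h1 := hg (EA.mk h.sq x hx)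
        have h2 : f (EA.mk h.sq u hu) (EA.mk h.sq x hx) = B x u := by
          rw [hf.comm, hB x hx u hu]
        rw [h2] at h1
        refine ⟨fun h3 => ?_, fun h3 => ?_⟩
        · rw [h3, zero_smul, add_zero] at h1
          exact congrArg EA.val h1
        · rw [h3, one_smul] at h1
          rw [mul_one]
          exact congrArg EA.val h1 }

section symp

variable {C N : Subgroup G} {B : G → G → ZMod 2} (O : Symp C N B)

include O

/-- a nontrivial element of `C` with `[N, g] ≤ ⟨s⟩` is the transvection with centre `s` -/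
theorem tv_of {s g : G} (hs : s ∈ N) (hg : g ∈ C) (hact : ∀ n ∈ N, g * n * g⁻¹ = n ∨ g * n * g⁻¹ = n * s)
    (hne : ∃ n ∈ N, g * n * g⁻¹ ≠ n) : Tv N 1 B s g := by
  have hF := O.frm
  obtain ⟨a, ha, hga⟩ := hne
  have hga' := (hact a ha).resolve_left hga
  have hs1 : s ≠ 1 := fun e => hga (by rw [hga', e, mul_one])
  have h1 : ∀ x ∈ N, g * x * g⁻¹ = x → B x s = 0 := by
    intro x hx e
    have h2 := O.B_conj g hg x hx a ha
    rw [e, hga', hF.B_mul' ha hs hx] at h2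
    have h3 : B x a + B x s = B x a + 0 := by rw [h2, add_zero]
    exact add_left_cancel h3
  have h2 : ∀ x ∈ N, g * x * g⁻¹ = x * s → B x s = B a s := by
    intro x hx e
    have h3 := h1 _ (mul_mem hx ha) (by
      calc g * (x * a) * g⁻¹ = (g * x * g⁻¹) * (g * a * g⁻¹) := by group
        _ = x * (s * a) * s := by rw [e, hga']; group
        _ = x * a * (s * s) := by rw [O.comm s hs a ha]; group
        _ = x * a := by rw [O.sq s hs, mul_one])
    rw [O.B_mul x hx a ha s hs] at h3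
    rcases zt (B x s) with e1 | e1 <;> rcases zt (B a s) with e2 | e2 <;> rw [e1, e2] at h3 <;>
      first | exact absurd h3 (by decide) | rw [e1, e2]
  have h3 : B a s = 1 := by
    rcases zt (B a s) with e | e
    · exfalso
      apply hs1
      refine O.rad s hs fun y hy => ?_
      rw [O.symm s hs y hy]
      rcases hact y hy with e1 | e1
      · exact h1 y hy e1
      · rw [h2 y hy e1, e]
    · exact e
  refine fun x hx => ⟨fun e => ?_, fun e => ?_⟩
  · rcases hact x hx with e1 | e1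
    · exact e1
    · rw [h2 x hx e1, h3] at e
      exact absurd e (by decide)
  · rw [mul_one]
    rcases hact x hx with e1 | e1
    · rw [h1 x hx e1] at e
      exact absurd e (by decide)
    · exact e1

end symp

/-- conjugation -/
theorem symp_conj {C N C' N' : Subgroup G} {B : G → G → ZMod 2} (O : Symp C N B) {g : G}
    (hC : ∀ c, c ∈ C' ↔ g⁻¹ * c * g ∈ C) (hN : ∀ x, x ∈ N' ↔ g⁻¹ * x * g ∈ N) :
    Symp C' N' fun x y => B (g⁻¹ * x * g) (g⁻¹ * y * g) where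
  nor := fun c hc x hx => by
    rw [hN] at hx ⊢
    have h1 := O.nor _ ((hC c).1 hc) _ hx
    have e : g⁻¹ * (c * x * c⁻¹) * g = g⁻¹ * c * g * (g⁻¹ * x * g) * (g⁻¹ * c * g)⁻¹ := by group
    rwa [e]
  comm := fun x hx y hy => by
    have h1 := O.comm _ ((hN x).1 hx) _ ((hN y).1 hy)
    calc x * y = g * ((g⁻¹ * x * g) * (g⁻¹ * y * g)) * g⁻¹ := by group
      _ = g * ((g⁻¹ * y * g) * (g⁻¹ * x * g)) * g⁻¹ := by rw [h1]
      _ = y * x := by group
  sq := fun x hx => by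
    have h1 := O.sq _ ((hN x).1 hx)
    calc x * x = g * ((g⁻¹ * x * g) * (g⁻¹ * x * g)) * g⁻¹ := by group
      _ = 1 := by rw [h1]; group
  B_mul := fun x hx y hy w hw => by
    have h1 := O.B_mul _ ((hN x).1 hx) _ ((hN y).1 hy) _ ((hN w).1 hw)
    have e : g⁻¹ * (x * y) * g = g⁻¹ * x * g * (g⁻¹ * y * g) := by group
    rw [e]; exact h1
  symm := fun x hx y hy => O.symm _ ((hN x).1 hx) _ ((hN y).1 hy)
  B_self := fun x hx => O.B_self _ ((hN x).1 hx)
  B_conj := fun c hc x hx y hy => by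
    have h1 := O.B_conj _ ((hC c).1 hc) _ ((hN x).1 hx) _ ((hN y).1 hy)
    have e : ∀ x, g⁻¹ * (c * x * c⁻¹) * g = g⁻¹ * c * g * (g⁻¹ * x * g) * (g⁻¹ * c * g)⁻¹ := fun x => by group
    rw [e x, e y]; exact h1
  rad := fun x hx h1 => by
    have h2 := O.rad _ ((hN x).1 hx) (fun y hy => by
      have h3 := h1 (g * y * g⁻¹) ((hN _).2 (by
        have e : g⁻¹ * (g * y * g⁻¹) * g = y := by group
        rwa [e]))
      have e : g⁻¹ * (g * y * g⁻¹) * g = y := by group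
      rwa [e] at h3)
    calc x = g * (g⁻¹ * x * g) * g⁻¹ := by group
      _ = 1 := by rw [h2]; group
  tv := fun u hu hu1 => by
    obtain ⟨c, hc, h1⟩ := O.tv _ ((hN u).1 hu) (fun e => hu1 (by
      calc u = g * (g⁻¹ * u * g) * g⁻¹ := by group
        _ = 1 := by rw [e]; group))
    refine ⟨g * c * g⁻¹, (hC _).2 (by
      have e : g⁻¹ * (g * c * g⁻¹) * g = c := by group
      rwa [e]), fun x hx => ?_⟩
    have h2 := h1 _ ((hN x).1 hx)
    have e : g * c * g⁻¹ * x * (g * c * g⁻¹)⁻¹ = g * (c * (g⁻¹ * x * g) * c⁻¹) * g⁻¹ := by group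
    refine ⟨fun h3 => ?_, fun h3 => ?_⟩
    · rw [e, h2.1 h3]; group
    · rw [e, h2.2 h3]; group

end Cfsg.Agent.Omega.NO3S.Sym.SympOf

end

section


/-!
# Case (E), two centres: LEMMA 0 / QP, (COMP) and THEOREM C (helper997 #19092, helper173 #19764, helper33 #19461)

Abstract part (any `q`, any frame):
* `Compl.le_or_le_sup` : LEMMA QP. `T ≤ D ≤ H`, `N_H(T) ≤ D`, every `R ∈ P(T)`, `R ≤ H`, `R ≰ D` generates `H` together
  with `D`, `X ⊴ H`: `X ≤ D` or `H = X D`;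
* `Compl.le_centralizer_of_le` : `X ⊴ H`, `X ≤ C(u)`: `X` centralises `⟨A ^ H⟩` for `A ≤ ⟨u ^ H⟩`;
* `Compl.le_normalizer` : (COMP). `C₁ ⊆ C₂ N_{C₁}(L)`, `C₂ = ⟨D, M⟩`, `M` transitive on the points `Z ^ m` of `L`: `C₁`
  normalises `⟨Z ^ C₂⟩`;
* `Compl.comm_le` : averaging (Gaschuetz). `K` normalises `Y` and `Z ≤ Y`, `[u, K] ≤ Y`, `T ≤ K` of odd index, `M ≤ K`,
  `[u, T] [u, M] ≤ Z`, and `y ∈ Y`, `[y, T] [y, M] ≤ Z` only for `y ∈ Z`: then `[u, K] ≤ Z`.

In the frame `Sit` (`k = 2`, `q = 2`):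
* `Sit.comp` : `U i ^ c ∈ U i ^ D` for all `c ∈ C_G(v i)` is impossible (`D = C_G(Y)`);
* `Sit.qp` : `X ⊴ C_G(v i)` moves `N i`: `C_G(v i) = X D`;
* `Sit.not_le_normalizer` : moreover `X` does not normalise `U i` (STEP F+);
* `Sit.thmC` : **THEOREM C.**
-/

set_option autoImplicit false
set_option linter.unusedSectionVars false

namespace Cfsg.Agent.Omega.OM.KTwo

open Subgroup Cfsg Cfsg.Agent.ZN Cfsg.Agent.Omega.MinPar
open Cfsg.Agent.Omega.NO3S Cfsg.Agent.Omega.FrameNOFF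
open Cfsg.Agent.MinSimple.MinParabolic
open Cfsg.Agent.Omega.NoFF.Basic (conj_conj mem_conj conj_le_iff conj_le_centralizer comm_symm comm_mono
  Z_le_V V_le conj_V_mul)
open Cfsg.Agent.Omega.NOThreeL.Pair (conj_eq_of_mem)
open Cfsg.Agent.ZN.ChoiceSit (Syl)
open Cfsg.Agent.MinSimple.VModule (mem_zc)
open scoped Pointwise

universe u

variable {G : Type u} [Group G]

namespace Compl

/-! ### Abstract part -/

/-- **LEMMA QP / LEMMA 0.** -/
theorem le_or_le_sup [Finite G] {T D H X : Subgroup G} (hTD : T ≤ D) (hXH : X ≤ H) (hTH : T ≤ H)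
    (hN : H ⊓ normalizer (T : Set G) ≤ D)
    (hR : ∀ R : Subgroup G, IsMinPar T R → R ≤ H → ¬ R ≤ D → H ≤ D ⊔ R) :
    X ≤ D ∨ H ≤ X ⊔ D := by
  by_cases h : ∀ R : Subgroup G, IsMinPar T R → R ≤ X ⊔ T → R ≤ D
  · left
    have hXT : X ⊔ T ≤ H := sup_le hXH hTH
    exact le_sup_left.trans (MinSimple.MinParabolic.le_of_forall (S := T) le_sup_right
      ((inf_le_inf_right _ hXT).trans hN) h)
  · right
    push Not at h
    obtain ⟨R, hR1, hR2, hR3⟩ := h
    exact (hR R hR1 (hR2.trans (sup_le hXH hTH)) hR3).trans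
      (sup_le le_sup_right (hR2.trans (sup_le le_sup_left (hTD.trans le_sup_right))))

/-- `X ⊴ H` centralises `u`, `A ≤ ⟨u ^ H⟩` elementwise: `X` centralises `⟨A ^ H⟩` -/
theorem le_centralizer_of_le {X H A : Subgroup G} {u : G} (hX : H ≤ normalizer (X : Set G))
    (hu : ∀ x ∈ X, x * u * x⁻¹ = u) (hA : ∀ a ∈ A, a ≠ 1 → ∃ l ∈ H, l * u * l⁻¹ = a) :
    X ≤ centralizer (NoFF.Basic.V A H : Set G) := by
  apply comm_symm
  refine V_le fun c hc => ?_
  intro y hy
  rw [mem_conj] at hy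
  rw [mem_centralizer_iff]
  intro x hx
  by_cases h1 : c⁻¹ * y * c = 1
  · have e : y = 1 := by
      have := congrArg (fun t => c * t * c⁻¹) h1
      simpa [mul_assoc] using this
    rw [e]; simp
  obtain ⟨l, hl, hlu⟩ := hA _ hy h1
  have hcl : c * l ∈ H := mul_mem hc hl
  have hx' : (c * l)⁻¹ * x * (c * l) ∈ X := by
    have := (mem_normalizer_iff.1 (hX (inv_mem hcl)) x).1 hx
    rwa [inv_inv] at this
  have h2 := hu _ hx'
  have h3 : y = (c * l) * u * (c * l)⁻¹ := by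
    have : y = c * (c⁻¹ * y * c) * c⁻¹ := by group
    rw [this, ← hlu]
    group
  have h4 : x * y * x⁻¹ = y := by
    calc x * y * x⁻¹ = (c * l) * (((c * l)⁻¹ * x * (c * l)) * u * ((c * l)⁻¹ * x * (c * l))⁻¹) * (c * l)⁻¹ := by
          rw [h3]; group
      _ = y := by rw [h2, ← h3]
  calc x * y = x * y * x⁻¹ * x := by group
    _ = y * x := by rw [h4]

/-- **(COMP).** -/
theorem le_normalizer {C₁ C₂ D M L Z : Subgroup G} (hZ : ∀ g, g ∈ C₁ ↔ MulAut.conj g • Z = Z)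
    (hD1 : D ≤ C₁) (hM2 : M ≤ C₂) (hC2 : C₂ ≤ D ⊔ M) (hML : M ≤ normalizer (L : Set G))
    (hdec : ∀ c ∈ C₁, ∃ f ∈ C₂, ∃ n ∈ normalizer (L : Set G), c = f * n)
    (htr : ∀ g ∈ normalizer (L : Set G), ∃ l ∈ M, MulAut.conj l • Z = MulAut.conj g • Z) :
    C₁ ≤ normalizer (NoFF.Basic.V Z C₂ : Set G) := by
  have hM : ∀ m ∈ M, ∀ c ∈ C₁, ∃ x ∈ C₂, ∃ c' ∈ C₁, c * m = x * c' := by
    intro m hm c hc
    obtain ⟨f, hf, n, hn, rfl⟩ := hdec c hc
    obtain ⟨l, hl, hlZ⟩ := htr (n * m) (mul_mem hn (hML hm))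
    refine ⟨f * l, mul_mem hf (hM2 hl), l⁻¹ * (n * m), (hZ _).2 ?_, by group⟩
    rw [← conj_conj, ← hlZ, conj_conj, inv_mul_cancel, map_one, one_smul]
  have hA : ∀ y ∈ D ⊔ M, ∀ c ∈ C₁, ∃ x ∈ C₂, ∃ c' ∈ C₁, c * y = x * c' := by
    intro y hy
    rw [← closure_eq D, ← closure_eq M, ← Subgroup.closure_union] at hy
    induction hy using closure_induction'' with
    | mem x hx =>
      intro c hc
      rcases hx with hx | hx
      · exact ⟨1, one_mem _, c * x, mul_mem hc (hD1 hx), by group⟩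
      · exact hM x hx c hc
    | inv_mem x hx =>
      intro c hc
      rcases hx with hx | hx
      · exact ⟨1, one_mem _, c * x⁻¹, mul_mem hc (inv_mem (hD1 hx)), by group⟩
      · exact hM x⁻¹ (inv_mem hx) c hc
    | one => exact fun c hc => ⟨1, one_mem _, c, hc, by group⟩
    | mul x y _ _ h1 h2 =>
      intro c hc
      obtain ⟨x₁, hx₁, c₁, hc₁, e₁⟩ := h1 c hc
      obtain ⟨x₂, hx₂, c₂, hc₂, e₂⟩ := h2 c₁ hc₁
      refine ⟨x₁ * x₂, mul_mem hx₁ hx₂, c₂, hc₂, ?_⟩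
      calc c * (x * y) = c * x * y := by group
        _ = x₁ * (c₁ * y) := by rw [e₁]; group
        _ = x₁ * x₂ * c₂ := by rw [e₂]; group
  have key : ∀ c ∈ C₁, MulAut.conj c • NoFF.Basic.V Z C₂ ≤ NoFF.Basic.V Z C₂ := by
    intro c hc
    have h0 : NoFF.Basic.V Z C₂ ≤ MulAut.conj c⁻¹ • NoFF.Basic.V Z C₂ := by
      refine V_le fun x hx => ?_
      obtain ⟨x', hx', c', hc', e⟩ := hA x (hC2 hx) c hc
      have h1 : MulAut.conj c • (MulAut.conj x • Z) ≤ NoFF.Basic.V Z C₂ := by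
        rw [conj_conj, e, ← conj_conj, (hZ c').1 hc']
        exact Z_le_V hx'
      have h2 := conj_le_iff (g := c⁻¹) |>.2 h1
      rwa [conj_conj, inv_mul_cancel, map_one, one_smul] at h2
    have h2 := conj_le_iff (g := c) |>.2 h0
    rwa [conj_conj, mul_inv_cancel, map_one, one_smul] at h2
  intro c hc
  rw [mem_normalizer_iff]
  intro x
  constructor
  · intro hx
    apply key c hc
    rw [mem_conj]
    have e : c⁻¹ * (c * x * c⁻¹) * c = x := by group
    rwa [e]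
  · intro hx
    have h1 := key c⁻¹ (inv_mem hc)
    apply h1
    rw [mem_conj, inv_inv]
    exact hx

/-- **Averaging** (Gaschuetz): a vector of `U / Z` fixed by `T` and `M` modulo `Z`, fixed by `K` modulo `Y`, is fixed by
`K` modulo `Z` if no vector of `Y / Z` is fixed by `T` and `M`. -/
theorem comm_le [Finite G] {K T M Y Z : Subgroup G} (hTK : T ≤ K) (hodd : Odd (T.relIndex K)) (hMK : M ≤ K)
    (hZY : Z ≤ Y) (hKY : K ≤ normalizer (Y : Set G)) (hKZ : K ≤ normalizer (Z : Set G))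
    (hYZ : Y ≤ normalizer (Z : Set G)) (hY2 : ∀ y ∈ Y, y * y ∈ Z) {u : G} (huK : ∀ x ∈ K, u⁻¹ * x * u * x⁻¹ ∈ Y)
    (huT : ∀ x ∈ T, u⁻¹ * x * u * x⁻¹ ∈ Z) (huM : ∀ x ∈ M, u⁻¹ * x * u * x⁻¹ ∈ Z)
    (hfix : ∀ y ∈ Y, (∀ x ∈ T, y⁻¹ * x * y * x⁻¹ ∈ Z) → (∀ x ∈ M, y⁻¹ * x * y * x⁻¹ ∈ Z) → y ∈ Z) :
    ∀ x ∈ K, u⁻¹ * x * u * x⁻¹ ∈ Z := by
  obtain ⟨y, hy, h⟩ := BTwo.Avg.avg hTK hodd hZY (fun x hx y hy => (mem_normalizer_iff.1 (hKY hx) y).1 hy)
    (fun x hx y hy => (mem_normalizer_iff.1 (hKZ hx) y).1 hy)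
    (fun x hx y hy => (mem_normalizer_iff.1 (hYZ hx) y).1 hy) hY2 huK huT
  -- `[u y, x] ≡ y⁻¹ [u, x] (x y x⁻¹)`
  have hconj : ∀ a ∈ normalizer (Z : Set G), ∀ z ∈ Z, a * z * a⁻¹ ∈ Z := fun a ha z hz =>
    (mem_normalizer_iff.1 ha z).1 hz
  have key : ∀ x ∈ K, u⁻¹ * x * u * x⁻¹ ∈ Z → y⁻¹ * x * y * x⁻¹ ∈ Z := by
    intro x hx h1
    have h2 := h x hx
    have e : (u * y)⁻¹ * x * (u * y) * x⁻¹ = (y⁻¹ * (u⁻¹ * x * u * x⁻¹) * y⁻¹⁻¹) * (y⁻¹ * x * y * x⁻¹) := by group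
    rw [e] at h2
    exact (Subgroup.mul_mem_cancel_left _ (hconj y⁻¹ (inv_mem (hYZ hy)) _ h1)).1 h2
  have hyZ : y ∈ Z := hfix y hy (fun x hx => key x (hTK hx) (huT x hx)) fun x hx => key x (hMK hx) (huM x hx)
  intro x hx
  have h2 := h x hx
  have h3 : x * y * x⁻¹ ∈ Z := hconj x (hKZ hx) y hyZ
  have e : (u * y)⁻¹ * x * (u * y) * x⁻¹ = y⁻¹ * ((u⁻¹ * x * u * x⁻¹) * (x * y * x⁻¹)) := by group
  rw [e] at h2
  exact (Subgroup.mul_mem_cancel_right _ h3).1 ((Subgroup.mul_mem_cancel_left _ (inv_mem hyZ)).1 h2)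

end Compl

namespace Sit

variable [Finite G] {S : Sylow 2 G} {P T : Subgroup G} {U : Fin 2 → Subgroup G} {v : Fin 2 → G}
  (D : Sit S P T U v)

include D

/-! ### The frame `Sit` -/

theorem T_le_D : T ≤ centralizer (zc T : Set G) := MinSimple.VModule.le_centralizer_zc T

theorem mem_D {i : Fin 2} {g : G} (h1 : g ∈ CC v i) (h2 : g ∈ CC v (i + 1)) : g ∈ centralizer (zc T : Set G) := by
  apply D.CC_inf
  rcases Fin.exists_fin_two.1 ⟨i, rfl⟩ with h | h
  · rw [h] at h1 h2; exact ⟨h1, h2⟩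
  · rw [h] at h1 h2; exact ⟨h2, h1⟩

theorem conj_v_mem {i : Fin 2} {g : G} (h : g ∈ normalizer (U i : Set G)) :
    g * v i * g⁻¹ ∈ U i ∧ g * v i * g⁻¹ ≠ 1 :=
  ⟨(mem_normalizer_iff.1 h _).1 (D.mem i), fun h1 => D.ne i (conj_eq_one_iff.1 h1)⟩

theorem mem_CC_iff {i : Fin 2} {g : G} : g ∈ CC v i ↔ g * v i * g⁻¹ = v i := by
  rw [mem_centralizer_singleton_iff]
  constructor
  · intro h
    rw [h]; group
  · intro h
    calc g * v i = g * v i * g⁻¹ * g := by group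
      _ = v i * g := by rw [h]

/-- `N_G(T) ∩ C_G(v i) ≤ C_G(Y)` -/
theorem inf_norm_le (i : Fin 2) : CC v i ⊓ normalizer (T : Set G) ≤ centralizer (zc T : Set G) := by
  rintro g ⟨hg, hgT⟩
  refine D.mem_D hg (D.mem_CC_iff.2 ?_)
  have h1 : g * v (i + 1) * g⁻¹ ∈ zc T :=
    (mem_normalizer_iff.1 (MinSimple.VModule.normalizer_le_normalizer_zc T hgT) _).1 (D.v_mem_zc _)
  have hne : g * v (i + 1) * g⁻¹ ≠ v i := by
    intro h
    have h2 : v (i + 1) = v i := by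
      have h3 : g⁻¹ * v i * g = v i := by
        have := (D.mem_CC_iff.1 (inv_mem hg))
        rwa [inv_inv] at this
      calc v (i + 1) = g⁻¹ * (g * v (i + 1) * g⁻¹) * g := by group
        _ = v i := by rw [h, h3]
    have h3 : v i ∈ U i ⊓ U (i + 1) := ⟨D.mem i, h2 ▸ D.mem (i + 1)⟩
    rw [D.inf i (i + 1) (ne_add_one i), mem_bot] at h3
    exact D.ne i h3
  rcases (D.zT _).1 h1 with h | h | h | h
  · exact absurd (conj_eq_one_iff.1 h) (D.ne _)
  · rcases Fin.exists_fin_two.1 ⟨i, rfl⟩ with hi | hi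
    · subst hi; exact absurd h hne
    · subst hi; exact h
  · rcases Fin.exists_fin_two.1 ⟨i, rfl⟩ with hi | hi
    · subst hi; exact h
    · subst hi; exact absurd h hne
  · exact absurd h (D.z_not_conj _ _)

/-- a subgroup over `T` normalising `U j` and moving `v j` is transitive on the involutions of `U j` -/
theorem trans_of {j : Fin 2} {R : Subgroup G} (hT : T ≤ R) (hR : R ≤ normalizer (U j : Set G)) (hC : ¬ R ≤ CC v j)
    {x : G} (hx : x ∈ U j) (hx1 : x ≠ 1) : ∃ r ∈ R, r * v j * r⁻¹ = x := by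
  obtain ⟨r, hr, hrC⟩ := SetLike.not_le_iff_exists.1 hC
  set y := r * v j * r⁻¹ with hy
  have hyv : y ≠ v j := fun h => hrC (D.mem_CC_iff.2 h)
  obtain ⟨hyU, hy1⟩ := D.conj_v_mem (hR hr)
  obtain ⟨t, ht, hty⟩ : ∃ t ∈ T, t * y * t⁻¹ ≠ y := by
    by_contra hcon
    push Not at hcon
    exact hyv (D.eq_v hyU hy1 hcon)
  have htU : t * y * t⁻¹ ∈ U j := (mem_normalizer_iff.1 (D.T_le_N j ht) _).1 hyU
  have ht1 : t * y * t⁻¹ ≠ 1 := fun h => hy1 (conj_eq_one_iff.1 h)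
  have htv : t * y * t⁻¹ ≠ v j := by
    intro h
    apply hyv
    have h1 := D.cen j _ (inv_mem ht)
    rw [inv_inv] at h1
    calc y = t⁻¹ * (t * y * t⁻¹) * t := by group
      _ = v j := by rw [h, h1]
  rcases NO3S.eq_of_card_four (D.four j) (D.U_sq j) (D.mem j) (D.ne j) hyU hy1 (Ne.symm hyv) hx hx1 with h | h | h
  · exact ⟨1, one_mem _, by rw [h]; group⟩
  · exact ⟨r, hr, h.symm⟩
  · refine ⟨t * r, mul_mem (hT ht) hr, ?_⟩
    have e : t * r * v j * (t * r)⁻¹ = t * y * t⁻¹ := by rw [hy]; group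
    rw [e, h]
    rcases NO3S.eq_of_card_four (D.four j) (D.U_sq j) (D.mem j) (D.ne j) hyU hy1 (Ne.symm hyv) htU ht1 with h2 | h2 | h2
    · exact absurd h2 htv
    · exact absurd h2 hty
    · exact h2

/-- **Generation**: a subgroup `R ≤ C_G(v i)` over `T` normalising `U (i+1)` and moving `v (i+1)` generates `C_G(v i)`
together with `C_G(Y)`. -/
theorem gen_of {i : Fin 2} {R : Subgroup G} (hT : T ≤ R) (hRC : R ≤ CC v i) (hR : R ≤ normalizer (U (i + 1) : Set G))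
    (hRD : ¬ R ≤ centralizer (zc T : Set G))
    (hmax : CC v i ≤ centralizer (zc T : Set G) ⊔ (P ⊓ centralizer (U i : Set G))) :
    CC v i ≤ centralizer (zc T : Set G) ⊔ R := by
  have hC : ¬ R ≤ CC v (i + 1) := fun h => hRD fun r hr => D.mem_D (hRC hr) (h hr)
  refine hmax.trans (sup_le le_sup_left fun l hl => ?_)
  have hlC : l ∈ CC v i := centralizer_le (Set.singleton_subset_iff.2 (D.mem i)) hl.2
  have hlN : l ∈ normalizer (U (i + 1) : Set G) := D.cen_le_norm (ne_add_one i).symm hl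
  obtain ⟨h1, h2⟩ := D.conj_v_mem hlN
  obtain ⟨r, hr, h3⟩ := D.trans_of hT hR hC h1 h2
  have h4 : r⁻¹ * l ∈ centralizer (zc T : Set G) := by
    refine D.mem_D (mul_mem (inv_mem (hRC hr)) hlC) (D.mem_CC_iff.2 ?_)
    calc r⁻¹ * l * v (i + 1) * (r⁻¹ * l)⁻¹ = r⁻¹ * (l * v (i + 1) * l⁻¹) * r := by group
      _ = v (i + 1) := by rw [← h3]; group
  have e : l = r * (r⁻¹ * l) := by group
  rw [e]
  exact mul_mem (mem_sup_right hr) (mem_sup_left h4)

/-- a normal subgroup of `C_G(v i)` in `C_G(Y)` centralises `N i` -/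
theorem le_cent_N_of_le {i : Fin 2} {X : Subgroup G} (hXn : CC v i ≤ normalizer (X : Set G))
    (hX : X ≤ centralizer (zc T : Set G)) : X ≤ centralizer (NU U v i : Set G) := by
  refine Compl.le_centralizer_of_le (u := v (i + 1)) hXn (fun x hx => D.mem_CC_iff.1 (D.cent_zc_le _ (hX hx)))
    fun a ha ha1 => ?_
  obtain ⟨l, -, hl, -, hla⟩ := D.tr (i + 1) i (ne_add_one i).symm a ha ha1
  exact ⟨l, centralizer_le (Set.singleton_subset_iff.2 (D.mem i)) hl, hla⟩

/-- **LEMMA QP** (helper173 #19764 (1)), **LEMMA 0** (helper997 #19092). -/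
theorem qp {i : Fin 2} (hmax : CC v i ≤ centralizer (zc T : Set G) ⊔ (P ⊓ centralizer (U i : Set G)))
    (hU : ∀ R : Subgroup G, IsMinPar T R → R ≤ CC v i → ¬ R ≤ centralizer (zc T : Set G) →
      R ≤ normalizer (U (i + 1) : Set G))
    {X : Subgroup G} (hX : X ≤ CC v i) (hXn : CC v i ≤ normalizer (X : Set G))
    (hXN : ¬ X ≤ centralizer (NU U v i : Set G)) : CC v i ≤ X ⊔ centralizer (zc T : Set G) := by
  refine (Compl.le_or_le_sup D.T_le_D hX (D.T_le_C i) (D.inf_norm_le i) fun R h1 h2 h3 =>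
    D.gen_of h1.le h2 (hU R h1 h2 h3) h3 hmax).resolve_left fun h => hXN (D.le_cent_N_of_le hXn h)

/-- the end of STEP F -/
theorem false_of_le_normalizer (hII : NonLoc (CC v 0) (CC v 1)) (i : Fin 2)
    (h1 : CC v i ≤ normalizer (NoFF.Basic.V (zpowers (v i)) (CC v (i + 1)) : Set G)) : False := by
  have h2 : CC v (i + 1) ≤ normalizer (NoFF.Basic.V (zpowers (v i)) (CC v (i + 1)) : Set G) :=
    le_normalizer_V _ _
  have h3 : NoFF.Basic.V (zpowers (v i)) (CC v (i + 1)) ≤ (S : Subgroup G) := by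
    refine le_trans (V_le fun c hc => ?_) ((D.Q_le_T (i + 1)).trans D.T_le)
    change _ ≤ QQ v (i + 1)
    rw [← D.conj_QQ hc]
    refine conj_le_iff.2 ?_
    rw [zpowers_le]
    exact D.zc_le_Q (i + 1) (D.v_mem_zc i)
  have h4 : NoFF.Basic.V (zpowers (v i)) (CC v (i + 1)) = ⊥ := by
    refine hII _ (S.isPGroup'.to_le h3) ?_ ?_
    · rcases Fin.exists_fin_two.1 ⟨i, rfl⟩ with h | h
      · rw [h] at h1 ⊢; exact h1
      · rw [h] at h2 ⊢; exact h2
    · rcases Fin.exists_fin_two.1 ⟨i, rfl⟩ with h | h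
      · rw [h] at h2 ⊢; exact h2
      · rw [h] at h1 ⊢; exact h1
  have h5 : v i ∈ NoFF.Basic.V (zpowers (v i)) (CC v (i + 1)) := le_V _ _ (mem_zpowers _)
  rw [h4, mem_bot] at h5
  exact D.ne i h5

theorem mem_zpowers_iff' {i : Fin 2} {x : G} : x ∈ zpowers (v i) ↔ x = 1 ∨ x = v i := by
  constructor
  · intro hx
    obtain ⟨n, rfl⟩ := mem_zpowers_iff.1 hx
    have h2 : v i ^ (2 : ℤ) = 1 := by
      have := D.v_sq' i
      exact_mod_cast this
    rcases Int.even_or_odd' n with ⟨k, hk | hk⟩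
    · left
      rw [hk, zpow_mul, h2, one_zpow]
    · right
      rw [hk, zpow_add, zpow_mul, h2, one_zpow, one_mul, zpow_one]
  · rintro (h | h)
    · rw [h]; exact one_mem _
    · rw [h]; exact mem_zpowers _

theorem conj_zpowers_iff {i : Fin 2} (g : G) : g ∈ CC v i ↔ MulAut.conj g • zpowers (v i) = zpowers (v i) := by
  constructor
  · intro hg
    apply conj_eq_of_mem
    apply centralizer_le_normalizer
    rw [mem_centralizer_iff]
    intro x hx
    rcases D.mem_zpowers_iff'.1 hx with h | h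
    · rw [h]; simp
    · rw [h]; exact (mem_centralizer_singleton_iff.1 hg).symm
  · intro h
    have h1 : g * v i * g⁻¹ ∈ zpowers (v i) := by
      rw [← h, mem_conj]
      have e : g⁻¹ * (g * v i * g⁻¹) * g = v i := by group
      rw [e]
      exact mem_zpowers _
    rcases D.mem_zpowers_iff'.1 h1 with h2 | h2
    · exact absurd (conj_eq_one_iff.1 h2) (D.ne i)
    · exact D.mem_CC_iff.2 h2

/-- **(COMP)** (helper33 #19461). -/
theorem comp (hII : NonLoc (CC v 0) (CC v 1)) (i : Fin 2)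
    (hmax : CC v (i + 1) ≤ centralizer (zc T : Set G) ⊔ (P ⊓ centralizer (U (i + 1) : Set G)))
    (h : ∀ c ∈ CC v i, ∃ d ∈ centralizer (zc T : Set G), MulAut.conj c • U i = MulAut.conj d • U i) : False := by
  refine D.false_of_le_normalizer hII i ?_
  refine Compl.le_normalizer (D := centralizer (zc T : Set G)) (M := P ⊓ centralizer (U (i + 1) : Set G))
    (L := U i) D.conj_zpowers_iff (D.cent_zc_le i) ?_ hmax (D.cen_le_norm (ne_add_one i)) ?_ ?_
  · exact inf_le_right.trans (centralizer_le (Set.singleton_subset_iff.2 (D.mem _)))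
  · intro c hc
    obtain ⟨d, hd, hcd⟩ := h c hc
    refine ⟨d, D.cent_zc_le _ hd, d⁻¹ * c, ?_, by group⟩
    refine ChoiceBase.mem_normalizer_iff_cj.2 ?_
    change MulAut.conj (d⁻¹ * c) • U i = U i
    rw [← conj_conj, hcd, conj_conj, inv_mul_cancel, map_one, one_smul]
  · intro g hg
    obtain ⟨h1, h2⟩ := D.conj_v_mem hg
    obtain ⟨l, hl, hlU, -, hlw⟩ := D.tr i (i + 1) (ne_add_one i) _ h1 h2
    refine ⟨l, ⟨hl, hlU⟩, ?_⟩
    have key : ∀ k : G, MulAut.conj k • zpowers (v i) = zpowers (k * v i * k⁻¹) := by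
      intro k
      ext x
      rw [mem_conj, D.mem_zpowers_iff']
      constructor
      · rintro (h3 | h3)
        · have : x = 1 := by
            have := congrArg (fun t => k * t * k⁻¹) h3
            simpa [mul_assoc] using this
          rw [this]; exact one_mem _
        · have : x = k * v i * k⁻¹ := by rw [← h3]; group
          rw [this]; exact mem_zpowers _
      · intro h3
        obtain ⟨n, rfl⟩ := mem_zpowers_iff.1 h3
        rw [conj_zpow]
        have e : k⁻¹ * (k * v i ^ n * k⁻¹) * k = v i ^ n := by group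
        rw [e]
        exact D.mem_zpowers_iff'.1 (mem_zpowers_iff.2 ⟨n, rfl⟩)
    rw [key, key, hlw]

/-- **STEP F+** (helper173 #19764 (2)): a normal subgroup of `C_G(v i)` moving `N i` does not normalise `U i`. -/
theorem not_le_normalizer (hII : NonLoc (CC v 0) (CC v 1)) {i : Fin 2}
    (hmax : ∀ i, CC v i ≤ centralizer (zc T : Set G) ⊔ (P ⊓ centralizer (U i : Set G)))
    (hU : ∀ R : Subgroup G, IsMinPar T R → R ≤ CC v i → ¬ R ≤ centralizer (zc T : Set G) →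
      R ≤ normalizer (U (i + 1) : Set G))
    {X : Subgroup G} (hX : X ≤ CC v i) (hXn : CC v i ≤ normalizer (X : Set G))
    (hXN : ¬ X ≤ centralizer (NU U v i : Set G)) : ¬ X ≤ normalizer (U i : Set G) := by
  intro hXU
  refine D.comp hII i (hmax _) fun c hc => ?_
  obtain ⟨x, hx, d, hd, rfl⟩ := exists_mul_of_mem_sup ((D.cent_zc_le i).trans hXn)
    (D.qp (hmax i) hU hX hXn hXN hc)
  refine ⟨d, hd, ?_⟩
  have h1 : d⁻¹ * x * d ∈ X := by
    have := (mem_normalizer_iff.1 (hXn (inv_mem (D.cent_zc_le i hd))) x).1 hx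
    rwa [inv_inv] at this
  have e : x * d = d * (d⁻¹ * x * d) := by group
  rw [e, ← conj_conj, conj_eq_of_mem (hXU h1)]

/-- `N i ⟨v i⟩` -/
abbrev NZ (U : Fin 2 → Subgroup G) (v : Fin 2 → G) (i : Fin 2) : Subgroup G := NU U v i ⊔ zpowers (v i)

theorem NZ_le (i : Fin 2) : NZ U v i ≤ WU U v i ⊔ NU U v i :=
  sup_le le_sup_right (by rw [zpowers_le]; exact mem_sup_left (le_V _ _ (D.mem i)))

theorem C_le_N_Z (i : Fin 2) : CC v i ≤ normalizer (zpowers (v i) : Set G) := by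
  intro c hc
  refine ChoiceBase.mem_normalizer_iff_cj.2 ?_
  exact (D.conj_zpowers_iff c).1 hc

theorem C_le_N_NZ (i : Fin 2) : CC v i ≤ normalizer (NZ U v i : Set G) := by
  intro c hc
  refine ChoiceBase.mem_normalizer_iff_cj.2 ?_
  change MulAut.conj c • (NU U v i ⊔ zpowers (v i)) = _
  rw [Subgroup.smul_sup, conj_eq_of_mem (D.C_le_N_N i hc), (D.conj_zpowers_iff c).1 hc]

/-- the subgroup of `C_G(v i)` acting trivially on `U i N i / N i ⟨v i⟩` -/
def KU (D : Sit S P T U v) (i : Fin 2) : Subgroup G where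
  carrier := {r | r ∈ CC v i ∧ ∀ x ∈ U i, x⁻¹ * r * x * r⁻¹ ∈ NZ U v i}
  one_mem' := ⟨one_mem _, fun x _ => by simp⟩
  mul_mem' := by
    rintro r s ⟨hr, h1⟩ ⟨hs, h2⟩
    refine ⟨mul_mem hr hs, fun x hx => ?_⟩
    have h3 := (mem_normalizer_iff.1 (D.C_le_N_NZ i hr) _).1 (h2 x hx)
    have h4 := h1 x hx
    have e : x⁻¹ * (r * s) * x * (r * s)⁻¹ = (x⁻¹ * r * x * r⁻¹) * (r * (x⁻¹ * s * x * s⁻¹) * r⁻¹) := by group
    rw [e]
    exact mul_mem h4 h3
  inv_mem' := by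
    rintro r ⟨hr, h1⟩
    refine ⟨inv_mem hr, fun x hx => ?_⟩
    have h3 := (mem_normalizer_iff.1 (D.C_le_N_NZ i (inv_mem hr)) _).1 (inv_mem (h1 x hx))
    have e : x⁻¹ * r⁻¹ * x * r⁻¹⁻¹ = r⁻¹ * (x⁻¹ * r * x * r⁻¹)⁻¹ * r⁻¹⁻¹ := by group
    rw [e]
    exact h3

/-- `[U i, T] ≤ ⟨v i⟩` -/
theorem comm_U_T {i : Fin 2} {x t : G} (hx : x ∈ U i) (ht : t ∈ T) : x⁻¹ * t * x * t⁻¹ ∈ zpowers (v i) := by
  rw [D.mem_zpowers_iff']
  have hx' : x⁻¹ = x := by
    rw [inv_eq_iff_mul_eq_one, ← pow_two]; exact D.U_sq i x hx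
  by_cases h1 : x = 1
  · left; rw [h1]; group
  by_cases hxv : x = v i
  · left
    have h2 := D.cen i t ht
    rw [hx', hxv]
    calc v i * t * v i * t⁻¹ = v i * (t * v i * t⁻¹) := by group
      _ = 1 := by rw [h2]; exact D.v_sq i
  have htU : t * x * t⁻¹ ∈ U i := (mem_normalizer_iff.1 (D.T_le_N i ht) _).1 hx
  have ht1 : t * x * t⁻¹ ≠ 1 := fun h => h1 (conj_eq_one_iff.1 h)
  have e : x⁻¹ * t * x * t⁻¹ = x⁻¹ * (t * x * t⁻¹) := by group
  rw [e]
  rcases NO3S.eq_of_card_four (D.four i) (D.U_sq i) (D.mem i) (D.ne i) hx h1 (Ne.symm hxv) htU ht1 with h2 | h2 | h2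
  · exfalso
    apply hxv
    have h3 := D.cen i _ (inv_mem ht)
    rw [inv_inv] at h3
    calc x = t⁻¹ * (t * x * t⁻¹) * t := by group
      _ = v i := by rw [h2, h3]
  · left; rw [h2]; group
  · right
    rw [h2, D.comm (D.le i (D.mem i)) (D.le i hx)]
    group

/-- **THEOREM C, general form**: `X ≤ C_G(v i)` with `[U i, X] ≤ N i ⟨v i⟩` normalises `U i` as soon as
`N i ⟨v i⟩ / ⟨v i⟩` has no vector fixed by `T` and `C_P(U i)`. -/
theorem le_normalizer_U {i : Fin 2}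
    (hfix : ∀ y ∈ NZ U v i, (∀ x ∈ T, y⁻¹ * x * y * x⁻¹ ∈ zpowers (v i)) →
      (∀ x ∈ P ⊓ centralizer (U i : Set G), y⁻¹ * x * y * x⁻¹ ∈ zpowers (v i)) → y ∈ zpowers (v i))
    {X : Subgroup G} (hX : X ≤ CC v i) (hXU : ∀ r ∈ X, ∀ x ∈ U i, x⁻¹ * r * x * r⁻¹ ∈ NZ U v i) :
    X ≤ normalizer (U i : Set G) := by
  have hKC : D.KU i ≤ CC v i := fun r hr => hr.1
  have hTK : T ≤ D.KU i := fun t ht => ⟨D.T_le_C i ht, fun x hx => mem_sup_right (D.comm_U_T hx ht)⟩
  have hML : P ⊓ centralizer (U i : Set G) ≤ D.KU i := fun l hl =>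
    ⟨centralizer_le (Set.singleton_subset_iff.2 (D.mem i)) hl.2, fun x hx => by
      have h1 := mem_centralizer_iff.1 hl.2 x hx
      have e : x⁻¹ * l * x * l⁻¹ = 1 := by
        rw [mul_assoc x⁻¹, ← h1]; group
      rw [e]; exact one_mem _⟩
  have hodd : Odd (T.relIndex (D.KU i)) := by
    have hS : Syl T (D.KU i) := ⟨hTK, D.T_isPGroup, fun R hR hR2 hTR => (D.syl i).2.2 R (hR.trans hKC) hR2 hTR⟩
    rw [← Nat.not_even_iff_odd, even_iff_two_dvd]
    exact ChoiceSit.syl_not_dvd hS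
  have hsq : ∀ y ∈ NZ U v i, y * y ∈ zpowers (v i) := fun y hy => by
    have := D.WN_sq i y (D.NZ_le i hy)
    rw [pow_two] at this
    rw [this]; exact one_mem _
  have hNC : NZ U v i ≤ CC v i :=
    sup_le ((D.N_le_Q i).trans ((D.Q_le_T i).trans (D.T_le_C i))) (by rw [zpowers_le]; exact mem_centralizer_singleton_iff.2 rfl)
  have hXK : X ≤ D.KU i := fun r hr => ⟨hX hr, hXU r hr⟩
  have key : ∀ u ∈ U i, ∀ x ∈ D.KU i, u⁻¹ * x * u * x⁻¹ ∈ zpowers (v i) := fun u hu =>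
    Compl.comm_le hTK hodd hML le_sup_right (hKC.trans (D.C_le_N_NZ i)) (hKC.trans (D.C_le_N_Z i))
      (hNC.trans (D.C_le_N_Z i)) hsq (fun x hx => hx.2 u hu) (fun x hx => D.comm_U_T hu hx)
      (fun x hx => by
        have h1 := mem_centralizer_iff.1 hx.2 u hu
        have e : u⁻¹ * x * u * x⁻¹ = 1 := by
          rw [mul_assoc u⁻¹, ← h1]; group
        rw [e]; exact one_mem _) hfix
  have h2 : ∀ x ∈ X, ∀ u ∈ U i, x * u * x⁻¹ ∈ U i := by
    intro x hx u hu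
    have h3 := key u hu x (hXK hx)
    have e : x * u * x⁻¹ = u * (u⁻¹ * x * u * x⁻¹) := by group
    rw [e]
    exact mul_mem hu ((zpowers_le.2 (D.mem i)) h3)
  intro x hx
  rw [mem_normalizer_iff]
  intro u
  refine ⟨h2 x hx u, fun hu => ?_⟩
  have h3 := h2 x⁻¹ (inv_mem hx) _ hu
  have e : x⁻¹ * (x * u * x⁻¹) * x⁻¹⁻¹ = u := by group
  rwa [e] at h3

/-- no radical (`v i ∉ N i`): `N i ⟨v i⟩ / ⟨v i⟩` has no vector fixed by `T` and `C_P(U i)` -/
theorem fix_of_not_mem {i : Fin 2} (hr : v i ∉ NU U v i) : ∀ y ∈ NZ U v i,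
    (∀ x ∈ T, y⁻¹ * x * y * x⁻¹ ∈ zpowers (v i)) →
    (∀ x ∈ P ⊓ centralizer (U i : Set G), y⁻¹ * x * y * x⁻¹ ∈ zpowers (v i)) → y ∈ zpowers (v i) := by
  intro y hy h1 h2
  have hinf : ∀ w ∈ NU U v i, w ∈ zpowers (v i) → w = 1 := by
    intro w hw hw'
    rcases D.mem_zpowers_iff'.1 hw' with h | h
    · exact h
    · exact absurd (h ▸ hw) hr
  obtain ⟨n, hn, z, hz, rfl⟩ := exists_mul_of_mem_sup (F := NU U v i) (N := zpowers (v i))
    (((zpowers_le.2 (mem_centralizer_singleton_iff.2 rfl) : zpowers (v i) ≤ CC v i)).trans (D.C_le_N_N i)) hy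
  have hzc : ∀ x ∈ CC v i, x * z * x⁻¹ = z := by
    intro x hx
    rcases D.mem_zpowers_iff'.1 hz with h | h
    · rw [h]; group
    · rw [h]; exact D.mem_CC_iff.1 hx
  -- `[n, x] = 1`
  have h3 : ∀ x ∈ CC v i, (n * z)⁻¹ * x * (n * z) * x⁻¹ ∈ zpowers (v i) → x * n * x⁻¹ = n := by
    intro x hx h4
    have e : (n * z)⁻¹ * x * (n * z) * x⁻¹ = z⁻¹ * (n⁻¹ * (x * n * x⁻¹)) * (x * z * x⁻¹) := by group
    rw [e, hzc x hx] at h4
    have h5 : n⁻¹ * (x * n * x⁻¹) ∈ zpowers (v i) :=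
      (Subgroup.mul_mem_cancel_left _ (inv_mem hz)).1 ((Subgroup.mul_mem_cancel_right _ hz).1 h4)
    have h6 := hinf _ (mul_mem (inv_mem hn) ((mem_normalizer_iff.1 (D.C_le_N_N i hx) n).1 hn)) h5
    have h7 : x * n * x⁻¹ = n := by
      calc x * n * x⁻¹ = n * (n⁻¹ * (x * n * x⁻¹)) := by group
        _ = n := by rw [h6, mul_one]
    exact h7
  have hnT : n ∈ zc T := by
    refine mem_zc.2 ⟨D.Q_le_T i (D.N_le_Q i hn), fun t ht => ?_, D.WN_sq i n (mem_sup_right hn)⟩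
    have h4 := h3 t (D.T_le_C i ht) (h1 t ht)
    calc t * n = t * n * t⁻¹ * t := by group
      _ = n * t := by rw [h4]
  have hn1 : n = 1 ∨ n = v (i + 1) := by
    have hv : v (i + 1) ∈ NU U v i := D.mem_N i
    have h01 : v 0 * v 1 ∉ NU U v i := by
      intro h
      apply hr
      have hc : v 0 * v 1 = v 1 * v 0 := D.comm (D.le 0 (D.mem 0)) (D.le 1 (D.mem 1))
      rcases Fin.exists_fin_two.1 ⟨i, rfl⟩ with hi | hi
      · subst hi
        have := mul_mem h (inv_mem hv)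
        simpa using this
      · subst hi
        have h5 := mul_mem (inv_mem hv) h
        have h6 : (v (1 + 1))⁻¹ * (v 0 * v 1) = v 1 := by
          have : (1 : Fin 2) + 1 = 0 := rfl
          rw [this]; group
        rwa [h6] at h5
    rcases (D.zT _).1 hnT with h | h | h | h
    · exact Or.inl h
    · rcases Fin.exists_fin_two.1 ⟨i, rfl⟩ with hi | hi
      · subst hi; exact absurd (h ▸ hn) hr
      · subst hi; exact Or.inr h
    · rcases Fin.exists_fin_two.1 ⟨i, rfl⟩ with hi | hi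
      · subst hi; exact Or.inr h
      · subst hi; exact absurd (h ▸ hn) hr
    · exact absurd (h ▸ hn) h01
  rcases hn1 with h | h
  · rw [h, one_mul]; exact hz
  · exfalso
    -- `C_P(U i)` moves `v (i+1)`
    obtain ⟨x, hx, hx1, hxv⟩ : ∃ x ∈ U (i + 1), x ≠ 1 ∧ x ≠ v (i + 1) := by
      by_contra hcon
      push Not at hcon
      have h4 : U (i + 1) ≤ zpowers (v (i + 1)) := by
        intro x hx
        rw [D.mem_zpowers_iff']
        by_cases h1 : x = 1
        · exact Or.inl h1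
        · exact Or.inr (hcon x hx h1)
      have h5 := Subgroup.card_le_of_le h4
      have h6 : Nat.card (zpowers (v (i + 1))) ≤ 2 := by
        rw [Nat.card_zpowers]
        exact Nat.le_of_dvd (by norm_num) (orderOf_dvd_of_pow_eq_one (D.v_sq' _))
      have h7 := D.four (i + 1)
      omega
    obtain ⟨l, hl, hlU, -, hlx⟩ := D.tr (i + 1) i (ne_add_one i).symm x hx hx1
    have h4 := h3 l (centralizer_le (Set.singleton_subset_iff.2 (D.mem i)) hlU) (h2 l ⟨hl, hlU⟩)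
    rw [h] at h4
    exact hxv (hlx.symm.trans h4)

/-- **THEOREM C** (helper997 #19092). -/
theorem thmC (hII : NonLoc (CC v 0) (CC v 1)) {i : Fin 2}
    (hmax : ∀ i, CC v i ≤ centralizer (zc T : Set G) ⊔ (P ⊓ centralizer (U i : Set G)))
    (hU : ∀ R : Subgroup G, IsMinPar T R → R ≤ CC v i → ¬ R ≤ centralizer (zc T : Set G) →
      R ≤ normalizer (U (i + 1) : Set G))
    (hr : v i ∉ NU U v i) {X : Subgroup G} (hX : X ≤ CC v i) (hXn : CC v i ≤ normalizer (X : Set G))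
    (hXU : ∀ r ∈ X, ∀ x ∈ U i, x⁻¹ * r * x * r⁻¹ ∈ NZ U v i) : X ≤ centralizer (NU U v i : Set G) := by
  by_contra hXN
  exact D.not_le_normalizer hII hmax hU hX hXn hXN (D.le_normalizer_U (D.fix_of_not_mem hr) hX hXU)

end Sit

end Cfsg.Agent.Omega.OM.KTwo

end

section


/-!
# The structure lemma in the transvection case (helper918 #19487, section 0): the hyperbolic line

`h : TUn C D M T N v e x₀ a` (one transvection for every centre).

* `TUn.ti_of_zz` : if `e ≠ 1` and `p v` is not a point for a point `p`, then the line `{x₀, a, x₀ a}` is totally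
  isotropic;
* `TUn.hyp` : (helper118 #18145 (4)) if `e = 1` and the line is not totally isotropic, then `N = {1, x₀, a, x₀ a}`.
-/

set_option autoImplicit false
set_option linter.unusedSectionVars false
set_option linter.style.haveILetI false

namespace Cfsg.Agent.Omega.OM.KTwo.StrSp

open Subgroup

universe u

variable {G : Type u} [Group G]

/-- a conjugate in a Sylow 2-subgroup -/
theorem exists_conj_mem [Finite G] {C T A : Subgroup G} (hT : IsPGroup 2 T) (_ : T ≤ C)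
    (hs : ¬ 2 ∣ T.relIndex C) (hAC : A ≤ C) (hA : IsPGroup 2 A) : ∃ c ∈ C, ∀ x ∈ A, c * x * c⁻¹ ∈ T := by
  haveI : Fact (Nat.Prime 2) := ⟨Nat.prime_two⟩
  have hT' : IsPGroup 2 (T.subgroupOf C) := hT.comap_of_injective _ C.subtype_injective
  have hA' : IsPGroup 2 (A.subgroupOf C) := hA.comap_of_injective _ C.subtype_injective
  obtain ⟨Q, hQ⟩ := hA'.exists_le_sylow
  obtain ⟨g, hg⟩ := MulAction.exists_smul_eq C Q (hT'.toSylow hs)
  refine ⟨g, g.2, fun x hx => ?_⟩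
  have h1 : (⟨x, hAC hx⟩ : C) ∈ (Q : Subgroup C) := hQ (mem_subgroupOf.mpr hx)
  have h2 : (MulAut.conj g) ⟨x, hAC hx⟩ ∈ ((g • Q : Sylow 2 C) : Subgroup C) := by
    rw [Sylow.smul_def]
    exact Subgroup.smul_mem_pointwise_smul _ (MulAut.conj g) _ h1
  rw [hg] at h2
  exact mem_subgroupOf.mp h2

namespace TUn

variable {C D M T N : Subgroup G} {v e x₀ a : G} (h : TUn C D M T N v e x₀ a)
include h

theorem ti_of_zz (he1 : e = v) (zz : ∀ p ∈ Pts C x₀, p * v ∉ Pts C x₀) {t : G} (ht : Tr C N e x₀ t) :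
    t * a * t⁻¹ = a := by
  have haN := h.pt_mem h.a_pt
  by_contra h1
  have h2 := (ht.2.1 a haN).resolve_left h1
  have h3 := h.conj_pt h.a_pt ht.1
  rw [h2, ← mul_assoc, h.comm a haN x₀ h.x_mem, he1] at h3
  exact zz _ h.xa_pt h3

section frm

variable {B : G → G → ℤˣ} (F : Frm C N e x₀ B)
include F

theorem v_l (hv : v ∈ N) {u : G} (hu : u ∈ N) : B v u = 1 := by
  rw [F.symm v hv u hu]
  exact h.ext (φ := fun u => B u v) (ψ := fun _ => 1) (fun _ hx _ hy => h.mul_left F hx hy hv) (fun _ _ _ _ => by simp)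
    (fun p hp => by
      obtain ⟨t, ht⟩ := h.exists_tr hp
      exact (F.tv p hp t ht v hv).2 (by rw [h.vC t ht.1]; group)) u hu

theorem pt_ne_one {p : G} (hp : p ∈ Pts C x₀) : p ≠ 1 := by
  rintro rfl
  obtain ⟨q, hq, h1⟩ := h.exists_nonperp F hp
  rw [h.one_l F (h.pt_mem hq)] at h1
  exact absurd h1.symm neg_ne

variable (he1 : e = 1) (hTn : ∀ t ∈ T, t * a * t⁻¹ = a ∨ t * a * t⁻¹ = x₀ * a)
include he1 hTn

theorem claimA {p t : G} (hp : p ∈ Pts C x₀) (hne : p ≠ x₀) (ht : Tr C N e p t) (htT : t ∈ T) : B p a = 1 := by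
  have haN := h.pt_mem h.a_pt
  by_contra h1
  have h2 := h.neg F hp ht haN (ne_of h1)
  rw [he1, mul_one] at h2
  rcases hTn t htT with h3 | h3 <;> rw [h3] at h2
  · exact h.pt_ne_one F hp (mul_eq_left.1 h2.symm)
  · rw [h.comm a haN p (h.pt_mem hp)] at h2
    exact hne (mul_right_cancel h2).symm

/-- a transvection with centre `p ∈ x₀^⊥` in `T`, up to conjugation in `D` -/
theorem exists_T [Finite G] (hT2 : IsPGroup 2 T) {p : G} (hp : p ∈ Pts C x₀) (hne : p ≠ x₀) (h1 : B x₀ p = 1) :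
    ∃ q ∈ Pts C x₀, q ≠ x₀ ∧ ∃ t ∈ T, Tr C N e q t := by
  haveI : Fact (Nat.Prime 2) := ⟨Nat.prime_two⟩
  have hpN := h.pt_mem hp
  obtain ⟨t, ht⟩ := h.exists_tr hp
  have hpe := h.pe_mem ht
  -- `t²` centralises `N`
  have hsq : ∀ n ∈ N, t ^ 2 * n * (t ^ 2)⁻¹ = n := by
    intro n hn
    have e1 : t ^ 2 * n * (t ^ 2)⁻¹ = t * (t * n * t⁻¹) * t⁻¹ := by rw [pow_two]; group
    rw [e1]
    rcases Int.units_eq_one_or (B p n) with h2 | h2
    · rw [(F.tv p hp t ht n hn).1 h2, (F.tv p hp t ht n hn).1 h2]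
    · have h3 := h.neg F hp ht hn h2
      have h4 : t * (p * e) * t⁻¹ = p * e := by
        refine (F.tv p hp t ht _ hpe).1 ?_
        rw [h.mul_e' F hpN hpN, F.self p hpN]
      rw [h3, h.conj_mul' t, h3, h4, mul_assoc, h.sq _ hpe, mul_one]
  have hsqk : ∀ k : ℕ, ∀ n ∈ N, (t ^ 2) ^ k * n * ((t ^ 2) ^ k)⁻¹ = n := by
    intro k
    induction k with
    | zero => intro n _; simp
    | succ k ih =>
      intro n hn
      have e1 : (t ^ 2) ^ (k + 1) * n * ((t ^ 2) ^ (k + 1))⁻¹ = (t ^ 2) ^ k * (t ^ 2 * n * (t ^ 2)⁻¹) * ((t ^ 2) ^ k)⁻¹ := by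
        rw [pow_succ]; group
      rw [e1, hsq n hn, ih n hn]
  -- the 2-part of `t`
  obtain ⟨k, m, hm, hkm⟩ := Nat.exists_eq_two_pow_mul_odd (orderOf_pos t).ne'
  obtain ⟨l, hl⟩ := hm
  have hact : ∀ n ∈ N, t ^ m * n * (t ^ m)⁻¹ = t * n * t⁻¹ := by
    intro n hn
    have e1 : t ^ m = t * (t ^ 2) ^ l := by rw [hl, pow_succ', pow_mul]
    have e2 : t ^ m * n * (t ^ m)⁻¹ = t * ((t ^ 2) ^ l * n * ((t ^ 2) ^ l)⁻¹) * t⁻¹ := by rw [e1]; group
    rw [e2, hsqk l n hn]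
  have h2 : IsPGroup 2 (zpowers (t ^ m)) := by
    have h3 : (t ^ m) ^ 2 ^ k = 1 := by rw [← pow_mul, mul_comm m, ← hkm, pow_orderOf_eq_one]
    rw [IsPGroup.iff_card]
    obtain ⟨j, -, hj⟩ := (Nat.dvd_prime_pow Nat.prime_two).1 (orderOf_dvd_of_pow_eq_one h3)
    exact ⟨j, by rw [Nat.card_zpowers, hj]⟩
  have htD : t ∈ D := by
    refine (h.D_iff t).2 ⟨ht.1, ?_⟩
    have h3 := (F.tv p hp t ht x₀ h.x_mem).1 (by rw [F.symm p hpN x₀ h.x_mem, h1])
    calc t * x₀ = t * x₀ * t⁻¹ * t := by group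
      _ = x₀ * t := by rw [h3]
  have hDC : D ≤ C := fun d hd => ((h.D_iff d).1 hd).1
  have hTo : ¬ 2 ∣ T.relIndex D := fun h3 =>
    h.T_odd (h3.trans (Dvd.intro _ (relIndex_mul_relIndex T D C h.TD hDC)))
  obtain ⟨d, hd, h3⟩ := exists_conj_mem hT2 h.TD hTo (zpowers_le.2 (pow_mem htD m)) h2
  have hdC := hDC hd
  have htr : Tr C N e p (t ^ m) := by
    refine ⟨pow_mem ht.1 m, fun n hn => by rw [hact n hn]; exact ht.2.1 n hn, ?_⟩
    obtain ⟨n, hn, h4⟩ := ht.2.2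
    exact ⟨n, hn, by rwa [hact n hn]⟩
  refine ⟨d * p * d⁻¹, h.conj_pt hp hdC, fun h4 => hne ?_, _, h3 _ (mem_zpowers _), h.conj_tr htr hdC⟩
  have h5 : d * x₀ = x₀ * d := ((h.D_iff d).1 hd).2
  calc p = d⁻¹ * (d * p * d⁻¹) * d := by group
    _ = d⁻¹ * (x₀ * d) := by rw [h4]; group
    _ = x₀ := by rw [← h5]; group

/-- transvections in a 2-group with centres `o`, `o'` : `o ⊥ o'` -/
theorem perp_of_T [Finite G] (hT2 : IsPGroup 2 T) {o o' t t' : G} (ho : o ∈ Pts C x₀) (ho' : o' ∈ Pts C x₀)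
    (ht : Tr C N e o t) (ht' : Tr C N e o' t') (htT : t ∈ T) (htT' : t' ∈ T) : B o o' = 1 := by
  by_contra h1
  have h1 := ne_of h1
  have hoN := h.pt_mem ho
  have ho'N := h.pt_mem ho'
  have h1' : B o' o = -1 := by rw [F.symm o' ho'N o hoN, h1]
  have hc := h.comm o hoN o' ho'N
  have a1 : t * o' * t⁻¹ = o' * o := by have := h.neg F ho ht ho'N h1; rwa [he1, mul_one] at this
  have a2 : t' * o * t'⁻¹ = o * o' := by have := h.neg F ho' ht' hoN h1'; rwa [he1, mul_one] at this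
  have a3 : t * o * t⁻¹ = o := (F.tv o ho t ht o hoN).1 (F.self o hoN)
  have a4 : t' * o' * t'⁻¹ = o' := (F.tv o' ho' t' ht' o' ho'N).1 (F.self o' ho'N)
  have b1 : t * t' * o' * (t * t')⁻¹ = o' * o := by
    calc t * t' * o' * (t * t')⁻¹ = t * (t' * o' * t'⁻¹) * t⁻¹ := by group
      _ = o' * o := by rw [a4, a1]
  have b2 : t * t' * o * (t * t')⁻¹ = o' := by
    calc t * t' * o * (t * t')⁻¹ = t * (t' * o * t'⁻¹) * t⁻¹ := by group
      _ = t * o * t⁻¹ * (t * o' * t⁻¹) := by rw [a2]; group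
      _ = o' := by rw [a3, a1, ← hc, ← mul_assoc, h.sq o hoN, one_mul]
  have b4 : t * t' * (o' * o) * (t * t')⁻¹ = o := by
    calc t * t' * (o' * o) * (t * t')⁻¹ = t * t' * o' * (t * t')⁻¹ * (t * t' * o * (t * t')⁻¹) := by group
      _ = o' * o * o' := by rw [b1, b2]
      _ = o := by rw [← hc, mul_assoc, h.sq o' ho'N, mul_one]
  have b3 : (t * t') ^ 3 * o' * ((t * t') ^ 3)⁻¹ = o' := by
    calc (t * t') ^ 3 * o' * ((t * t') ^ 3)⁻¹
        = t * t' * (t * t' * (t * t' * o' * (t * t')⁻¹) * (t * t')⁻¹) * (t * t')⁻¹ := by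
          rw [pow_succ, pow_two]; group
      _ = o' := by rw [b1, b4, b2]
  have hgT := mul_mem htT htT'
  obtain ⟨k, hk⟩ := hT2 ⟨t * t', hgT⟩
  have hk' : (t * t') ^ 2 ^ k = 1 := by simpa using congrArg Subtype.val hk
  have hcop : Nat.Coprime 3 (orderOf (t * t')) :=
    Nat.Coprime.coprime_dvd_right (orderOf_dvd_of_pow_eq_one hk') (Nat.Coprime.pow_right _ (by norm_num))
  obtain ⟨m, hm⟩ := exists_pow_eq_self_of_coprime hcop
  have h3 : Commute ((t * t') ^ 3) o' := by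
    change (t * t') ^ 3 * o' = o' * (t * t') ^ 3
    calc (t * t') ^ 3 * o' = (t * t') ^ 3 * o' * ((t * t') ^ 3)⁻¹ * (t * t') ^ 3 := by group
      _ = o' * (t * t') ^ 3 := by rw [b3]
  have h4 := h3.pow_left m
  rw [hm] at h4
  have h5 : t * t' * o' * (t * t')⁻¹ = o' := by rw [h4.eq]; group
  rw [b1] at h5
  exact h.pt_ne_one F ho (mul_eq_left.1 h5)

/-- **(4) of #18145** -/
theorem hyp [Finite G] (hT2 : IsPGroup 2 T) (hna : B x₀ a = -1)
    (hfix : ∀ n ∈ N, (∀ t ∈ T, t * n * t⁻¹ = n) → n = 1 ∨ n = x₀ ∨ n = v ∨ n = x₀ * v) :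
    ∀ n ∈ N, n = 1 ∨ n = x₀ ∨ n = a ∨ n = x₀ * a := by
  classical
  have haN := h.pt_mem h.a_pt
  have hxN := h.x_mem
  by_cases hc1 : ∀ p ∈ Pts C x₀, B x₀ p = 1 → p = x₀
  · -- all pairs of points are not perpendicular
    have hall : ∀ p ∈ Pts C x₀, ∀ q ∈ Pts C x₀, B p q = 1 → q = p := by
      rintro _ ⟨g, hg, rfl⟩ q hq h1
      have h2 := F.inv g hg x₀ hxN _ (h.conj_N' hg (h.pt_mem hq))
      have e1 : g * (g⁻¹ * q * g) * g⁻¹ = q := by group
      rw [e1, h1] at h2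
      rw [← e1, hc1 _ (h.conj_pt' hq hg) h2.symm]
    have hpts : ∀ p ∈ Pts C x₀, p = x₀ ∨ p = a ∨ p = x₀ * a := by
      intro p hp
      by_contra hcon
      push Not at hcon
      have h1 : B x₀ p = -1 := ne_of fun h1 => hcon.1 (hall x₀ h.x_pt p hp h1)
      have h2 : B a p = -1 := ne_of fun h1 => hcon.2.1 (hall a h.a_pt p hp h1)
      have h3 : B (x₀ * a) p = -1 := ne_of fun h1 => hcon.2.2 (hall _ h.xa_pt p hp h1)
      rw [h.mul_left F hxN haN (h.pt_mem hp), h1, h2] at h3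
      exact absurd h3 (by decide)
    intro n hn
    have hxx := h.sq x₀ hxN
    have haa := h.sq a haN
    have hc := h.comm x₀ hxN a haN
    have e1 : a * x₀ = x₀ * a := hc.symm
    have e2 : x₀ * (x₀ * a) = a := by rw [← mul_assoc, hxx, one_mul]
    have e3 : a * (x₀ * a) = x₀ := by rw [← mul_assoc, e1, mul_assoc, haa, mul_one]
    have e4 : x₀ * a * x₀ = a := by rw [← e1, mul_assoc, hxx, mul_one]
    have e5 : x₀ * a * a = x₀ := by rw [mul_assoc, haa, mul_one]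
    have e6 : x₀ * a * (x₀ * a) = 1 := by rw [← mul_assoc, e4, haa]
    refine closure_induction (p := fun x _ => x = 1 ∨ x = x₀ ∨ x = a ∨ x = x₀ * a)
      (fun q hq => Or.inr (hpts q hq)) (Or.inl rfl) ?_ ?_ (h.gen hn)
    · rintro x y _ _ (rfl | rfl | rfl | rfl) (rfl | rfl | rfl | rfl) <;>
        simp only [one_mul, mul_one, hxx, haa, e1, e2, e3, e4, e5, e6, true_or, or_true]
    · rintro x _ (rfl | rfl | rfl | rfl)
      · exact Or.inl inv_one
      · exact Or.inr (Or.inl (h.inv_eq hxN))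
      · exact Or.inr (Or.inr (Or.inl (h.inv_eq haN)))
      · exact Or.inr (Or.inr (Or.inr (h.inv_eq (mul_mem hxN haN))))
  exfalso
  push Not at hc1
  obtain ⟨p₀, hp₀, hp₀x, hp₀n⟩ := hc1
  obtain ⟨p, hp, hpx, t, htT, ht⟩ := h.exists_T F he1 hTn hT2 hp₀ hp₀n hp₀x
  have hTC : T ≤ C := h.TD.trans fun _ hd => ((h.D_iff _).1 hd).1
  have hTx : ∀ τ ∈ T, τ * x₀ * τ⁻¹ = x₀ := fun τ hτ => by
    rw [((h.D_iff τ).1 (h.TD hτ)).2]; group
  -- the orbit
  set OO : Set N := {o | ∃ τ ∈ T, (o : G) = τ * p * τ⁻¹} with hOO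
  have hO : ∀ o : N, o ∈ OO → (o : G) ∈ Pts C x₀ ∧ (o : G) ≠ x₀ ∧ (∃ s ∈ T, Tr C N e o s) ∧ B o a = 1 ∧ B o x₀ = 1 := by
    rintro o ⟨τ, hτ, h1⟩
    rw [h1]
    have hne : τ * p * τ⁻¹ ≠ x₀ := fun h2 => hpx (by
      calc p = τ⁻¹ * (τ * p * τ⁻¹) * τ := by group
        _ = τ⁻¹ * (τ * x₀ * τ⁻¹) * τ := by rw [h2, hTx τ hτ]
        _ = x₀ := by group)
    have hpt := h.conj_pt hp (hTC hτ)
    have htr := h.conj_tr ht (hTC hτ)
    have hmem := mul_mem (mul_mem hτ htT) (inv_mem hτ)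
    exact ⟨hpt, hne, ⟨_, hmem, htr⟩, h.claimA F he1 hTn hpt hne htr hmem,
      (F.tv _ hpt _ htr x₀ hxN).2 (hTx _ hmem)⟩
  letI : CommGroup N :=
    { (inferInstance : Group N) with
      mul_comm := fun a b => Subtype.ext (h.comm a a.2 b b.2) }
  set O : Finset N := (Set.toFinite OO).toFinset with hOdef
  have hOmem : ∀ o, o ∈ O ↔ o ∈ OO := fun o => by rw [hOdef, Set.Finite.mem_toFinset]
  set s : N := ∏ o ∈ O, o with hs
  -- `s` is fixed by `T`
  have hsT : ∀ τ ∈ T, τ * (s : G) * τ⁻¹ = s := by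
    intro τ hτ
    let c : N →* N :=
      { toFun := fun n => ⟨τ * n * τ⁻¹, h.conj_N (hTC hτ) n.2⟩
        map_one' := Subtype.ext (by simp)
        map_mul' := fun m n => Subtype.ext (by
          change τ * ((m : G) * n) * τ⁻¹ = τ * m * τ⁻¹ * (τ * n * τ⁻¹)
          group) }
    have h1 : c s = s := by
      rw [hs, map_prod]
      refine Finset.prod_nbij (fun n => c n) ?_ ?_ ?_ (fun _ _ => rfl)
      · intro o ho
        rw [hOmem] at ho ⊢
        obtain ⟨τ', hτ', h2⟩ := ho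
        refine ⟨τ * τ', mul_mem hτ hτ', ?_⟩
        change τ * (o : G) * τ⁻¹ = _
        rw [h2]; group
      · intro m _ n _ h2
        have h3 : τ * (m : G) * τ⁻¹ = τ * (n : G) * τ⁻¹ := congrArg Subtype.val h2
        exact Subtype.ext (mul_left_cancel (mul_right_cancel h3))
      · intro o ho
        rw [Finset.mem_coe, hOmem] at ho
        obtain ⟨τ', hτ', h2⟩ := ho
        refine ⟨⟨τ⁻¹ * o * τ, h.conj_N' (hTC hτ) o.2⟩, ?_, ?_⟩
        · rw [Finset.mem_coe, hOmem]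
          refine ⟨τ⁻¹ * τ', mul_mem (inv_mem hτ) hτ', ?_⟩
          change τ⁻¹ * (o : G) * τ = _
          rw [h2]; group
        · apply Subtype.ext
          change τ * (τ⁻¹ * (o : G) * τ) * τ⁻¹ = o
          group
    exact congrArg Subtype.val h1
  -- products of values of the form
  have hprod : ∀ q ∈ N, B s q = ∏ o ∈ O, B (o : G) q := by
    intro q hq
    let φ : N →* ℤˣ :=
      { toFun := fun n => B n q
        map_one' := h.one_l F hq
        map_mul' := fun m n => h.mul_left F m.2 n.2 hq }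
    exact map_prod φ _ _
  have hsa : B s a = 1 := by
    rw [hprod a haN]
    exact Finset.prod_eq_one fun o ho => (hO o ((hOmem o).1 ho)).2.2.2.1
  have hxa : B x₀ a ≠ 1 := by rw [hna]; exact neg_ne
  have hs1 : ∀ q ∈ N, B s q = 1 := by
    rcases hfix s s.2 hsT with h1 | h1 | h1 | h1
    · intro q hq
      rw [h1]; exact h.one_l F hq
    · exact absurd (h1 ▸ hsa) hxa
    · intro q hq
      have hvN : v ∈ N := h1 ▸ s.2
      rw [h1]; exact h.v_l F hvN hq
    · have h2 : x₀ * v ∈ N := h1 ▸ s.2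
      have hvN : v ∈ N := (N.mul_mem_cancel_left hxN).1 h2
      rw [h1, h.mul_left F hxN hvN haN, h.v_l F hvN haN, mul_one] at hsa
      exact absurd hsa hxa
  -- the element `q`
  obtain ⟨g, hg, hgp⟩ := hp
  have hDC : ∀ d ∈ D, d ∈ C := fun d hd => ((h.D_iff d).1 hd).1
  have hDx : ∀ d ∈ D, d * x₀ * d⁻¹ = x₀ := fun d hd => by rw [((h.D_iff d).1 hd).2]; group
  have hTo : ¬ 2 ∣ T.relIndex D := fun h3 =>
    h.T_odd (h3.trans (Dvd.intro _ (relIndex_mul_relIndex T D C h.TD fun d hd => hDC d hd)))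
  let A : Subgroup G :=
    { carrier := {x | x ∈ D ∧ g * x * g⁻¹ ∈ T}
      one_mem' := ⟨one_mem _, by simp⟩
      mul_mem' := by
        rintro x y ⟨hx, hx'⟩ ⟨hy, hy'⟩
        refine ⟨mul_mem hx hy, ?_⟩
        have e1 : g * (x * y) * g⁻¹ = g * x * g⁻¹ * (g * y * g⁻¹) := by group
        rw [e1]; exact mul_mem hx' hy'
      inv_mem' := by
        rintro x ⟨hx, hx'⟩
        refine ⟨inv_mem hx, ?_⟩
        have e1 : g * x⁻¹ * g⁻¹ = (g * x * g⁻¹)⁻¹ := by group
        rw [e1]; exact inv_mem hx' }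
  have hA2 : IsPGroup 2 A := by
    intro x
    obtain ⟨k, hk⟩ := hT2 ⟨g * (x : G) * g⁻¹, x.2.2⟩
    have hk' : (g * (x : G) * g⁻¹) ^ 2 ^ k = 1 := by simpa using congrArg Subtype.val hk
    rw [conj_pow] at hk'
    refine ⟨k, Subtype.ext ?_⟩
    have h1 : (x : G) ^ 2 ^ k = g⁻¹ * (g * (x : G) ^ 2 ^ k * g⁻¹) * g := by group
    push_cast
    rw [h1, hk']; group
  obtain ⟨d, hd, hdA⟩ := exists_conj_mem hT2 h.TD hTo (fun x (hx : x ∈ A) => hx.1) hA2
  -- `g' = g d⁻¹`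
  set g' := g * d⁻¹ with hg'
  have hg'C : g' ∈ C := mul_mem hg (inv_mem (hDC d hd))
  have hg'x : g' * x₀ * g'⁻¹ = p := by
    have h1 := hDx d⁻¹ (inv_mem hd)
    calc g' * x₀ * g'⁻¹ = g * (d⁻¹ * x₀ * d⁻¹⁻¹) * g⁻¹ := by rw [hg']; group
      _ = p := by rw [h1, hgp]
  set q := g' * a * g'⁻¹ with hq
  have hqN : q ∈ N := h.conj_N hg'C haN
  have hpN : p ∈ N := by rw [← hg'x]; exact h.conj_N hg'C hxN
  have hpq : B p q = -1 := by
    rw [← hg'x, hq, F.inv g' hg'C x₀ hxN a haN, hna]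
  have hoq : ∀ o : N, o ∈ OO → (o : G) ≠ p → B (o : G) q = 1 := by
    intro o ho hne
    obtain ⟨ho1, ho2, ⟨so, hsoT, hso⟩, -, -⟩ := hO o ho
    have hppt : p ∈ Pts C x₀ := ⟨g, hg, hgp⟩
    have hperp : B (o : G) p = 1 := h.perp_of_T F he1 hTn hT2 ho1 hppt hso ht hsoT htT
    have h1 : so * p * so⁻¹ = p := (F.tv _ ho1 _ hso p hpN).1 hperp
    -- `g⁻¹ so g ∈ A`
    have h2 : g⁻¹ * so * g ∈ A := by
      refine ⟨(h.D_iff _).2 ⟨mul_mem (mul_mem (inv_mem hg) (hTC hsoT)) hg, ?_⟩, ?_⟩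
      · calc g⁻¹ * so * g * x₀ = g⁻¹ * (so * (g * x₀ * g⁻¹) * so⁻¹) * so * g := by group
          _ = g⁻¹ * (g * x₀ * g⁻¹) * so * g := by rw [← hgp, h1]
          _ = x₀ * (g⁻¹ * so * g) := by group
      · have e1 : g * (g⁻¹ * so * g) * g⁻¹ = so := by group
        rw [e1]; exact hsoT
    have h3 := hdA _ h2
    have e2 : d * (g⁻¹ * so * g) * d⁻¹ = g'⁻¹ * so * g' := by rw [hg']; group
    rw [e2] at h3
    have h4 := h.conj_tr hso (inv_mem hg'C)
    rw [inv_inv] at h4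
    have h5 : g'⁻¹ * (o : G) * g' ≠ x₀ := fun h5 => hne (by
      rw [← hg'x, ← h5]; group)
    have h6 := h.claimA F he1 hTn (h.conj_pt' ho1 hg'C) h5 h4 h3
    have h7 := F.inv g' hg'C _ (h.conj_N' hg'C o.2) a haN
    have e3 : g' * (g'⁻¹ * (o : G) * g') * g'⁻¹ = o := by group
    rw [e3, h6] at h7
    exact h7
  have h1 := hs1 q hqN
  rw [hprod q hqN] at h1
  have hpO : (⟨p, hpN⟩ : N) ∈ O := by
    rw [hOmem]
    exact ⟨1, one_mem _, by simp⟩
  rw [← Finset.mul_prod_erase O _ hpO, Finset.prod_eq_one fun o ho => ?_, mul_one] at h1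
  · change B p q = 1 at h1
    rw [hpq] at h1
    exact absurd h1 neg_ne
  · rw [Finset.mem_erase, hOmem] at ho
    exact hoq o ho.2 fun h2 => ho.1 (Subtype.ext h2)

end frm

end TUn

end Cfsg.Agent.Omega.OM.KTwo.StrSp

end

section


/-!
# CARD #18791: section 0 of helper918 #19487 over `Fr` ((gl) and (sp))

`Fr.sec0` : if some element of `C_i` acts on `N_i` as a transvection with centre `r ∈ {v (i+1), v (i+1) v i}`, then
`N_i = HU i` and `v i ∉ N_i` (the general linear case), or `SpF T V v i r` (the symplectic case).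
-/

set_option autoImplicit false
set_option linter.unusedSectionVars false

namespace Cfsg.Agent.Omega.TC

open Subgroup Cfsg Cfsg.Agent.ZN Cfsg.Agent.Omega.MinPar
open Cfsg.Agent.Omega.OM.KTwo (CC QQ WU NU EU FF ne_add_one eq_add_one add_one_add_one le_normalizer_V le_V
  le_o2_of_commutator)
open Cfsg.Agent.Omega.OM.KTwo.StrSp (Pts Tr TBase TUn TDat Frm exists_conj_mem)
open Cfsg.Agent.Omega.NoFF.Basic (conj_conj mem_conj conj_le_iff conj_le_centralizer comm_symm comm_mono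
  Z_le_V V_le conj_V_mul)
open Cfsg.Agent.MinSimple.VModule (mem_zc zc_le le_normalizer_o2 le_o2 o2_le o2_isPGroup
  normalizer_le_normalizer_zc)
open scoped Pointwise

universe u

variable {G : Type u} [Group G]

namespace Fr

variable [Finite G] {T : Subgroup G} {V P : Fin 2 → Subgroup G} {v : Fin 2 → G} (D : Fr T V P v)

include D

theorem s0_cent_v (i : Fin 2) {c : G} (hc : c ∈ CC v i) : c * v i = v i * c := mem_centralizer_singleton_iff.1 hc

theorem s0_N_mul_self (i : Fin 2) {n : G} (hn : n ∈ NU V v i) : n * n = 1 := by rw [← pow_two]; exact D.N_sq i n hn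

theorem s0_N_inv (i : Fin 2) {n : G} (hn : n ∈ NU V v i) : n⁻¹ = n := inv_eq_of_mul_eq_one_left (D.s0_N_mul_self i hn)

theorem s0_N_mul_comm (i : Fin 2) {n m : G} (hn : n ∈ NU V v i) (hm : m ∈ NU V v i) : n * m = m * n :=
  (mem_centralizer_iff.1 (D.N_comm i hn) m hm).symm

/-- an element of `C_i` whose commutators with `N_i` lie in `⟨v (i+1) e⟩` is trivial or a transvection -/
theorem s0_tr_or (i : Fin 2) {r e x : G} (hr : r = v (i + 1) * e) (he : e * e = 1) (hre : v (i + 1) * e = e * v (i + 1))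
    (hx : x ∈ CC v i)
    (hxr : ∀ n ∈ NU V v i, n * x * n⁻¹ * x⁻¹ ∈ zpowers r) :
    (∀ n ∈ NU V v i, x * n * x⁻¹ = n) ∨ Tr (CC v i) (NU V v i) e (v (i + 1)) x := by
  have hrr : r * r = 1 := by
    rw [hr]
    calc v (i + 1) * e * (v (i + 1) * e) = v (i + 1) * e * (e * v (i + 1)) := by rw [← hre]
      _ = v (i + 1) * (e * e) * v (i + 1) := by group
      _ = 1 := by rw [he, mul_one, D.v_sq]
  by_cases h1 : ∀ n ∈ NU V v i, x * n * x⁻¹ = n
  · exact Or.inl h1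
  right
  push Not at h1
  refine ⟨hx, fun n hn => ?_, h1⟩
  have h2 := hxr n hn
  have h3 : n * x * n⁻¹ * x⁻¹ = 1 ∨ n * x * n⁻¹ * x⁻¹ = r := by
    obtain ⟨k, hk⟩ := mem_zpowers_iff.1 h2
    rcases Int.even_or_odd' k with ⟨m, rfl | rfl⟩
    · left
      rw [← hk, zpow_mul, zpow_two, hrr, one_zpow]
    · right
      rw [← hk, zpow_add, zpow_mul, zpow_two, hrr, one_zpow, zpow_one, one_mul]
  have h4 : x * n * x⁻¹ = (n * x * n⁻¹ * x⁻¹)⁻¹ * n := by group
  -- both `n`, `x n x⁻¹` in `N`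
  have h5 : x * n * x⁻¹ = n⁻¹ * (n * x * n⁻¹ * x⁻¹) := by
    have h6 : x * n⁻¹ * x⁻¹ = n⁻¹ * (n * x * n⁻¹ * x⁻¹) := by group
    rw [D.s0_N_inv i hn] at h6 ⊢
    exact h6
  rcases h3 with h3 | h3
  · left
    rw [h5, h3, mul_one, D.s0_N_inv i hn]
  · right
    rw [h5, h3, D.s0_N_inv i hn, hr]

/-- `v (i+1)` is not conjugate to `v (i+1) v i` in `C_i` -/
theorem s0_zz (i : Fin 2) : ∀ p ∈ Pts (CC v i) (v (i + 1)), p * v i ∉ Pts (CC v i) (v (i + 1)) := by
  have key : ∀ c ∈ CC v i, c * v (i + 1) * c⁻¹ ≠ v (i + 1) * v i := by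
    intro c hc h1
    have hci := D.conj_v i hc
    -- `c` normalises `⟨v 0, v 1⟩`
    have hDC := D.cent_zc_le i
    have hTD := D.T_le_D
    have hDiff := fun {d : G} => D.mem_D_iff (ne_add_one i) (c := d)
    -- `D^c = D`
    have hcD : ∀ d ∈ centralizer (zc T : Set G), c * d * c⁻¹ ∈ centralizer (zc T : Set G) := by
      intro d hd
      obtain ⟨h2, h3⟩ := hDiff.1 hd
      have h2' := D.s0_cent_v i h2
      have h3' := D.s0_cent_v (i + 1) h3
      have hcc := D.s0_cent_v i hc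
      refine hDiff.2 ⟨mul_mem (mul_mem hc h2) (inv_mem hc), mem_centralizer_singleton_iff.2 ?_⟩
      -- `c d c⁻¹` centralises `c v (i+1) c⁻¹ = v (i+1) v i` and `v i`
      have h4 : c * d * c⁻¹ * (v (i + 1) * v i) = v (i + 1) * v i * (c * d * c⁻¹) := by
        rw [← h1]
        calc c * d * c⁻¹ * (c * v (i + 1) * c⁻¹) = c * (d * v (i + 1)) * c⁻¹ := by group
          _ = c * (v (i + 1) * d) * c⁻¹ := by rw [h3']
          _ = c * v (i + 1) * c⁻¹ * (c * d * c⁻¹) := by group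
      have h5 : c * d * c⁻¹ * v i = v i * (c * d * c⁻¹) :=
        D.s0_cent_v i (mul_mem (mul_mem hc h2) (inv_mem hc))
      have h6 : v (i + 1) = v (i + 1) * v i * v i := by rw [mul_assoc, D.v_sq, mul_one]
      calc c * d * c⁻¹ * v (i + 1) = c * d * c⁻¹ * (v (i + 1) * v i * v i) := by rw [← h6]
        _ = c * d * c⁻¹ * (v (i + 1) * v i) * v i := by group
        _ = v (i + 1) * v i * (c * d * c⁻¹) * v i := by rw [h4]
        _ = v (i + 1) * v i * (c * d * c⁻¹ * v i) := by group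
        _ = v (i + 1) * v i * v i * (c * d * c⁻¹) := by rw [h5]; group
        _ = v (i + 1) * (c * d * c⁻¹) := by rw [← h6]
    -- `T^c ≤ D`
    have hTcD : MulAut.conj c • T ≤ centralizer (zc T : Set G) := by
      intro x hx
      rw [mem_conj] at hx
      have h2 := hcD _ (hTD hx)
      have e : c * (c⁻¹ * x * c) * c⁻¹ = x := by group
      rwa [e] at h2
    have hTc2 : IsPGroup 2 (MulAut.conj c • T : Subgroup G) := by
      rintro ⟨x, hx⟩
      rw [mem_conj] at hx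
      obtain ⟨k, hk⟩ := D.T_isPGroup ⟨_, hx⟩
      refine ⟨k, Subtype.ext ?_⟩
      have h2 : (c⁻¹ * x * c) ^ 2 ^ k = 1 := by simpa using congrArg Subtype.val hk
      have h3 : c⁻¹ * x ^ 2 ^ k * c = 1 := by
        have e : c⁻¹ * x * c = c⁻¹ * x * c⁻¹⁻¹ := by group
        rw [e, conj_pow] at h2
        simpa using h2
      have h4 : x ^ 2 ^ k = 1 := by
        calc x ^ 2 ^ k = c * (c⁻¹ * x ^ 2 ^ k * c) * c⁻¹ := by group
          _ = 1 := by rw [h3]; group
      simpa using h4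
    have hodd : ¬ 2 ∣ T.relIndex (centralizer (zc T : Set G)) := by
      intro h2
      apply Cfsg.Agent.ZN.ChoiceSit.syl_not_dvd (D.syl i)
      rw [← relIndex_mul_relIndex T (centralizer (zc T : Set G)) _ hTD hDC]
      exact h2.mul_right _
    obtain ⟨d, hd, hdT⟩ := exists_conj_mem D.T_isPGroup hTD hodd hTcD hTc2
    -- `d c` normalises `T`
    have hn : d * c ∈ normalizer (T : Set G) := by
      refine mem_normalizer_iff.2 fun x => ?_
      have h2 : ∀ x ∈ T, d * c * x * (d * c)⁻¹ ∈ T := by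
        intro x hx
        have h3 : c * x * c⁻¹ ∈ MulAut.conj c • T := by
          rw [mem_conj]
          have e : c⁻¹ * (c * x * c⁻¹) * c = x := by group
          rwa [e]
        have h4 := hdT _ h3
        have e : d * (c * x * c⁻¹) * d⁻¹ = d * c * x * (d * c)⁻¹ := by group
        rwa [e] at h4
      have h3 : MulAut.conj (d * c) • T = T := by
        refine Subgroup.eq_of_le_of_card_ge ?_ ?_
        · intro y hy
          rw [mem_conj] at hy
          have h4 := h2 _ hy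
          have e : d * c * ((d * c)⁻¹ * y * (d * c)) * (d * c)⁻¹ = y := by group
          rwa [e] at h4
        · exact (Nat.card_congr (Subgroup.equivSMul (MulAut.conj (d * c)) T).toEquiv).le
      refine ⟨h2 x, fun hx => ?_⟩
      rw [← h3, mem_conj] at hx
      have e : (d * c)⁻¹ * (d * c * x * (d * c)⁻¹) * (d * c) = x := by group
      rwa [e] at hx
    have h2 : d * c ∈ centralizer (zc T : Set G) := D.norm_T_le i ⟨mul_mem (hDC hd) hc, hn⟩
    have h3 : c ∈ centralizer (zc T : Set G) := by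
      have := mul_mem (inv_mem hd) h2
      rwa [inv_mul_cancel_left] at this
    have h4 := D.conj_v (i + 1) (D.cent_zc_le (i + 1) h3)
    rw [h4] at h1
    exact D.ne i (mul_eq_left.1 h1.symm)
  rintro _ ⟨g, hg, rfl⟩ ⟨g', hg', h1⟩
  refine key (g⁻¹ * g') (mul_mem (inv_mem hg) hg') ?_
  calc g⁻¹ * g' * v (i + 1) * (g⁻¹ * g')⁻¹ = g⁻¹ * (g' * v (i + 1) * g'⁻¹) * g := by group
    _ = v (i + 1) * (g⁻¹ * v i * g) := by rw [← h1]; group
    _ = v (i + 1) * v i := by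
      have := D.conj_v i (inv_mem hg)
      rw [inv_inv] at this
      rw [this]

theorem s0_base (i : Fin 2) {e a x : G} (he : e = 1 ∨ e = v i) (ha : a ∈ V (i + 1)) (ha1 : a ≠ 1) (hav : a ≠ v (i + 1))
    (hx : Tr (CC v i) (NU V v i) e (v (i + 1)) x) :
    TBase (CC v i) (centralizer (zc T : Set G)) (P (i + 1)) T (NU V v i) (v i) e (v (i + 1)) a := by
  have hij : i + 1 ≠ i := (ne_add_one i).symm
  have hPC : P (i + 1) ≤ CC v i := D.PC (i + 1) i hij
  have hmv := D.mem (i + 1)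
  have hne := D.ne (i + 1)
  have hva : v (i + 1) * a ∈ V (i + 1) := mul_mem hmv ha
  have hva1 : v (i + 1) * a ≠ 1 := by
    intro h1
    apply hav
    have h2 : a = (v (i + 1))⁻¹ := (inv_eq_of_mul_eq_one_right h1).symm
    rw [h2]
    exact inv_eq_of_mul_eq_one_left (D.v_sq _)
  have hpt : ∀ y ∈ V (i + 1), y ≠ 1 → y ∈ Pts (CC v i) (v (i + 1)) := by
    intro y hy hy1
    obtain ⟨l, hl, -, h1⟩ := D.tr hij hy hy1
    exact ⟨l, hPC hl, h1.symm⟩
  refine
    { sq := fun n hn => D.s0_N_mul_self i hn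
      comm := fun n hn m hm => D.s0_N_mul_comm i hn hm
      norm := D.C_le_N_N i
      gen := ?_
      x_mem := D.mem_N i
      vC := fun c hc => D.s0_cent_v i hc
      he := he
      D_iff := fun d => ?_
      MC := hPC
      CDM := by rw [sup_comm]; exact D.gen hij
      ML := fun m hm => ?_
      a_pt := hpt a ha ha1
      xa_pt := hpt _ hva hva1
      a_ne := hav
      tau := ?_
      TD := D.T_le_D
      T_odd := Cfsg.Agent.ZN.ChoiceSit.syl_not_dvd (D.syl i)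
      tr := ⟨x, hx⟩ }
  · refine V_le fun c hc y hy => ?_
    rw [mem_conj] at hy
    by_cases hy1 : c⁻¹ * y * c = 1
    · have : y = 1 := by
        calc y = c * (c⁻¹ * y * c) * c⁻¹ := by group
          _ = 1 := by rw [hy1]; group
      rw [this]; exact one_mem _
    · obtain ⟨g, hg, h1⟩ := hpt _ hy hy1
      refine subset_closure ⟨c * g, mul_mem hc hg, ?_⟩
      calc y = c * (c⁻¹ * y * c) * c⁻¹ := by group
        _ = c * g * v (i + 1) * (c * g)⁻¹ := by rw [h1]; group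
  · rw [D.mem_D_iff (ne_add_one i)]
    exact and_congr_right fun _ => mem_centralizer_singleton_iff
  · have h1 : m * v (i + 1) * m⁻¹ ∈ V (i + 1) := (mem_normalizer_iff.1 (D.PN (i + 1) (i + 1) hm) _).1 hmv
    exact D.eq_of_V hmv hne ha ha1 (Ne.symm hav) h1 fun h => hne (conj_eq_one_iff.1 h)
  · obtain ⟨t, ht, h1⟩ := D.exists_swap ha ha1 hav
    exact ⟨t, D.T_le_D ht, by rw [h1, D.V_comm ha hmv]⟩

/-- the generated subgroup `HU i` is `x₀^⊥` -/
theorem s0_mem_HU (i : Fin 2) {e a : G} {B : G → G → ℤˣ} (ha : a ∈ V (i + 1)) (ha1 : a ≠ 1) (hav : a ≠ v (i + 1))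
    (h : TDat (CC v i) (centralizer (zc T : Set G)) (P (i + 1)) T (NU V v i) (v i) e (v (i + 1)) a)
    (F : Frm (CC v i) (NU V v i) e (v (i + 1)) B) {n : G} :
    n ∈ HU V T i ↔ n ∈ NU V v i ∧ B (v (i + 1)) n = 1 := by
  have hmv := D.mem (i + 1)
  have hne := D.ne (i + 1)
  have hx := h.x_mem
  have haN := h.pt_mem h.a_pt
  let K : Subgroup G :=
    { carrier := {n | n ∈ NU V v i ∧ B (v (i + 1)) n = 1}
      one_mem' := ⟨one_mem _, h.one_r F hx⟩
      mul_mem' := by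
        rintro a b ⟨h1, h2⟩ ⟨h3, h4⟩
        exact ⟨mul_mem h1 h3, by rw [F.mul _ hx _ h1 _ h3, h2, h4, mul_one]⟩
      inv_mem' := by
        rintro a ⟨h1, h2⟩
        rw [h.inv_eq h1]
        exact ⟨h1, h2⟩ }
  have hVK : V (i + 1) ≤ K := by
    intro y hy
    by_cases hy1 : y = 1
    · rw [hy1]; exact one_mem _
    rcases D.eq_of_V hmv hne ha ha1 (Ne.symm hav) hy hy1 with h1 | h1 | h1
    · rw [h1]; exact ⟨hx, F.self _ hx⟩
    · rw [h1]; exact ⟨haN, h.B_xa F⟩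
    · rw [h1]
      exact ⟨mul_mem hx haN, by rw [F.mul _ hx _ hx _ haN, F.self _ hx, h.B_xa F, mul_one]⟩
  have hHK : HU V T i ≤ K := by
    refine V_le fun c hc y hy => ?_
    rw [mem_conj] at hy
    have hcC := D.cent_zc_le i hc
    obtain ⟨h1, h2⟩ := hVK hy
    have h3 := h.conj_N hcC h1
    have h4 := h.D_B F hc h1
    have e1 : c * (c⁻¹ * y * c) * c⁻¹ = y := by group
    rw [e1] at h3 h4
    exact ⟨h3, by rw [h4, h2]⟩
  refine ⟨fun hn => hHK hn, fun ⟨h1, h2⟩ => ?_⟩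
  refine h.perp_le_E F (E := HU V T i) (D.V_le_H i hmv) (D.V_le_H i ha) (fun b hb => hHK hb) (fun t ht b hb => ?_) h1 h2
  exact (mem_normalizer_iff.1 (le_normalizer_V _ _ ht) b).1 hb

theorem s0_spf (i : Fin 2) {r e a : G} {B : G → G → ℤˣ} (he : e = 1 ∨ e = v i) (hr : r = v (i + 1) * e)
    (ha : a ∈ V (i + 1)) (ha1 : a ≠ 1) (hav : a ≠ v (i + 1))
    (h : TDat (CC v i) (centralizer (zc T : Set G)) (P (i + 1)) T (NU V v i) (v i) e (v (i + 1)) a)
    (F : Frm (CC v i) (NU V v i) e (v (i + 1)) B) :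
    SpF T V v i r ∧ (e = 1 → v i ∉ NU V v i) := by
  have hmv := D.mem (i + 1)
  have hne := D.ne (i + 1)
  have hx := h.x_mem
  have hee := h.ee
  have hcomm : v (i + 1) * e = e * v (i + 1) := h.comm _ hx _ h.e_mem
  have hH := fun {n : G} => D.s0_mem_HU i ha ha1 hav h F (n := n)
  have hez : e ∈ zpowers (v i) := by
    rcases he with he | he
    · rw [he]; exact one_mem _
    · rw [he]; exact mem_zpowers _
  have hrr : r ∈ zpowers r := mem_zpowers r
  have hvN : e = 1 → v i ∉ NU V v i := by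
    intro he1 hv
    rcases h.rad F hv fun w hw => h.v_l F hv hw with h1 | h1
    · exact D.ne i h1
    · exact D.ne i (h1.trans he1)
  refine ⟨{ idx := ?_, pts := ?_, cenH := ?_, Hcen := ?_, rad := ?_, inj := ?_, fixT := ?_ }, hvN⟩
  · -- idx
    obtain ⟨y, hy, h1⟩ := h.exists_nonperp F h.x_pt
    have hyN := h.pt_mem hy
    rw [relIndex_eq_two_iff]
    refine ⟨y, hyN, fun b hb => ?_⟩
    rcases Int.units_eq_one_or (B (v (i + 1)) b) with h2 | h2
    · right
      refine ⟨hH.2 ⟨hb, h2⟩, fun h3 => ?_⟩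
      have h4 := (hH.1 h3).2
      rw [F.mul _ hx _ hb _ hyN, h2, h1, one_mul] at h4
      exact absurd h4 (by decide)
    · left
      refine ⟨hH.2 ⟨mul_mem hb hyN, by rw [F.mul _ hx _ hb _ hyN, h2, h1]; decide⟩, fun h3 => ?_⟩
      rw [(hH.1 h3).2] at h2
      exact absurd h2 (by decide)
  · -- pts
    intro n hn hnv
    rcases h.points F hn with h1 | h1 | ⟨g, hg, h1⟩ | ⟨g, hg, h1⟩
    · exact absurd (by rw [h1]; exact one_mem _) hnv
    · exact absurd (by rw [h1]; exact hez) hnv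
    · exact ⟨g, hg, Or.inl h1⟩
    · refine ⟨g, hg, ?_⟩
      have h2 : n = g * v (i + 1) * g⁻¹ * e := by rw [← h1, mul_assoc, hee, mul_one]
      rcases he with he | he
      · left; rw [h2, he, mul_one]
      · right; rw [h2, he]
  · -- cenH
    intro x hxC hxH n hn
    have hfix : ∀ n ∈ NU V v i, B (v (i + 1)) n = 1 → x * n * x⁻¹ = n := by
      intro n hn h1
      have h2 := mem_centralizer_iff.1 hxH n (hH.2 ⟨hn, h1⟩)
      rw [← h2]; group
    have key : x * n * x⁻¹ = n ∨ x * n * x⁻¹ = n * r := by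
      rcases h.hyper F hxC hfix with h1 | h1
      · exact Or.inl (h1 n hn)
      · rcases Int.units_eq_one_or (B (v (i + 1)) n) with h2 | h2
        · exact Or.inl (hfix n hn h2)
        · right; rw [h1 n hn h2, hr]
    have e1 : n * x * n⁻¹ * x⁻¹ = n * (x * n * x⁻¹)⁻¹ := by group
    rw [e1]
    rcases key with h1 | h1
    · rw [h1, mul_inv_cancel]; exact one_mem _
    · have hrN : r ∈ NU V v i := by rw [hr]; exact mul_mem hx h.e_mem
      rw [h1, mul_inv_rev, h.inv_eq hrN, h.inv_eq hn, h.comm r hrN n hn, ← mul_assoc, h.sq n hn, one_mul]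
      exact hrr
  · -- Hcen
    intro x hxC hxr
    rw [mem_centralizer_iff]
    intro n hn
    obtain ⟨hnN, h1⟩ := hH.1 hn
    have h2 : x * n * x⁻¹ = n := by
      rcases D.s0_tr_or i hr hee hcomm hxC hxr with h2 | h2
      · exact h2 n hnN
      · exact (F.tv _ h.x_pt x h2 n hnN).1 h1
    calc n * x = x * n * x⁻¹ * x := by rw [h2]
      _ = x * n := by group
  · -- rad
    intro n hn hc
    have h1 : ∀ w ∈ NU V v i, B n w = 1 := by
      intro w hw
      refine h.ext (φ := fun w => B n w) (ψ := fun _ => 1) (fun _ h1 _ h2 => F.mul _ hn _ h1 _ h2)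
        (fun _ _ _ _ => by simp) (fun p hp => ?_) w hw
      obtain ⟨g, hg, rfl⟩ := hp
      have h2 := hc g hg
      rw [mem_conj] at h2
      have h3 := (hH.1 h2).2
      have h4 := F.inv g hg _ hx _ (hH.1 h2).1
      have e1 : g * (g⁻¹ * n * g) * g⁻¹ = n := by group
      rw [e1] at h4
      change B n (g * v (i + 1) * g⁻¹) = 1
      rw [F.symm n hn _ (h.conj_N hg hx), h4, h3]
    rcases h.rad F hn h1 with h2 | h2
    · rw [h2]; exact one_mem _
    · rw [h2]; exact hez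
  · -- inj
    intro c hc hcH
    have huN := h.conj_N hc hx
    have h1 := h.perp_perp F h.x_pt huN (fun w hw h1 => by
      have h2 : w ∈ HU V T i := hH.2 ⟨hw, h1⟩
      rw [← hcH, mem_conj] at h2
      obtain ⟨h3, h4⟩ := hH.1 h2
      have h5 := F.inv c hc _ hx _ h3
      have e1 : c * (c⁻¹ * w * c) * c⁻¹ = w := by group
      rw [e1] at h5
      rw [h5, h4])
    have hp : c * v (i + 1) * c⁻¹ ∈ Pts (CC v i) (v (i + 1)) := ⟨c, hc, rfl⟩
    have h2 := h.pt_ne F hp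
    have h3 : c * v (i + 1) * c⁻¹ = v (i + 1) := by
      rcases h1 with h1 | h1 | h1 | h1
      · exact absurd h1 h2.1
      · exact absurd h1 h2.2
      · exact h1
      · by_cases he1 : e = 1
        · rw [h1, he1, mul_one]
        · rw [h1] at hp
          exact absurd hp (h.not_both F he1 h.x_pt)
    refine (h.D_iff c).2 ⟨hc, ?_⟩
    calc c * v (i + 1) = c * v (i + 1) * c⁻¹ * c := by group
      _ = v (i + 1) * c := by rw [h3]
  · -- fixT
    intro n hn hT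
    obtain ⟨m, hm, w, hw, rfl⟩ := D.mem_E hn
    have hwz : w ∈ zc T := (zpowers_le.2 (D.v_mem_zc i)) hw
    refine mul_mem ?_ hwz
    have h1 : ∀ t ∈ T, t * m * t⁻¹ = m ∨ t * m * t⁻¹ = m * e := by
      intro t ht
      have hwt : w * t = t * w := ((mem_zc.1 hwz).2.1 t ht).symm
      have h2 := hT t ht
      have e1 : (m * w)⁻¹ * t * (m * w) * t⁻¹ = m⁻¹ * (t * m * t⁻¹) := by
        have hmw : m * w = w * m := by
          have := mem_centralizer_iff.1 (CC_le_cent_zpowers i (D.N_le_C i i hm)) w hw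
          exact this.symm
        calc (m * w)⁻¹ * t * (m * w) * t⁻¹ = (w * m)⁻¹ * t * (w * m) * t⁻¹ := by rw [hmw]
          _ = m⁻¹ * w⁻¹ * (t * w) * m * t⁻¹ := by group
          _ = m⁻¹ * w⁻¹ * (w * t) * m * t⁻¹ := by rw [hwt]
          _ = m⁻¹ * (t * m * t⁻¹) := by group
      rw [e1] at h2
      rcases D.mem_zpv h2 with h3 | h3
      · left
        calc t * m * t⁻¹ = m * (m⁻¹ * (t * m * t⁻¹)) := by group
          _ = m := by rw [h3, mul_one]
      · have h4 : t * m * t⁻¹ = m * v i := by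
          calc t * m * t⁻¹ = m * (m⁻¹ * (t * m * t⁻¹)) := by group
            _ = m * v i := by rw [h3]
        rcases he with he1 | he1
        · exfalso
          apply hvN he1
          have h5 := mul_mem (inv_mem hm) (h.conj_N (D.T_le_C i ht) hm)
          rwa [h3] at h5
        · right; rw [h4, he1]
    have hxz := D.v_mem_zc (i + 1)
    have hez' : e ∈ zc T := (zpowers_le.2 (D.v_mem_zc i)) hez
    rcases h.mem_XX.1 (h.fix_T F hm h1) with h2 | h2 | h2 | h2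
    · rw [h2]; exact one_mem _
    · rw [h2]; exact hez'
    · rw [h2]; exact hxz
    · rw [h2]; exact mul_mem hxz hez'

/-- **section 0 of #19487** -/
theorem sec0 (i : Fin 2) {r : G} (hr : r = v (i + 1) ∨ r = v (i + 1) * v i) {x : G} (hx : x ∈ CC v i)
    (hxN : ¬ x ∈ centralizer (NU V v i : Set G)) (hxr : ∀ n ∈ NU V v i, n * x * n⁻¹ * x⁻¹ ∈ zpowers r) :
    (NU V v i = HU V T i ∧ v i ∉ NU V v i) ∨ (SpF T V v i r ∧ (r = v (i + 1) → v i ∉ NU V v i)) := by
  obtain ⟨a, ha, ha1, hav⟩ := D.exists_ne_v (i + 1)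
  obtain ⟨e, he, hr'⟩ : ∃ e, (e = 1 ∨ e = v i) ∧ r = v (i + 1) * e := by
    rcases hr with hr | hr
    · exact ⟨1, Or.inl rfl, by rw [hr, mul_one]⟩
    · exact ⟨v i, Or.inr rfl, hr⟩
  have hee : e * e = 1 := by
    rcases he with he | he
    · rw [he, mul_one]
    · rw [he]; exact D.v_sq i
  have hcomm : v (i + 1) * e = e * v (i + 1) := by
    rcases he with he | he
    · rw [he]; group
    · rw [he]
      exact D.comm_v i (D.v_mem_T (i + 1))
  have htr : Tr (CC v i) (NU V v i) e (v (i + 1)) x := by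
    refine (D.s0_tr_or i hr' hee hcomm hx hxr).resolve_left fun h1 => hxN ?_
    rw [mem_centralizer_iff]
    intro n hn
    calc n * x = x * n * x⁻¹ * x := by rw [h1 n hn]
      _ = x * n := by group
  have h := D.s0_base i he ha ha1 hav htr
  have hmv := D.mem (i + 1)
  by_cases huniq : ∀ t t', Tr (CC v i) (NU V v i) e (v (i + 1)) t → Tr (CC v i) (NU V v i) e (v (i + 1)) t' →
      ∀ n ∈ NU V v i, t * n * t⁻¹ = t' * n * t'⁻¹
  · right
    have hU : TUn (CC v i) (centralizer (zc T : Set G)) (P (i + 1)) T (NU V v i) (v i) e (v (i + 1)) a :=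
      { h with uniq := huniq }
    obtain ⟨B, F⟩ := hU.exists_frm
    have hti : ∀ t, Tr (CC v i) (NU V v i) e (v (i + 1)) t → t * a * t⁻¹ = a := by
      rcases he with he1 | he1
      · -- `e = 1`
        intro t ht
        have haN := h.pt_mem h.a_pt
        by_contra h1
        have hna : B (v (i + 1)) a = -1 := by
          rcases Int.units_eq_one_or (B (v (i + 1)) a) with h2 | h2
          · exact absurd ((F.tv _ h.x_pt t ht a haN).1 h2) h1
          · exact h2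
        have h2 := hU.hyp F he1 (fun t ht => ?_) D.T_isPGroup hna (fun n hn hT => ?_)
        · -- `N = V (i+1)`
          have h3 : NU V v i ≤ V (i + 1) := by
            intro n hn
            rcases h2 n hn with h4 | h4 | h4 | h4
            · rw [h4]; exact one_mem _
            · rw [h4]; exact hmv
            · rw [h4]; exact ha
            · rw [h4]; exact mul_mem hmv ha
          have h4 : NU V v i = V (i + 1) := le_antisymm h3 (D.V_le_N i)
          have h5 : CC v i ≤ normalizer (V (i + 1) : Set G) := by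
            have := D.C_le_N_N i
            rwa [h4] at this
          refine D.comp (i + 1) fun c hc => ⟨1, one_mem _, c, ?_, by group⟩
          have h6 : CC v (i + 1) ≤ normalizer (V (i + 1) : Set G) :=
            (D.gen (ne_add_one i)).trans (sup_le (D.PN i (i + 1)) ((D.cent_zc_le i).trans h5))
          exact h6 hc
        · have h3 : t * a * t⁻¹ ∈ V (i + 1) := (mem_normalizer_iff.1 (D.T_le_N (i + 1) ht) _).1 ha
          have h4 : t * a * t⁻¹ ≠ 1 := fun h5 => ha1 (conj_eq_one_iff.1 h5)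
          rcases D.eq_of_V hmv (D.ne _) ha ha1 (Ne.symm hav) h3 h4 with h5 | h5 | h5
          · exfalso
            have h6 := D.cen (i + 1) ht
            apply hav
            have h7 : t * a * t⁻¹ = t * v (i + 1) * t⁻¹ := by rw [h5, h6]
            exact mul_left_cancel (mul_right_cancel h7)
          · exact Or.inl h5
          · exact Or.inr h5
        · have h3 : n ∈ zc T := by
            refine mem_zc.2 ⟨D.N_le_T i hn, fun t ht => ?_, D.N_sq i n hn⟩
            calc t * n = t * n * t⁻¹ * t := by group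
              _ = n * t := by rw [hT t ht]
          rcases (D.zT n).1 h3 with h4 | h4 | h4 | h4
          · exact Or.inl h4
          · rcases Fin.exists_fin_two.1 ⟨i, rfl⟩ with h5 | h5
            · right; right; left; rw [h4, h5]
            · right; left; rw [h4, h5]; rfl
          · rcases Fin.exists_fin_two.1 ⟨i, rfl⟩ with h5 | h5
            · right; left; rw [h4, h5]; rfl
            · right; right; left; rw [h4, h5]
          · right; right; right
            rcases Fin.exists_fin_two.1 ⟨i, rfl⟩ with h5 | h5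
            · rw [h4, h5]
              exact D.comm_v 1 (D.v_mem_T 0)
            · rw [h4, h5]; rfl
      · exact fun t ht => hU.ti_of_zz he1 (D.s0_zz i) ht
    have hD : TDat (CC v i) (centralizer (zc T : Set G)) (P (i + 1)) T (NU V v i) (v i) e (v (i + 1)) a :=
      { hU with ti := hti }
    obtain ⟨h1, h2⟩ := D.s0_spf i he hr' ha ha1 hav hD F
    refine ⟨h1, fun h3 => h2 ?_⟩
    rw [h3] at hr'
    exact mul_eq_left.1 hr'.symm
  · left
    have hno : ∃ t t', Tr (CC v i) (NU V v i) e (v (i + 1)) t ∧ Tr (CC v i) (NU V v i) e (v (i + 1)) t' ∧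
        ∃ n ∈ NU V v i, t * n * t⁻¹ ≠ t' * n * t'⁻¹ := by
      push Not at huniq
      obtain ⟨t, t', h1, h2, n, hn, h3⟩ := huniq
      exact ⟨t, t', h1, h2, n, hn, h3⟩
    have he1 := h.gl_e hno (D.s0_zz i)
    refine ⟨le_antisymm ?_ (D.H_le_N i), h.gl_v hno he1 (D.ne i)⟩
    refine h.gl_E hno he1 (E := HU V T i) (D.V_le_H i hmv) (D.V_le_H i ha) fun t ht b hb => ?_
    exact (mem_normalizer_iff.1 (le_normalizer_V _ _ ht) b).1 hb

end Fr

end Cfsg.Agent.Omega.TC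

end

end
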